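import Cfsg.Agent.Lib.Classical.TensorWreathS.PairRoot
import Cfsg.Agent.Lib.Classical.QuadPairInvol.Basic

set_option autoImplicit false
set_option linter.unusedSectionVars false

/-!
The second factor of dimension at least three: every contraction of a root is scalar.
-/

namespace CfsgLib.Classical.TensorWreathS.Pair

open Matrix CfsgLib.Classical.TensorMax
open CfsgLib.Classical.TensorMixed (Zm Np Tp tp_mulVec kr_kc_mul sp_of_form Rad Small ScalarLevels)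
open CfsgLib.Classical.TensorSymp (adj Sp kr_mul_apply kc_mul_apply eq_of_mul_kc_all AForm)
open scoped MatrixGroups Kronecker

variable {F : Type*} [Field F] [Finite F] {α β : Type} [Fintype α] [DecidableEq α] [Fintype β] [DecidableEq β]
variable {JA : Matrix α α F} {JB : Matrix β β F} {M : Subgroup (GL (α × β) F)}
variable {Y : Matrix (α × β) (α × β) F}

theorem exists_factor_of_range {ι κ : Type} [Fintype ι] [DecidableEq ι] [Fintype κ] [DecidableEq κ]
    {A : Matrix ι κ F} {B : Matrix ι ι F} (h : LinearMap.range B.mulVecLin ≤ LinearMap.range A.mulVecLin) :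
    ∃ G : Matrix κ ι F, B = A * G := by
  choose g hg using fun j : ι => h (LinearMap.mem_range_self B.mulVecLin (Pi.single j (1 : F)))
  refine ⟨Matrix.of fun a j => g j a, Matrix.ext_of_mulVec_single fun j => ?_⟩
  rw [← Matrix.mulVec_mulVec, Matrix.mulVec_single_one (Matrix.of _), ← Matrix.mulVecLin_apply B, ← hg j]
  rfl

theorem exists_two_factor {ι : Type} [Fintype ι] [DecidableEq ι] {X Y Z : Matrix ι ι F}
    (h : LinearMap.range Z.mulVecLin ≤ LinearMap.range X.mulVecLin ⊔ LinearMap.range Y.mulVecLin) :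
    ∃ P Q : Matrix ι ι F, Z = X * P + Y * Q := by
  have h' : ∀ j, ∃ p q, Z *ᵥ Pi.single j (1 : F) = X *ᵥ p + Y *ᵥ q := fun j => by
    obtain ⟨_, ⟨p, rfl⟩, _, ⟨q, rfl⟩, e⟩ :=
      Submodule.mem_sup.1 (h (LinearMap.mem_range_self Z.mulVecLin (Pi.single j (1 : F))))
    exact ⟨p, q, e.symm⟩
  choose p q hpq using h'
  refine ⟨Matrix.of fun a j => p j a, Matrix.of fun a j => q j a, Matrix.ext_of_mulVec_single fun j => ?_⟩
  rw [Matrix.add_mulVec, ← Matrix.mulVec_mulVec, ← Matrix.mulVec_mulVec, Matrix.mulVec_single_one (Matrix.of _),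
    Matrix.mulVec_single_one (Matrix.of _), hpq j]
  rfl

namespace Hyp

variable (H : Hyp (-1 : F) JA JB M)
include H

theorem eq_zero_of_kr_J {γ : Type} [Fintype γ] {Z : Matrix (α × β) γ F}
    (h : ∀ a : β → F, kr α (JB *ᵥ a) * Z = 0) : Z = 0 :=
  eq_zero_of_kr fun φ => by obtain ⟨a, rfl⟩ := H.surjB φ; exact h a

theorem kron_inj {T T' : Matrix β β F} (h : (1 : Matrix α α F) ⊗ₖ T = (1 : Matrix α α F) ⊗ₖ T') : T = T' := by
  haveI := H.nonempty_left
  exact TensorOrth.kron_left_cancel one_ne_zero h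

/-- The reflection of a hyperbolic plane. -/
theorem exists_plane_refl {w z : β → F} (wz : (JB *ᵥ w) ⬝ᵥ z = 1) :
    ∃ S : Matrix β β F, Sp JB S ∧ S * S = 1 ∧ S *ᵥ w = -w ∧
      ∀ y, (JB *ᵥ w) ⬝ᵥ y = 0 → ∃ c : F, S *ᵥ y = y + c • w := by
  have zw : (JB *ᵥ z) ⬝ᵥ w = -1 := by rw [H.swapB, wz, mul_one]
  obtain ⟨S, hS⟩ : ∃ S : Matrix β β F, S = 1 - (2 : F) • (Matrix.vecMulVec z (JB *ᵥ w) -
      Matrix.vecMulVec w (JB *ᵥ z)) := ⟨_, rfl⟩
  have hv : ∀ y, S *ᵥ y = y - (2 * ((JB *ᵥ w) ⬝ᵥ y)) • z + (2 * ((JB *ᵥ z) ⬝ᵥ y)) • w := fun y => by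
    rw [hS, Matrix.sub_mulVec, Matrix.one_mulVec, Matrix.smul_mulVec, Matrix.sub_mulVec, Matrix.vecMulVec_mulVec,
      Matrix.vecMulVec_mulVec, op_smul_eq_smul, op_smul_eq_smul, smul_sub, smul_smul, smul_smul]
    abel
  refine ⟨S, sp_of_form fun x y => ?_, Matrix.ext_iff_mulVec.2 fun y => ?_, ?_, fun y hy =>
    ⟨2 * ((JB *ᵥ z) ⬝ᵥ y), ?_⟩⟩
  · rw [hv, hv]
    simp only [Matrix.mulVec_add, Matrix.mulVec_sub, Matrix.mulVec_smul, add_dotProduct, sub_dotProduct,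
      smul_dotProduct, dotProduct_add, dotProduct_sub, dotProduct_smul, smul_eq_mul, H.selfB, wz, zw, H.swapB x w,
      H.swapB x z]
    ring
  · rw [← Matrix.mulVec_mulVec, hv, Matrix.one_mulVec, hv]
    simp only [dotProduct_add, dotProduct_sub, dotProduct_smul, smul_eq_mul, H.selfB, wz, zw]
    module
  · rw [hv, H.selfB, zw]
    module
  · rw [hv, hy, mul_zero, zero_smul, sub_zero]

end Hyp

namespace Sys

variable (H : Sys JA JB M)
include H

set_option maxHeartbeats 1000000 in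
/-- The image of a root with a contraction which is not nilpotent lies over a plane. -/
theorem exists_plane (h3 : 3 ≤ Fintype.card β) {w : β → F} (hw0 : w ≠ 0) (hY : Root M Y)
    (hn : ∀ n, contr JB w Y ^ n ≠ 0) :
    ∃ v, (JB *ᵥ w) ⬝ᵥ v = 1 ∧ ∀ f : β → F, f ⬝ᵥ w = 0 → f ⬝ᵥ v = 0 → kr α f * Y = 0 := by
  haveI := H.nonempty_left
  haveI := H.nonempty_right
  have hw := H.selfB w
  obtain ⟨p, hp, hcp⟩ := TensorWreath.ringChar_prime (F := F)
  haveI := Fact.mk hp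
  haveI := hcp
  have hp2 : p ≠ 2 := fun e => by subst e; exact H.two (CharP.cast_eq_zero F 2)
  obtain ⟨z₀, wz, zw, -⟩ := H.exists_dual hw hw0
  obtain ⟨θ, hθ⟩ := exists_dual_one hw0
  obtain ⟨X, hXdef⟩ : ∃ X : Matrix (α × β) (α × β) F, X = Zm JB w 1 := ⟨_, rfl⟩
  have hXr : Root M X := by rw [hXdef]; exact H.root_zm w
  obtain ⟨x, hxM, hx, -⟩ := hXr.exists_unit
  obtain ⟨y, hyM, hy, -⟩ := hY.exists_unit
  have hnp : ¬ IsPGroup p (Subgroup.closure ({x, y} : Set (GL (α × β) F))) := fun hP => by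
    obtain ⟨n, hn'⟩ := H.nilpotent_of_pGroup hw0 hY (hXdef ▸ hx) hy hP
    exact hn n hn'
  obtain ⟨z, hz, hz2, hz1⟩ := QuadPairInvol.exists_invol hp2 hXr.sq hY.sq hx hy hnp
  obtain ⟨cX, cY⟩ := QuadPairInvol.invol_comm H.two hXr.sq hY.sq hx hy hz hz2
  have hzM : z ∈ M := (Subgroup.closure_le M).2 (Set.insert_subset hxM (Set.singleton_subset_iff.2 hyM)) hz
  have hzz : z.1 * z.1 = 1 := by rw [← Units.val_mul, hz2, Units.val_one]
  -- the action on `F^α ⊗ w`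
  have hXz : X * kc α z₀ = kc α w := by rw [hXdef, H.zm_mul_kc, wz, one_smul, Matrix.mul_one]
  obtain ⟨A, hAdef⟩ : ∃ A, A = kr α (JB *ᵥ w) * z.1 * kc α z₀ := ⟨_, rfl⟩
  have hA : z.1 * kc α w = kc α w * A := by
    rw [← hXz, ← Matrix.mul_assoc, cX, hXz, hAdef, hXdef, Zm, Matrix.mul_one]
    simp only [Matrix.mul_assoc]
  have hAA : A * A = 1 := kc_cancel hw0 (by
    rw [← Matrix.mul_assoc, ← hA, Matrix.mul_assoc, ← hA, ← Matrix.mul_assoc, hzz, Matrix.one_mul, Matrix.mul_one])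
  -- the vectors killed by both are fixed
  have hfix : ∀ {V : Matrix (α × β) α F}, X * V = 0 → Y * V = 0 → z.1 * V = V := by
    intro V hV1 hV2
    have main : ∀ g ∈ Subgroup.closure ({x, y} : Set (GL (α × β) F)), g.1 * V = V := by
      intro g hg
      induction hg using Subgroup.closure_induction with
      | mem g hg =>
        rcases hg with rfl | rfl
        · rw [hx, Matrix.add_mul, Matrix.one_mul, hV1, add_zero]
        · rw [hy, Matrix.add_mul, Matrix.one_mul, hV2, add_zero]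
      | one => rw [Units.val_one, Matrix.one_mul]
      | mul g g' _ _ h1 h2 => rw [Units.val_mul, Matrix.mul_assoc, h2, h1]
      | inv g _ h1 =>
        conv_lhs => rw [← h1]
        rw [← Matrix.mul_assoc, g.inv_mul, Matrix.one_mul]
    exact main z hz
  have hmid : ∀ u, (JB *ᵥ w) ⬝ᵥ u = 0 → ∃ L : Matrix α α F, z.1 * kc α u = kc α u + kc α w * L := by
    intro u hu
    obtain ⟨Z, hZ⟩ : ∃ Z, Z = z.1 - 1 := ⟨_, rfl⟩
    have zX : Z * X = X * Z := by rw [hZ, Matrix.sub_mul, Matrix.mul_sub, cX, Matrix.one_mul, Matrix.mul_one]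
    have zY : Z * Y = Y * Z := by rw [hZ, Matrix.sub_mul, Matrix.mul_sub, cY, Matrix.one_mul, Matrix.mul_one]
    have hZZ : Z * Z = (-2 : F) • Z := by
      rw [hZ, Matrix.sub_mul, Matrix.mul_sub, hzz, Matrix.mul_one, Matrix.one_mul]
      module
    obtain ⟨P, Q, hPQ⟩ : ∃ P Q, Z = X * P + Y * Q :=
      exists_two_factor (hZ ▸ QuadPairInvol.sub_one_mem_range hXr.sq hY.sq hx hy hz)
    have hXu : X * kc α u = 0 := by rw [hXdef, H.zm_mul_kc, hu, zero_smul]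
    have e2 : (-2 : F) • (Z * kc α u) = X * (Z * (P * kc α u)) + Y * (Z * (Q * kc α u)) := by
      rw [← Matrix.smul_mul, ← hZZ, Matrix.mul_assoc]
      conv_lhs => arg 2; rw [hPQ]
      rw [Matrix.add_mul, Matrix.mul_add, Matrix.mul_assoc X, ← Matrix.mul_assoc Z X, zX, Matrix.mul_assoc Y,
        ← Matrix.mul_assoc Z Y, zY, Matrix.mul_assoc X, Matrix.mul_assoc Y]
    obtain ⟨V, hV⟩ : ∃ V, V = Y * (Z * (Q * kc α u)) := ⟨_, rfl⟩
    rw [← hV] at e2
    have hXV : X * V = 0 := by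
      have h0 : X * ((-2 : F) • (Z * kc α u)) = 0 := by
        rw [Matrix.mul_smul, ← Matrix.mul_assoc, ← zX, Matrix.mul_assoc, hXu, Matrix.mul_zero, smul_zero]
      rwa [e2, Matrix.mul_add, ← Matrix.mul_assoc X X, hXr.sq, Matrix.zero_mul, zero_add] at h0
    have hYV : Y * V = 0 := by rw [hV, ← Matrix.mul_assoc, hY.sq, Matrix.zero_mul]
    have hV0 : V = 0 := by
      have h1 : Z * V = 0 := by rw [hZ, Matrix.sub_mul, hfix hXV hYV, Matrix.one_mul, sub_self]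
      rw [hV, ← Matrix.mul_assoc Z Y, zY, Matrix.mul_assoc Y, ← Matrix.mul_assoc Z Z, hZZ, Matrix.smul_mul,
        Matrix.mul_smul, ← hV, smul_eq_zero] at h1
      exact h1.resolve_left (neg_ne_zero.2 H.two)
    rw [hV0, add_zero] at e2
    refine ⟨(-2 : F)⁻¹ • (kr α (JB *ᵥ w) * (Z * (P * kc α u))), ?_⟩
    have e3 : Z * kc α u = (-2 : F)⁻¹ • (X * (Z * (P * kc α u))) := by
      rw [← e2, smul_smul, inv_mul_cancel₀ (neg_ne_zero.2 H.two), one_smul]
    rw [hXdef, Zm, Matrix.mul_one, Matrix.mul_assoc (kc α w), ← Matrix.mul_smul] at e3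
    rw [← e3, hZ, Matrix.sub_mul, Matrix.one_mul, add_sub_cancel]
  have hL0 : ∀ {u : β → F} {L : Matrix α α F}, z.1 * kc α u = kc α u + kc α w * L → L + A * L = 0 := by
    intro u L hL
    refine kc_cancel hw0 ?_
    have e : z.1 * (z.1 * kc α u) = kc α u := by rw [← Matrix.mul_assoc, hzz, Matrix.one_mul]
    rw [hL, Matrix.mul_add, hL, ← Matrix.mul_assoc, hA, Matrix.mul_assoc] at e
    rw [Matrix.mul_add, Matrix.mul_zero]
    linear_combination (norm := abel) e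
  -- a translation shows that the action is scalar
  obtain ⟨a, ha⟩ : ∃ a : F, A = a • 1 := by
    obtain ⟨p', u, hp', hu, hpu⟩ := H.exists_perp_pair h3 hw hw0
    obtain ⟨t, htM, -, ht⟩ := H.inM_tp hw hp'
    have tlev : ∀ u, (JB *ᵥ w) ⬝ᵥ u = 0 → t.1 * kc α u = kc α u + ((JB *ᵥ p') ⬝ᵥ u) • kc α w := fun u hu => by
      rw [ht, hu, zero_smul, add_zero, mul_zero, add_zero, neg_neg, one_mul]
    have lev : ∀ u, (JB *ᵥ w) ⬝ᵥ u = 0 →
        (z * t * z).1 * kc α u = kc α u + kc α w * (((JB *ᵥ p') ⬝ᵥ u) • A) := by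
      intro u hu
      obtain ⟨L, hL⟩ := hmid u hu
      have h0 := congrArg (kc α w * ·) (hL0 hL)
      simp only [Matrix.mul_add, Matrix.mul_zero, ← Matrix.mul_assoc] at h0
      rw [Units.val_mul, Units.val_mul, Matrix.mul_assoc, Matrix.mul_assoc, hL, Matrix.mul_add t.1, tlev u hu,
        ← Matrix.mul_assoc t.1, tlev w hw, H.orth_comm hp', zero_smul, add_zero, Matrix.mul_add, Matrix.mul_add, hL,
        Matrix.mul_smul, hA, ← Matrix.mul_assoc, hA, Matrix.mul_smul]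
      linear_combination (norm := abel) h0
    have hrad : Rad JB M w (z * t * z) := H.rad_mk wz (M.mul_mem (M.mul_mem hzM htM) hzM) (by
      rw [lev w hw, H.orth_comm hp', zero_smul, Matrix.mul_zero, add_zero]) fun u hu => ⟨_, lev u hu⟩
    obtain ⟨c, hc⟩ := H.levels w hw hw0 _ hrad u hu _ (lev u hu)
    exact ⟨((JB *ᵥ p') ⬝ᵥ u)⁻¹ * c, by rw [mul_smul, ← hc, smul_smul, inv_mul_cancel₀ hpu, one_smul]⟩
  subst ha
  have ha2 : a * a = 1 := by
    rw [smul_mul_smul_comm, Matrix.one_mul] at hAA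
    have := congrFun₂ hAA (Classical.arbitrary α) (Classical.arbitrary α)
    simpa using this
  rw [Matrix.mul_smul, Matrix.mul_one] at hA
  rcases mul_self_eq_one_iff.1 ha2 with rfl | rfl
  · exfalso
    rw [one_smul] at hA
    have hfix' : ∀ u, (JB *ᵥ w) ⬝ᵥ u = 0 → z.1 * kc α u = kc α u := fun u hu => by
      obtain ⟨L, hL⟩ := hmid u hu
      have h0 := hL0 hL
      rw [one_smul, Matrix.one_mul, ← two_smul F, smul_eq_zero, or_iff_right H.two] at h0
      rw [hL, h0, Matrix.mul_zero, add_zero]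
    have hrad : Rad JB M w z := H.rad_mk wz hzM hA fun u hu => ⟨0, by rw [hfix' u hu, Matrix.mul_zero, add_zero]⟩
    obtain ⟨C, hC⟩ := H.rad_zero hw hw0 hrad hfix'
    refine hz1 (Units.ext ?_)
    rw [hC, Matrix.mul_add, Matrix.mul_one, Matrix.add_mul, Matrix.one_mul, H.zm_mul hw, add_zero, add_assoc,
      add_eq_left, ← two_smul F, smul_eq_zero, or_iff_right H.two] at hzz
    rw [hC, hzz, add_zero, Units.val_one]
  obtain ⟨S, hS, hSS, hSw, hSy⟩ := H.exists_plane_refl wz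
  obtain ⟨σ, hσM, hσ⟩ := H.inM_right hS
  have hrad : Rad JB M w (σ * z) := by
    refine H.rad_mk wz (M.mul_mem hσM hzM) ?_ fun u hu => ?_
    · rw [Units.val_mul, Matrix.mul_assoc, hA, Matrix.mul_smul, hσ, kron_mul_kc, Matrix.mul_one, hSw,
        show -w = (-1 : F) • w by rw [neg_one_smul], kc_smul, smul_smul, neg_mul_neg, one_mul, one_smul]
    · obtain ⟨L, hL⟩ := hmid u hu
      obtain ⟨c, hc⟩ := hSy u hu
      refine ⟨c • 1 - L, ?_⟩
      rw [Units.val_mul, Matrix.mul_assoc, hL, hσ, Matrix.mul_add, ← Matrix.mul_assoc, kron_mul_kc, kron_mul_kc,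
        Matrix.mul_one, Matrix.mul_one, hc, hSw, show -w = (-1 : F) • w by rw [neg_one_smul], kc_add, kc_smul,
        kc_smul, Matrix.mul_sub, Matrix.mul_smul, Matrix.mul_one, Matrix.smul_mul]
      module
  obtain ⟨T, hT⟩ := H.rad_tens hw0 hrad
  obtain ⟨b, hb⟩ : ∃ b, z.1 = (1 : Matrix α α F) ⊗ₖ b := ⟨S * T, by
    rw [← Matrix.one_mul (1 : Matrix α α F), Matrix.mul_kronecker_mul, ← hT, Units.val_mul, hσ, ← Matrix.mul_assoc,
      ← Matrix.mul_kronecker_mul, hSS, Matrix.one_mul, Matrix.one_kronecker_one, Matrix.one_mul]⟩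
  have hbS := H.iso_right hzM hb
  have hbw : b *ᵥ w = -w := by
    funext j
    obtain ⟨i₀⟩ := H.nonempty_left
    have h1 := congrArg (fun Z => (kr α (Pi.single j (1 : F) : β → F) * Z) i₀ i₀) hA
    simpa [hb, kron_mul_kc, kr_mul_kc] using h1
  have hby : ∀ u, (JB *ᵥ w) ⬝ᵥ u = 0 → ∀ f : β → F, f ⬝ᵥ w = 0 → f ⬝ᵥ (b *ᵥ u) = f ⬝ᵥ u := by
    intro u hu f hf
    obtain ⟨L, hL⟩ := hmid u hu
    obtain ⟨i₀⟩ := H.nonempty_left
    rw [hb, kron_mul_kc, Matrix.mul_one] at hL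
    have h1 := congrArg (fun Z => (kr α f * Z) i₀ i₀) hL
    simpa [Matrix.mul_add, kr_kc_mul, kr_mul_kc, hf] using h1
  obtain ⟨v, hv⟩ : ∃ v, v = (2 : F)⁻¹ • (z₀ - b *ᵥ z₀) := ⟨_, rfl⟩
  have hwv : (JB *ᵥ w) ⬝ᵥ v = 1 := by
    have e : (JB *ᵥ w) ⬝ᵥ (b *ᵥ z₀) = -1 := by
      have h1 := H.aB.form_image hbS w z₀
      rw [hbw, Matrix.mulVec_neg, neg_dotProduct, wz] at h1
      linear_combination -h1
    rw [hv, dotProduct_smul, dotProduct_sub, wz, e, smul_eq_mul, sub_neg_eq_add, show (1 : F) + 1 = 2 by norm_num,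
      inv_mul_cancel₀ H.two]
  refine ⟨v, hwv, fun f hf hfv => ?_⟩
  have hfz : f ⬝ᵥ (b *ᵥ z₀) = f ⬝ᵥ z₀ := by
    rw [hv, dotProduct_smul, smul_eq_zero, or_iff_right (inv_ne_zero H.two), dotProduct_sub, sub_eq_zero] at hfv
    exact hfv.symm
  have hfb : f ᵥ* b = f := by
    refine dotProduct_eq _ _ fun u => ?_
    obtain ⟨c, hc⟩ : ∃ c, c = (JB *ᵥ w) ⬝ᵥ u := ⟨_, rfl⟩
    have h1 := hby (u - c • z₀) (by rw [dotProduct_sub, dotProduct_smul, wz, smul_eq_mul, mul_one, hc, sub_self]) f hf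
    rw [Matrix.mulVec_sub, Matrix.mulVec_smul, dotProduct_sub, dotProduct_sub, dotProduct_smul, dotProduct_smul, hfz,
      sub_left_inj] at h1
    rw [← Matrix.dotProduct_mulVec, h1]
  obtain ⟨G, hG⟩ : ∃ G : Matrix α (α × β) F, Y = Y * kc α w * G := by
    refine exists_factor_of_range (le_of_eq (Submodule.eq_of_le_of_finrank_le ?_ ?_).symm)
    · rw [Matrix.mulVecLin_mul]; exact LinearMap.range_comp_le_range _ _
    · refine le_trans hY.rank (le_of_eq ?_)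
      rw [LinearMap.finrank_range_of_inj, Module.finrank_pi]
      rw [← LinearMap.ker_eq_bot, Submodule.eq_bot_iff]
      intro u hu
      rw [LinearMap.mem_ker, Matrix.mulVecLin_apply] at hu
      obtain ⟨U, hU⟩ : ∃ U : Matrix α α F, U = Matrix.of fun a _ => u a := ⟨_, rfl⟩
      have e1 : Y * (kc α w * U) = 0 := by
        ext a c
        rw [hU, ← Matrix.mul_assoc, Matrix.zero_apply, Matrix.mul_apply]
        exact congrFun hu a
      have e2 := hfix (V := kc α w * U) (by rw [← Matrix.mul_assoc, hXdef, H.zm_kc, Matrix.zero_mul]) e1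
      rw [← Matrix.mul_assoc, hA, Matrix.smul_mul, neg_one_smul, neg_eq_iff_add_eq_zero, ← two_smul F, smul_eq_zero,
        or_iff_right H.two] at e2
      have := kc_cancel (Y := 0) hw0 (e2.trans (Matrix.mul_zero _).symm)
      funext a
      have h2 := congrFun₂ this a a
      rwa [hU] at h2
  have hneg : ((1 : Matrix α α F) ⊗ₖ b) * Y = -Y := by
    rw [← hb, cY]
    conv_lhs => arg 1; rw [hG]
    conv_rhs => rw [hG]
    rw [show Y * kc α w * G * z.1 = z.1 * Y * kc α w * G by rw [← hG, ← cY, Matrix.mul_assoc, Matrix.mul_assoc,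
        ← Matrix.mul_assoc Y, ← hG],
      cY, Matrix.mul_assoc Y z.1, hA, Matrix.mul_smul, Matrix.smul_mul, neg_one_smul]
  have h1 := congrArg (kr α f * ·) hneg
  simp only [← Matrix.mul_assoc, kr_mul_kron, hfb, Matrix.one_mul, Matrix.mul_neg] at h1
  rwa [eq_neg_iff_add_eq_zero, ← two_smul F, smul_eq_zero, or_iff_right H.two] at h1

/-- Every contraction is scalar. -/
theorem contr_scalar_four (h3 : 3 ≤ Fintype.card β) {w : β → F} (hw0 : w ≠ 0) (hY : Root M Y) :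
    ∃ c : F, contr JB w Y = c • 1 := by
  by_cases hn : ∃ n, contr JB w Y ^ n = 0
  · obtain ⟨n, hn⟩ := hn
    exact ⟨0, by rw [H.contr_nilpotent hw0 n hY hn, zero_smul]⟩
  push Not at hn
  obtain ⟨v, wv, hpl⟩ := H.exists_plane h3 hw0 hY hn
  have vw : (JB *ᵥ v) ⬝ᵥ w = -1 := by rw [H.swapB, wv, mul_one]
  obtain ⟨p, hp0, hp⟩ := exists_orth ![JB *ᵥ w, JB *ᵥ v] (by simp; omega)
  have wp : (JB *ᵥ w) ⬝ᵥ p = 0 := hp 0
  have vp : (JB *ᵥ v) ⬝ᵥ p = 0 := hp 1
  have hYp : Y * kc α p = 0 := H.eq_zero_of_kr_J fun a => by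
    have h1 : co JB Y p a = 0 := by rw [co, hpl _ (H.orth_comm wp) (H.orth_comm vp), Matrix.zero_mul]
    have h2 := H.co_adj hY p a
    rw [h1, H.adj_zero, co, Matrix.mul_assoc] at h2
    exact h2.symm
  have hkp : kr α (JB *ᵥ p) * Y = 0 := hpl _ (H.orth_comm wp) (H.orth_comm vp)
  obtain ⟨w', hw'⟩ : ∃ w', w' = w + p := ⟨_, rfl⟩
  have w'v : (JB *ᵥ w') ⬝ᵥ v = 1 := by
    rw [hw', Matrix.mulVec_add, add_dotProduct, wv, H.orth_comm vp, add_zero]
  have hw'0 : w' ≠ 0 := fun e => by rw [e, Matrix.mulVec_zero, zero_dotProduct] at w'v; exact zero_ne_one w'v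
  have hC' : contr JB w' Y = contr JB w Y := by
    rw [contr, contr, hw', Matrix.mulVec_add, kc_add, TensorMax.kr_add]
    simp only [Matrix.add_mul, Matrix.mul_add, Matrix.mul_assoc, hYp, Matrix.mul_zero, add_zero]
    rw [← Matrix.mul_assoc (kr α (JB *ᵥ p)), hkp, Matrix.zero_mul, add_zero]
  obtain ⟨v', w'v', hpl'⟩ := H.exists_plane h3 hw'0 hY fun n => hC' ▸ hn n
  have v'w' : (JB *ᵥ v') ⬝ᵥ w' = -1 := by rw [H.swapB, w'v', mul_one]
  have w'w : (JB *ᵥ w') ⬝ᵥ w = 0 := by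
    rw [hw', Matrix.mulVec_add, add_dotProduct, H.selfB, H.orth_comm wp, add_zero]
  obtain ⟨d, hd⟩ : ∃ d, d = (JB *ᵥ v') ⬝ᵥ w := ⟨_, rfl⟩
  obtain ⟨φ, hφ⟩ := exists_dual_one (show w + d • w' ≠ 0 by
    intro e
    have h1 := congrArg ((JB *ᵥ v) ⬝ᵥ ·) e
    simp only [hw', smul_add, dotProduct_add, dotProduct_smul, vw, vp, smul_eq_mul, mul_zero, add_zero, dotProduct_zero]
      at h1
    have hd1 : d = -1 := by linear_combination -h1
    rw [hd1, hw', neg_one_smul, neg_add, add_neg_cancel_left, neg_eq_zero] at e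
    exact hp0 e)
  obtain ⟨f, hf⟩ : ∃ f, f = φ - (φ ⬝ᵥ v') • (JB *ᵥ w') + (φ ⬝ᵥ w') • (JB *ᵥ v') := ⟨_, rfl⟩
  have fw' : f ⬝ᵥ w' = 0 := by
    simp only [hf, add_dotProduct, sub_dotProduct, smul_dotProduct, H.selfB, v'w', smul_eq_mul]; ring
  have fv' : f ⬝ᵥ v' = 0 := by
    simp only [hf, add_dotProduct, sub_dotProduct, smul_dotProduct, H.selfB, w'v', smul_eq_mul]; ring
  have fw : f ⬝ᵥ w = 1 := by
    rw [dotProduct_add, dotProduct_smul, smul_eq_mul] at hφ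
    simp only [hf, add_dotProduct, sub_dotProduct, smul_dotProduct, w'w, ← hd, smul_eq_mul]
    linear_combination hφ
  obtain ⟨N, hN⟩ : ∃ N, N = kr α (JB *ᵥ w) * Y := ⟨_, rfl⟩
  have dec : ∀ ψ : β → F, kr α ψ * Y = (ψ ⬝ᵥ v) • N - (ψ ⬝ᵥ w) • (kr α (JB *ᵥ v) * Y) := fun ψ => by
    have h1 := hpl (ψ - (ψ ⬝ᵥ v) • (JB *ᵥ w) + (ψ ⬝ᵥ w) • (JB *ᵥ v))
      (by simp only [add_dotProduct, sub_dotProduct, smul_dotProduct, H.selfB, vw, smul_eq_mul]; ring)
      (by simp only [add_dotProduct, sub_dotProduct, smul_dotProduct, H.selfB, wv, smul_eq_mul]; ring)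
    rw [show ψ - (ψ ⬝ᵥ v) • (JB *ᵥ w) + (ψ ⬝ᵥ w) • (JB *ᵥ v) =
        ψ - ((ψ ⬝ᵥ v) • (JB *ᵥ w) - (ψ ⬝ᵥ w) • (JB *ᵥ v)) by abel,
      kr_sub, kr_sub, kr_smul, kr_smul, Matrix.sub_mul, Matrix.sub_mul, Matrix.smul_mul, Matrix.smul_mul, sub_eq_zero,
      ← hN] at h1
    exact h1
  have hline : kr α (JB *ᵥ v) * Y = (f ⬝ᵥ v) • N := by
    have h1 := dec f
    rw [hpl' f fw' fv', fw, one_smul, eq_comm, sub_eq_zero] at h1
    exact h1.symm
  obtain ⟨l, hl⟩ : ∃ l, l = v - (f ⬝ᵥ v) • w := ⟨_, rfl⟩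
  have hY1 : Y = kc α l * N := by
    refine sub_eq_zero.1 (eq_zero_of_kr fun ψ => ?_)
    rw [Matrix.mul_sub, kr_kc_mul, dec, hline, hl, dotProduct_sub, dotProduct_smul]
    module
  have hl0 : l ≠ 0 := fun e => by
    have h1 := congrArg ((JB *ᵥ w) ⬝ᵥ ·) e
    simp only [hl, dotProduct_sub, dotProduct_smul, wv, H.selfB, smul_eq_mul, mul_zero, sub_zero, dotProduct_zero]
      at h1
    exact one_ne_zero h1
  obtain ⟨z', lz, -, -⟩ := H.exists_dual (H.selfB l) hl0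
  have hker : ∀ u, (JB *ᵥ l) ⬝ᵥ u = 0 → Y * kc α u = 0 := fun u hu => H.eq_zero_of_kr_J fun a => by
    have h1 : co JB Y u a = 0 := by
      rw [co, hY1, kr_kc_mul, H.orth_comm hu, zero_smul, Matrix.zero_mul]
    have h2 := H.co_adj hY u a
    rw [h1, H.adj_zero, co, Matrix.mul_assoc] at h2
    exact h2.symm
  have hYz : Y = Zm JB l (N * kc α z') := by
    refine eq_of_mul_kc_all fun u => ?_
    have h1 := hker (u - ((JB *ᵥ l) ⬝ᵥ u) • z') (by
      rw [dotProduct_sub, dotProduct_smul, lz, smul_eq_mul, mul_one, sub_self])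
    rw [sub_eq_add_neg, ← neg_smul, kc_add, kc_smul, neg_smul, ← sub_eq_add_neg, Matrix.mul_sub, Matrix.mul_smul, sub_eq_zero] at h1
    rw [h1, H.zm_mul_kc, hY1, Matrix.mul_assoc]
  obtain ⟨c, hc⟩ := H.small l (H.selfB l) hl0 (N * kc α z') (by
    have := hY.mem 1
    rwa [one_smul, hYz] at this)
  refine ⟨((JB *ᵥ w) ⬝ᵥ l) * (c * ((JB *ᵥ l) ⬝ᵥ w)), ?_⟩
  rw [contr, hYz, hc, Zm]
  simp only [Matrix.mul_smul, Matrix.smul_mul, Matrix.mul_one, Matrix.mul_assoc, kr_mul_kc, kr_kc_mul, smul_smul]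
  ring_nf

end Sys

end CfsgLib.Classical.TensorWreathS.Pair
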