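import Cfsg.Agent.Lib.Classical.TensorWreathS.Levels
import Cfsg.Agent.Lib.Classical.TensorWreathS.PairFour

set_option autoImplicit false
set_option linter.unusedSectionVars false

/-!
When the elements next to a root are scalar, the group is monomial.
-/

namespace CfsgLib.Classical.TensorWreathS

open Matrix CfsgLib.Classical.TensorWreath
open CfsgLib.Classical.TensorMixed (Zm)
open CfsgLib.Classical.TensorSymp (adj Sp AForm tv)
open CfsgLib.Classical.TensorMax (kc kr)
open CfsgLib.Classical.TensorWreathU (two back two_val back_two back_inj back_kron back_mul back_one back_add)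
open Pair (contr)
open scoped MatrixGroups Kronecker

variable {F : Type*} [Field F] [Finite F] {τ : Type} [Fintype τ] [DecidableEq τ] {m : ℕ}
variable {J : Matrix (Fin m) (Fin m) F} {M : Subgroup (GL (Ix τ m) F)}

/-- A multiplicative linear map of the matrices, injective on a unit, is inner. -/
theorem exists_conjugator [NeZero m] (φ : Matrix (Fin m) (Fin m) F → Matrix (Fin m) (Fin m) F)
    (hadd : ∀ a b, φ (a + b) = φ a + φ b) (hsmul : ∀ (c : F) a, φ (c • a) = c • φ a)
    (hmul : ∀ a b, φ (a * b) = φ a * φ b) (hne : φ (e 0 0) ≠ 0) :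
    ∃ T : Matrix (Fin m) (Fin m) F, IsUnit T.det ∧ ∀ b, φ b * T = T * b := by
  obtain ⟨w, hw⟩ : ∃ w, φ (e 0 0) *ᵥ w ≠ 0 := by
    by_contra hc
    push Not at hc
    exact hne (Matrix.ext_iff_mulVec.2 fun w => by rw [hc, Matrix.zero_mulVec])
  obtain ⟨T, hT⟩ : ∃ T : Matrix (Fin m) (Fin m) F, T = Matrix.of fun x a => (φ (e a 0) *ᵥ w) x := ⟨_, rfl⟩
  have col : ∀ a, T *ᵥ Pi.single a 1 = φ (e a 0) *ᵥ w := fun a => by
    funext x
    rw [hT, Matrix.mulVec_single_one]
    rfl
  have h0 : φ 0 = 0 := by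
    have := hsmul 0 0
    rwa [zero_smul, zero_smul] at this
  have hu : ∀ c d, φ (e c d) * T = T * e c d := fun c d => Matrix.ext_iff_mulVec.2 fun v => by
    suffices h : ∀ a, φ (e c d) *ᵥ (T *ᵥ Pi.single a 1) = T *ᵥ ((e c d : Matrix (Fin m) (Fin m) F) *ᵥ Pi.single a 1) by
      rw [← sum_smul_single v, Matrix.mulVec_sum, Matrix.mulVec_sum]
      refine Finset.sum_congr rfl fun a _ => ?_
      rw [Matrix.mulVec_smul, Matrix.mulVec_smul, ← Matrix.mulVec_mulVec, ← Matrix.mulVec_mulVec, h]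
    intro a
    rw [col, Matrix.mulVec_mulVec, ← hmul]
    by_cases hda : d = a
    · subst hda
      rw [e_mul_e, ← col]
      congr 1
      ext x
      simp [Matrix.single_apply, Pi.single_apply, eq_comm]
    · rw [e_mul_e_ne hda, h0, Matrix.zero_mulVec]
      rw [show (e c d : Matrix (Fin m) (Fin m) F) *ᵥ Pi.single a 1 = 0 by
        ext x; simp [Matrix.single_apply, hda], Matrix.mulVec_zero]
  refine ⟨T, ?_, fun b => ?_⟩
  · rw [isUnit_iff_ne_zero]
    intro hd
    obtain ⟨v, hv, hTv⟩ := Matrix.exists_mulVec_eq_zero_iff.2 hd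
    refine hv (funext fun d => ?_)
    have h := congrArg (φ (e 0 d) *ᵥ ·) hTv
    simp only [Matrix.mulVec_mulVec, hu, Matrix.mulVec_zero] at h
    rw [← Matrix.mulVec_mulVec, show (e 0 d : Matrix (Fin m) (Fin m) F) *ᵥ v = v d • Pi.single 0 1 by
      ext x; simp [Matrix.mulVec, dotProduct, Matrix.single_apply, Pi.single_apply, eq_comm, ite_and],
      Matrix.mulVec_smul, col, smul_eq_zero] at h
    exact h.resolve_right hw
  · obtain ⟨L, hL⟩ : ∃ L : Matrix (Fin m) (Fin m) F →ₗ[F] Matrix (Fin m) (Fin m) F, ∀ a, L a = φ a :=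
      ⟨{ toFun := φ, map_add' := hadd, map_smul' := hsmul }, fun _ => rfl⟩
    rw [Matrix.matrix_eq_sum_single b, ← hL]
    simp only [map_sum, Finset.sum_mul, Finset.mul_sum]
    refine Finset.sum_congr rfl fun x _ => Finset.sum_congr rfl fun y _ => ?_
    rw [show Matrix.single x y (b x y) = b x y • (e x y : Matrix (Fin m) (Fin m) F) by simp, map_smul, hL,
      smul_mul_assoc, mul_smul_comm, hu]

/-- A quadratic sum over the factors, skew and of small rank, is a root of one factor. -/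
theorem exists_root_of_sum (hJ : AForm J) (h2 : (2 : F) ≠ 0) [NeZero m]
    {s : τ → Matrix (Fin m) (Fin m) F} (hs : ∀ i, (J * s i)ᵀ = J * s i) {Y : Matrix (Ix τ m) (Ix τ m) F}
    (hY : Y = ∑ i, embM i (s i)) (hsq : Y * Y = 0) (hY0 : Y ≠ 0)
    (hrk : ∀ i : τ, Y.rank ≤ Fintype.card (Ix (Rest i) m)) :
    ∃ (j : τ) (a : Fin m → F) (c : F), a ≠ 0 ∧ c ≠ 0 ∧ Y = c • embM j (nu J a) := by
  obtain ⟨i, hi⟩ : ∃ i, s i ≠ 0 := by
    by_contra hc
    push Not at hc
    exact hY0 (by rw [hY]; exact Finset.sum_eq_zero fun i _ => by rw [hc, embM_zero])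
  have ncent : ∀ k, s k ≠ 0 → ∃ b, s k * b - b * s k ≠ 0 := fun k hk => by
    by_contra hc
    push Not at hc
    have off : ∀ x y, x ≠ y → s k x y = 0 := fun x y hxy => by
      have := congrFun₂ (sub_eq_zero.1 (hc (e y y))) x y
      simpa [hxy] using this
    have diag : ∀ x y, s k x x = s k y y := fun x y => by
      have := congrFun₂ (sub_eq_zero.1 (hc (e x y))) x y
      simpa using this
    have hsc : s k = s k 0 0 • (1 : Matrix (Fin m) (Fin m) F) := by
      ext x y
      by_cases hxy : x = y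
      · subst hxy; simpa using diag x 0
      · simp [off x y hxy, Matrix.one_apply_ne hxy]
    have h1 := hs k
    rw [hsc, mul_smul_comm, mul_one, Matrix.transpose_smul, hJ.skew] at h1
    have h3 : (2 * s k 0 0) • J = 0 := by linear_combination (norm := module) -h1
    rw [smul_eq_zero, or_iff_left (fun e : J = 0 => hJ.det_ne (by rw [e, Matrix.det_zero])), mul_eq_zero,
      or_iff_right h2] at h3
    exact hk (by rw [hsc, h3, zero_smul])
  have single : ∀ k, k ≠ i → s k = 0 := by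
    intro k hk
    by_contra hsk
    obtain ⟨b, hb⟩ := ncent i hi
    obtain ⟨b', hb'⟩ := ncent k hsk
    obtain ⟨c, hc⟩ : ∃ c, c = s i * b - b * s i := ⟨_, rfl⟩
    obtain ⟨c', hc'⟩ : ∃ c', c' = s k * b' - b' * s k := ⟨_, rfl⟩
    have br : ∀ (l : τ) (B : Matrix (Fin m) (Fin m) F),
        Y * embM l B - embM l B * Y = embM l (s l * B - B * s l) := fun l B => by
      rw [hY, Finset.sum_mul, Finset.mul_sum, ← Finset.sum_sub_distrib, Fintype.sum_eq_single l]
      · rw [embM_mul, embM_mul, ← embM_sub]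
      · intro x hx
        rw [embM_comm hx, sub_self]
    obtain ⟨E, hE⟩ : ∃ E, E = embM i c := ⟨_, rfl⟩
    obtain ⟨B', hB'⟩ : ∃ B', B' = embM k b' := ⟨_, rfl⟩
    have hP : Y * E + E * Y = 0 := by
      rw [hE, hc, ← br]
      simp only [mul_sub, sub_mul, ← mul_assoc, hsq, zero_mul]
      rw [mul_assoc _ Y Y, hsq, mul_zero]
      abel
    have hEB : E * B' = B' * E := by rw [hE, hB']; exact embM_comm (Ne.symm hk) _ _
    have hC : Y * B' - B' * Y = embM k c' := by rw [hB', hc', br]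
    have hEC : E * embM k c' = embM k c' * E := by rw [hE]; exact embM_comm (Ne.symm hk) _ _
    have h := congrArg (fun P => P * B' - B' * P) hP
    simp only [zero_mul, mul_zero, sub_zero] at h
    rw [show (Y * E + E * Y) * B' - B' * (Y * E + E * Y) =
        Y * (E * B' - B' * E) + (Y * B' - B' * Y) * E + E * (Y * B' - B' * Y) + (E * B' - B' * E) * Y by
        simp only [mul_add, add_mul, mul_sub, sub_mul, mul_assoc]
        abel,
      hEB, sub_self, mul_zero, zero_mul, hC, ← hEC, zero_add, add_zero] at h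
    have h' : (2 : F) • (E * embM k c') = 0 := by rw [two_smul]; exact h
    have h'' := (smul_eq_zero.1 h').resolve_left h2
    rw [hE] at h''
    have := eq_zero_of_embM_mul (cen_embM (Ne.symm hk) c') (hc ▸ hb) h''
    rw [← embM_zero (F := F) (m := m) k] at this
    exact hb' (hc' ▸ embM_injective k this)
  have hYi : Y = embM i (s i) := by
    rw [hY, Fintype.sum_eq_single i fun k hk => by rw [single k hk, embM_zero]]
  have hsq' : s i * s i = 0 := by
    rw [hYi, embM_mul, ← embM_zero (F := F) (m := m) i] at hsq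
    exact embM_injective i hsq
  have hr : (s i).rank ≤ 1 := by
    have h1 := (le_rank_embM i (s i)).trans (hYi ▸ hrk i)
    have hpos : 0 < Fintype.card (Ix (Rest i) m) := Fintype.card_pos
    nlinarith
  obtain ⟨a, b, hab⟩ := exists_vecMulVec_of_rank_le_one hr
  have ha : a ≠ 0 := fun e => hi (by rw [hab, e, Matrix.zero_vecMulVec])
  obtain ⟨p, hp⟩ : ∃ p, (J *ᵥ a) p ≠ 0 := Function.ne_iff.1 (hJ.mulVec_ne ha)
  obtain ⟨c, hc⟩ : ∃ c, c = b p / (J *ᵥ a) p := ⟨_, rfl⟩
  have hb : b = c • (J *ᵥ a) := by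
    funext q
    have := congrFun₂ (hs i) q p
    rw [hab, Matrix.mul_vecMulVec, Matrix.transpose_vecMulVec, Matrix.vecMulVec_apply, Matrix.vecMulVec_apply] at this
    rw [Pi.smul_apply, smul_eq_mul, hc, div_mul_eq_mul_div, eq_div_iff hp]
    linear_combination this
  have hn : s i = c • nu J a := by rw [hab, hb, nu, Matrix.vecMulVec_smul]
  refine ⟨i, a, c, ha, fun e => hi (by rw [hn, e, zero_smul]), ?_⟩
  rw [hYi, hn, embM_smul]

/-- The symplectic image of a root is a root of one factor. -/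
theorem Hyp.root_image (H : Hyp J M) (hS : SmallAll J M) (hq : m = 2 → ∃ s : F, s ≠ 0 ∧ s * s ≠ 1)
    {g : GL (Ix τ m) F} (hg : g ∈ M) (i : τ) {u : Fin m → F} (hu : u ≠ 0) :
    ∃ (j : τ) (a : Fin m → F) (c : F), a ≠ 0 ∧ c ≠ 0 ∧
      g.1 * embM i (nu J u) * (g⁻¹).1 = c • embM j (nu J a) := by
  haveI := H.neZero
  obtain ⟨Y, hY⟩ : ∃ Y, Y = g.1 * embM i (nu J u) * (g⁻¹).1 := ⟨_, rfl⟩
  rw [← hY]
  have hsq : Y * Y = 0 := by
    rw [hY, mul_inv_cancel_mid, embM_mul, nu_sq H.hJ, embM_zero, mul_zero, zero_mul]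
  have hY0 : Y ≠ 0 := fun h0 => by
    have h1 : embM i (nu J u) = (0 : Matrix (Ix τ m) (Ix τ m) F) :=
      conj_inj g (by rw [mul_zero, zero_mul, ← hY, h0])
    rw [← embM_zero (F := F) (m := m) i] at h1
    exact nu_ne_zero H.hJ hu (embM_injective i h1)
  have hrk : ∀ j : τ, Y.rank ≤ Fintype.card (Ix (Rest j) m) := fun j => by
    rw [card_rest j, ← card_rest i, hY]
    exact ((Matrix.rank_mul_le_left _ _).trans (Matrix.rank_mul_le_right _ _)).trans (rank_embM_vecMulVec_le i u _)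
  have hsk : (JJ J τ * Y)ᵀ = (-(-1 : F) ^ Fintype.card τ) • (JJ J τ * Y) := by
    have hsym : (J * nu J u)ᵀ = J * nu J u := by
      rw [nu, Matrix.mul_vecMulVec, Matrix.transpose_vecMulVec]
    have hP : (JJ J τ * embM i (nu J u))ᵀ = (-(-1 : F) ^ Fintype.card τ) • (JJ J τ * embM i (nu J u)) := by
      rw [JJ_mul_embM, transpose_plc H.hJ hsym]
    have hgJ : JJ J τ * g.1 = ((g⁻¹).1)ᵀ * JJ J τ := by
      have h0 : g.1ᵀ * JJ J τ * g.1 = JJ J τ := H.le g hg
      have h1 := congrArg (((g⁻¹).1)ᵀ * ·) h0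
      simp only [← Matrix.mul_assoc] at h1
      rwa [← Matrix.transpose_mul, g.mul_inv, Matrix.transpose_one, Matrix.one_mul] at h1
    rw [show JJ J τ * Y = ((g⁻¹).1)ᵀ * (JJ J τ * embM i (nu J u)) * (g⁻¹).1 by
      rw [hY]; simp only [← Matrix.mul_assoc]; rw [hgJ], Matrix.transpose_mul, Matrix.transpose_mul,
      Matrix.transpose_transpose, hP]
    simp only [Matrix.mul_assoc, Matrix.smul_mul, Matrix.mul_smul]
  have hmem : ∀ c : F, InM M (1 + c • Y) := fun c => by
    obtain ⟨x, hx, hx'⟩ := H.emb i _ (H.hJ.sp_tv u c)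
    refine ⟨g * x * g⁻¹, M.mul_mem (M.mul_mem hg hx) (M.inv_mem hg), ?_⟩
    rw [Units.val_mul, Units.val_mul, hx', tv_eq, embM_add, embM_one, embM_smul, mul_add, mul_one, add_mul,
      g.mul_inv, mul_smul_comm, smul_mul_assoc, hY]
  obtain ⟨s, hs, hsum⟩ := exists_sum H.hJ H.two hsk fun j => by
    obtain ⟨Z, hZ⟩ : ∃ Z, Z = Y.submatrix (spl j).symm (spl j).symm := ⟨_, rfl⟩
    have hback : back j Z = Y := by rw [hZ]; simp [TensorWreathU.back]
    have hR : Pair.Root (M.map (TensorWreathU.two j).toMonoidHom) Z :=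
      { sq := back_inj j (by rw [back_mul, hback, hsq]; rfl)
        mem := fun c => inM_two j (Z := 1 + c • Z) (by rw [back_add, back_one, show back j (c • Z) = c • back j Z from rfl, hback])
          (hmem c)
        rank := by rw [hZ, Matrix.rank_submatrix]; exact hrk j }
    have hsys := H.sys hS j
    have hsc : ∀ w : Fin m → F, ∃ c : F, contr J w Z = c • (1 : Matrix (Ix (Rest j) m) (Ix (Rest j) m) F) := by
      intro w
      by_cases hw : w = 0
      · exact ⟨0, by simp [hw, contr, TensorMax.kr_zero]⟩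
      by_cases hm : m = 2
      · exact hsys.contr_scalar_two (by rw [Fintype.card_fin, hm]) (hq hm) hw hR
      · exact hsys.contr_scalar_four (by rw [Fintype.card_fin]; have := H.two_le; omega) hw hR
    choose c hc using hsc
    exact ⟨Z, c, hback, hc⟩
  exact exists_root_of_sum H.hJ H.two hs hsum hsq hY0 hrk

/-- An element mapping the roots to roots is monomial. -/
theorem mono_of_images (hJ : AForm J) [NeZero m] [Nonempty τ] (h2m : 2 ≤ m) {g : GL (Ix τ m) F}
    (himg : ∀ (i : τ) (u : {u : Fin m → F // u ≠ 0}), ∃ (j : τ) (a : Fin m → F) (c : F), a ≠ 0 ∧ c ≠ 0 ∧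
      g.1 * embM i (nu J u.1) * (g⁻¹).1 = c • embM j (nu J a)) : Mono g.1 := by
  choose jf af cf haf hcf hYf using himg
  have same : ∀ (i : τ) (u v : {u : Fin m → F // u ≠ 0}), (J *ᵥ u.1) ⬝ᵥ v.1 ≠ 0 → jf i u = jf i v := by
    intro i u v huv
    by_contra hne
    have h1 : g.1 * (embM i (nu J u.1) * embM i (nu J v.1)) * (g⁻¹).1 =
        g.1 * (embM i (nu J v.1) * embM i (nu J u.1)) * (g⁻¹).1 := by
      rw [← mul_inv_cancel_mid, ← mul_inv_cancel_mid g (embM i (nu J v.1)), hYf, hYf, smul_mul_smul_comm,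
        smul_mul_smul_comm, embM_comm hne, mul_comm (cf i u)]
    have h2 : embM i (nu J u.1 * nu J v.1) = embM i (nu J v.1 * nu J u.1) := by
      rw [← embM_mul, ← embM_mul]
      exact conj_inj g h1
    have h3 := congrArg (fun A : Matrix (Fin m) (Fin m) F => A *ᵥ u.1) (embM_injective i h2)
    simp only [← Matrix.mulVec_mulVec, nu_mulVec, hJ.self, zero_smul, Matrix.mulVec_zero, Matrix.mulVec_smul,
      smul_smul, smul_eq_zero, mul_eq_zero, or_iff_left u.2] at h3
    rw [hJ.swap v.1, neg_eq_zero, or_self] at h3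
    exact huv h3
  obtain ⟨f, hf⟩ : ∃ f : τ → τ, ∀ i u, jf i u = f i := by
    have h0 : (Pi.single 0 1 : Fin m → F) ≠ 0 := by simp
    refine ⟨fun i => jf i ⟨_, h0⟩, fun i u => ?_⟩
    obtain ⟨e', h1, h2⟩ := exists_nonorth hJ u.2 h0
    have he : e' ≠ 0 := fun e0 => h1 (by rw [e0, dotProduct_zero])
    exact (same i u ⟨e', he⟩ h1).trans (same i ⟨_, h0⟩ ⟨e', he⟩ h2).symm
  -- the images of the factors
  have img : ∀ i b, ∃ b', g.1 * embM i b * (g⁻¹).1 = embM (f i) b' := by
    intro i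
    obtain ⟨P, hP⟩ : ∃ P : Submodule F (Matrix (Fin m) (Fin m) F),
        ∀ b, b ∈ P ↔ ∃ b', g.1 * embM i b * (g⁻¹).1 = embM (f i) b' :=
      ⟨{ carrier := {b | ∃ b', g.1 * embM i b * (g⁻¹).1 = embM (f i) b'}
         add_mem' := fun {a b} ⟨a', ha⟩ ⟨b', hb⟩ => ⟨a' + b', by rw [embM_add, embM_add, mul_add, add_mul, ha, hb]⟩
         zero_mem' := ⟨0, by rw [embM_zero, embM_zero, mul_zero, zero_mul]⟩
         smul_mem' := fun c a ⟨a', ha⟩ => ⟨c • a', by rw [embM_smul, embM_smul, mul_smul_comm, smul_mul_assoc, ha]⟩ },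
        fun _ => Iff.rfl⟩
    have h1 : ∀ u, ∃ b', g.1 * embM i (nu J u) * (g⁻¹).1 = embM (f i) b' := fun u => by
      by_cases hu : u = 0
      · exact ⟨0, by rw [hu, nu, Matrix.zero_vecMulVec, embM_zero, embM_zero, mul_zero, zero_mul]⟩
      · exact ⟨cf i ⟨u, hu⟩ • nu J (af i ⟨u, hu⟩), by rw [hYf i ⟨u, hu⟩, hf, embM_smul]⟩
    intro b
    refine (hP b).1 (mem_of_nu hJ P (fun a c => (hP _).2 ?_) b)
    obtain ⟨a', ha'⟩ := h1 a
    obtain ⟨c', hc'⟩ := h1 c
    exact ⟨a' * c', by rw [← embM_mul, ← embM_mul, ← mul_inv_cancel_mid, ha', hc']⟩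
  choose φ hφ using img
  have hT : ∀ i, ∃ T : Matrix (Fin m) (Fin m) F, IsUnit T.det ∧ ∀ b, φ i b * T = T * b := fun i => by
    refine exists_conjugator (φ i) (fun a b => embM_injective (f i) ?_) (fun c a => embM_injective (f i) ?_)
      (fun a b => embM_injective (f i) ?_) ?_
    · rw [embM_add, ← hφ, ← hφ, ← hφ, embM_add, mul_add, add_mul]
    · rw [embM_smul, ← hφ, ← hφ, embM_smul, mul_smul_comm, smul_mul_assoc]
    · rw [← embM_mul, ← hφ, ← hφ, ← hφ, mul_inv_cancel_mid, embM_mul]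
    · intro h0
      have h1 : embM i (e (0 : Fin m) 0) = (0 : Matrix (Ix τ m) (Ix τ m) F) :=
        conj_inj g (by rw [hφ, h0, embM_zero, mul_zero, zero_mul])
      rw [← embM_zero (F := F) (m := m) i] at h1
      simpa using congrFun₂ (embM_injective i h1) 0 0
  choose T hTd hTb using hT
  have hφT : ∀ i b, φ i (b) = T i * b * (T i)⁻¹ := fun i b => by
    rw [← hTb, Matrix.mul_nonsing_inv_cancel_right _ _ (hTd i)]
  have hinj : Function.Injective f := by
    intro i i' hii
    by_contra hne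
    have comm : ∀ x y : Matrix (Fin m) (Fin m) F, x * y = y * x := by
      intro x y
      have hsur : ∀ (k : τ) (z : Matrix (Fin m) (Fin m) F), ∃ b, φ k b = z := fun k z => ⟨(T k)⁻¹ * z * T k, by
        rw [hφT, ← Matrix.mul_assoc, ← Matrix.mul_assoc, Matrix.mul_nonsing_inv _ (hTd k), Matrix.one_mul,
          Matrix.mul_nonsing_inv_cancel_right _ _ (hTd k)]⟩
      obtain ⟨b, rfl⟩ := hsur i x
      obtain ⟨c, rfl⟩ := hsur i' y
      refine embM_injective (f i) ?_
      rw [← embM_mul, ← embM_mul, ← hφ i b, show embM (f i) (φ i' c) = g.1 * embM i' c * (g⁻¹).1 by rw [hii, hφ],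
        mul_inv_cancel_mid, mul_inv_cancel_mid, embM_comm hne]
    have := congrFun₂ (comm (e (⟨0, by omega⟩ : Fin m) ⟨1, by omega⟩) (e ⟨1, by omega⟩ ⟨0, by omega⟩)) ⟨0, by omega⟩
      ⟨0, by omega⟩
    simp at this
  obtain ⟨σ, hσ⟩ : ∃ σ : Equiv.Perm τ, ∀ i, σ i = f i :=
    ⟨Equiv.ofBijective f (Finite.injective_iff_bijective.1 hinj), fun i => rfl⟩
  obtain ⟨Q, hQ⟩ : ∃ Q, Q = pureM (fun j => T (σ.symm j)) * permM F m σ := ⟨_, rfl⟩
  obtain ⟨Q', hQ'⟩ : ∃ Q', Q' = permM F m σ⁻¹ * pureM (fun j => (T (σ.symm j))⁻¹) := ⟨_, rfl⟩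
  have hQQ : Q' * Q = 1 := by
    rw [hQ, hQ', mul_assoc, ← mul_assoc (pureM _) (pureM _), pureM_mul,
      show ((fun j => (T (σ.symm j))⁻¹) * fun j => T (σ.symm j)) = (1 : τ → Matrix (Fin m) (Fin m) F) from
        funext fun j => Matrix.nonsing_inv_mul _ (hTd _), pureM_one, one_mul, permM_inv_mul]
  have hQe : ∀ i b, Q * embM i b = embM (f i) (φ i b) * Q := fun i b => by
    rw [hQ, mul_assoc, permM_conj_embM, ← mul_assoc, ← mul_assoc, hσ]
    congr 1
    rw [embM, embM, pureM_mul, pureM_mul]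
    refine congrArg pureM (funext fun j => ?_)
    rw [Pi.mul_apply, Pi.mul_apply]
    by_cases hj : j = f i
    · have : σ.symm j = i := by rw [Equiv.symm_apply_eq, hσ, hj]
      subst hj
      rw [Function.update_self, Function.update_self, this, hTb]
    · rw [Function.update_of_ne hj, Function.update_of_ne hj, Pi.one_apply, one_mul, mul_one]
  have hcen : ∀ i, Cen i (Q' * g.1) := fun i b => by
    have e1 : g.1 * embM i b = embM (f i) (φ i b) * g.1 := by
      rw [← hφ, mul_assoc, g.inv_mul, mul_one]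
    have e2 : embM i b * Q' = Q' * embM (f i) (φ i b) := by
      have := congrArg (fun A => Q' * A * Q') (hQe i b)
      simp only [← mul_assoc, hQQ, one_mul] at this
      rwa [mul_assoc _ Q Q', mul_eq_one_comm.1 hQQ, mul_one] at this
    rw [← mul_assoc, e2, mul_assoc, ← e1, mul_assoc]
  obtain ⟨c, hc⟩ := exists_eq_smul_one_of_cen hcen
  have hgQ : g.1 = c • Q := by
    have := congrArg (Q * ·) hc
    simp only [← mul_assoc, mul_eq_one_comm.1 hQQ, one_mul, mul_smul_comm, mul_one] at this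
    exact this
  obtain ⟨k⟩ := ‹Nonempty τ›
  rw [hgQ, hQ, ← smul_mul_assoc, show c • pureM (fun j => T (σ.symm j)) =
      pureM (Function.update (fun j => T (σ.symm j)) k (c • T (σ.symm k))) by
    rw [pureM_update_smul, Function.update_eq_self]]
  exact (mono_pure _).mul (mono_perm σ)

/-- The group is monomial. -/
theorem Hyp.allMono (H : Hyp J M) (hS : SmallAll J M) (hq : m = 2 → ∃ s : F, s ≠ 0 ∧ s * s ≠ 1)
    {g : GL (Ix τ m) F} (hg : g ∈ M) : Mono g.1 := by
  haveI := H.neZero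
  haveI : Nonempty τ := Fintype.card_pos_iff.1 (by have := H.card_two; omega)
  exact mono_of_images H.hJ H.two_le fun i u => H.root_image hS hq hg i u.2

end CfsgLib.Classical.TensorWreathS
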