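import Cfsg.Agent.Lib.Classical.TensorWreathS.Spread

set_option autoImplicit false
set_option linter.unusedSectionVars false

/-!
With an even number of factors a pure element spreads to a root element of a plane of pure vectors; only even
permutations are used.
-/

namespace CfsgLib.Classical.TensorWreathS

open Matrix CfsgLib.Classical.TensorWreath
open CfsgLib.Classical.TensorSymp (adj Sp AForm tv)
open scoped MatrixGroups Kronecker

variable {F : Type*} [Field F] [Finite F] {τ : Type} [Fintype τ] [DecidableEq τ] {m : ℕ}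
variable {J : Matrix (Fin m) (Fin m) F} {M : Subgroup (GL (Ix τ m) F)}

theorem pureM_update_add (f : τ → Matrix (Fin m) (Fin m) F) (d : τ) (A B : Matrix (Fin m) (Fin m) F) :
    pureM (Function.update f d (A + B)) = pureM (Function.update f d A) + pureM (Function.update f d B) := by
  rw [pureM_update_embM, pureM_update_embM f d A, pureM_update_embM f d B, embM_add, mul_add]

/-- The two orders of a product of two roots add up to the plane. -/
theorem nu_mul_add (hJ : AForm J) (e e' : Fin m → F) :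
    nu J e' * nu J e + nu J e * nu J e' = (-((J *ᵥ e) ⬝ᵥ e')) • gm J e e' := by
  rw [nu_mul, nu_mul, hJ.swap e' e, gm, neg_smul, neg_smul, smul_sub]
  abel

/-- All the factors but one contracted. -/
theorem root_of_comm (H : Hyp J M) {c₀ d : τ} (hcd : d ≠ c₀) {A B : τ → Matrix (Fin m) (Fin m) F} {ε : τ → F}
    (hε : ∏ j ∈ Finset.univ.erase d, ε j = -1) (hanch : Anchor J (A c₀) (B c₀) (ε c₀))
    (hsite : ∀ j, j ≠ d → j ≠ c₀ → Site J (A j) (B j) (ε j)) {γ : F} (hγ : γ ≠ 0) {z v : Fin m → F}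
    (hAB : A d + B d = γ • gm J z v) (hE : Ele M (pureM A - pureM B)) :
    ∃ x : τ → Fin m → F, (∀ j, j ≠ d → x j ≠ 0) ∧
      Ele M (pureM (Function.update (fun j => nu J (x j)) d (gm J z v))) := by
  have hd : ∀ j, ∃ (w : Fin m → F) (r : F), j ≠ d → w ≠ 0 ∧ r ≠ 0 ∧
      (j = c₀ → A j = r • nu J w ∧ B j = (ε j * r) • nu J w) ∧
      (j ≠ c₀ → nu J w * A j * nu J w = r • nu J w ∧ nu J w * B j * nu J w = (ε j * r) • nu J w) := by
    intro j
    by_cases hj : j = d
    · exact ⟨0, 0, fun h => absurd hj h⟩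
    by_cases h0 : j = c₀
    · subst h0
      obtain ⟨w, r, a, b, c, e⟩ := hanch
      exact ⟨w, r, fun _ => ⟨a, b, fun _ => ⟨c, e⟩, fun h => absurd rfl h⟩⟩
    · obtain ⟨w, r, a, b, c, e⟩ := hsite j hj h0
      exact ⟨w, r, fun _ => ⟨a, b, fun h => absurd h h0, fun _ => ⟨c, e⟩⟩⟩
  choose w r hwr using hd
  obtain ⟨a₀, b₀⟩ := (hwr c₀ (Ne.symm hcd)).2.2.1 rfl
  obtain ⟨s, hs⟩ : ∃ s, s = (Finset.univ.erase d).erase c₀ := ⟨_, rfl⟩
  obtain ⟨A', hA'⟩ : ∃ A' : τ → Matrix (Fin m) (Fin m) F, A' = fun j => r j • nu J (w j) := ⟨_, rfl⟩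
  obtain ⟨B', hB'⟩ : ∃ B' : τ → Matrix (Fin m) (Fin m) F, B' = fun j => (ε j * r j) • nu J (w j) := ⟨_, rfl⟩
  have hfin := contract_sites H a₀ b₀ hA' hB' hE s (hs ▸ Finset.notMem_erase _ _) fun j hj => by
    rw [hs, Finset.mem_erase, Finset.mem_erase] at hj
    exact (hwr j hj.2.1).2.2.2 hj.1
  obtain ⟨f, hf⟩ : ∃ f : τ → Matrix (Fin m) (Fin m) F, f = fun j => nu J (w j) := ⟨_, rfl⟩
  have eA : s.piecewise A' A = fun j => (if j ∈ Finset.univ.erase d then r j else 1) • Function.update f d (A d) j := by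
    funext j
    by_cases hjd : j = d
    · subst hjd
      rw [Function.update_self, if_neg (Finset.notMem_erase _ _), one_smul,
        Finset.piecewise_eq_of_notMem _ _ _ (by simp [hs])]
    rw [Function.update_of_ne hjd, if_pos (Finset.mem_erase.2 ⟨hjd, Finset.mem_univ j⟩), hf]
    by_cases hj : j = c₀
    · subst hj; rw [Finset.piecewise_eq_of_notMem _ _ _ (by simp [hs]), a₀]
    · rw [Finset.piecewise_eq_of_mem _ _ _ (by simp [hs, hj, hjd]), hA']
  have eB : s.piecewise B' B =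
      fun j => (if j ∈ Finset.univ.erase d then ε j * r j else 1) • Function.update f d (B d) j := by
    funext j
    by_cases hjd : j = d
    · subst hjd
      rw [Function.update_self, if_neg (Finset.notMem_erase _ _), one_smul,
        Finset.piecewise_eq_of_notMem _ _ _ (by simp [hs])]
    rw [Function.update_of_ne hjd, if_pos (Finset.mem_erase.2 ⟨hjd, Finset.mem_univ j⟩), hf]
    by_cases hj : j = c₀
    · subst hj; rw [Finset.piecewise_eq_of_notMem _ _ _ (by simp [hs]), b₀]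
    · rw [Finset.piecewise_eq_of_mem _ _ _ (by simp [hs, hj, hjd]), hB']
  rw [eA, eB, pureM_smul_all, pureM_smul_all, Finset.prod_ite_mem, Finset.prod_ite_mem, Finset.univ_inter,
    Finset.prod_mul_distrib, hε, neg_one_mul, neg_smul, sub_neg_eq_add, ← smul_add, ← pureM_update_add, hAB,
    pureM_update_smul, smul_smul, hf] at hfin
  exact ⟨w, fun j hj => (hwr j hj).1, Ele.of_smul (mul_ne_zero
    (Finset.prod_ne_zero_iff.2 fun j hj => (hwr j (Finset.ne_of_mem_erase hj)).2.1) hγ) hfin⟩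

/-- The data at an alternating factor. -/
theorem gm_partner (hJ : AForm J) {z v : Fin m → F} (hz : z ≠ 0) (hv : ∀ c : F, v ≠ c • z)
    (ho : (J *ᵥ z) ⬝ᵥ v = 0) :
    ∃ v', (J *ᵥ z) ⬝ᵥ v' = 0 ∧ (J *ᵥ v) ⬝ᵥ v' = -1 ∧ ∃ S, Sp J S ∧ S * gm J z v * S⁻¹ = gm J z v' := by
  obtain ⟨u, hu1, hu2⟩ := hJ.exists_perp_ne hz hv 0 (-1)
  have huv : (J *ᵥ u) ⬝ᵥ v = 1 := by rw [hJ.swap, hu2, neg_neg]
  refine ⟨v + u, by rw [dotProduct_add, ho, hu1, add_zero], by rw [dotProduct_add, hJ.self, hu2, zero_add],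
    tv J u 1, hJ.sp_tv u 1, ?_⟩
  rw [gm_conj hJ (hJ.sp_tv u 1), hJ.tv_apply, hJ.tv_apply, huv, hJ.swap u z, hu1, neg_zero, mul_zero, zero_smul,
    add_zero, mul_one, one_smul]

/-- Two conjugates of a pure element which differ at each factor. -/
theorem Pure.exists_two (H : Hyp J M) {T R : Finset τ} (hP : Pure J M T R) {e0 e1 : Fin m → F}
    (he01 : (J *ᵥ e0) ⬝ᵥ e1 = 1) :
    ∃ (f f' : τ → Matrix (Fin m) (Fin m) F), Ele M (pureM f) ∧ Ele M (pureM f') ∧
      (∀ j ∈ T, f j = nu J e0 ∧ f' j = nu J e1) ∧ (∀ j, j ∉ T → j ∉ R → f j = 1 ∧ f' j = 1) ∧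
      (∀ j ∈ R, f j * f j = 0 ∧ f' j * f' j = 0 ∧ f j * f' j * f j = 0 ∧
        Site J (f' j * f j) (f j * f' j) (-1) ∧ Anchor J (f' j * f j) (f j * f' j) (-1)) := by
  have hJ := H.hJ
  have he0 : e0 ≠ 0 := fun h => by simp [h] at he01
  have he1 : e1 ≠ 0 := fun h => by simp [h] at he01
  obtain ⟨-, hTR, f₀, hf, hE⟩ := hP
  have dat : ∀ j, ∃ z v v' : Fin m → F, j ∈ R → f₀ j = gm J z v ∧ z ≠ 0 ∧ (J *ᵥ z) ⬝ᵥ v = 0 ∧
      (J *ᵥ z) ⬝ᵥ v' = 0 ∧ (J *ᵥ v) ⬝ᵥ v' = -1 ∧ ∃ S, Sp J S ∧ S * gm J z v * S⁻¹ = gm J z v' := by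
    intro j
    by_cases hj : j ∈ R
    swap
    · exact ⟨0, 0, 0, fun h => absurd h hj⟩
    obtain ⟨z, v, hz, hv, ho, hzv⟩ := hf.2.1 j hj
    obtain ⟨v', h1, h2, h3⟩ := gm_partner hJ hz hv ho
    exact ⟨z, v, v', fun _ => ⟨hzv, hz, ho, h1, h2, h3⟩⟩
  choose z v v' hd using dat
  have toT : ∀ j, j ∈ T → ∀ {y : Fin m → F}, y ≠ 0 → ∃ S, Sp J S ∧ S * f₀ j * S⁻¹ = nu J y := fun j hj y hy => by
    obtain ⟨a, ha, haf⟩ := hf.1 j hj
    obtain ⟨S, hS, hSa⟩ := move hJ ha hy
    exact ⟨S, hS, by rw [haf, nu_conj hJ hS, hSa]⟩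
  have notR : ∀ {j}, j ∈ T → j ∉ R := fun h => Finset.disjoint_left.1 hTR h
  obtain ⟨f, hfd⟩ : ∃ f : τ → Matrix (Fin m) (Fin m) F, ∀ j, f j = if j ∈ T then nu J e0 else f₀ j :=
    ⟨_, fun _ => rfl⟩
  obtain ⟨f', hfd'⟩ : ∃ f' : τ → Matrix (Fin m) (Fin m) F, ∀ j, f' j =
      if j ∈ T then nu J e1 else if j ∈ R then gm J (z j) (v' j) else f₀ j := ⟨_, fun _ => rfl⟩
  refine ⟨f, f', H.ele_change hE fun j => ?_, H.ele_change hE fun j => ?_, fun j hj => ?_, fun j hjT hjR => ?_,
    fun j hj => ?_⟩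
  · rw [hfd]
    split_ifs with h1
    · exact toT j h1 he0
    · exact self_change hJ _
  · rw [hfd']
    split_ifs with h1 h2
    · exact toT j h1 he1
    · obtain ⟨hzj, -, -, -, -, hS⟩ := hd j h2
      rw [hzj]; exact hS
    · exact self_change hJ _
  · exact ⟨by rw [hfd, if_pos hj], by rw [hfd', if_pos hj]⟩
  · exact ⟨by rw [hfd, if_neg hjT, hf.2.2 j hjT hjR], by rw [hfd', if_neg hjT, if_neg hjR, hf.2.2 j hjT hjR]⟩
  · have hjT : j ∉ T := fun h => notR h hj
    obtain ⟨hzj, hz, ho, ho', hvv, -⟩ := hd j hj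
    rw [hfd, hfd', if_neg hjT, if_neg hjT, if_pos hj, hzj]
    refine ⟨by rw [gm_mul_gm hJ ho ho, hJ.self, neg_zero, zero_smul],
      by rw [gm_mul_gm hJ ho' ho', hJ.self, neg_zero, zero_smul], ?_, site_alt hJ hz ho ho' hvv⟩
    rw [gm_mul_gm hJ ho ho', smul_mul_assoc]
    suffices h : nu J (z j) * gm J (z j) (v j) = 0 by rw [h, smul_zero]
    refine Matrix.ext_iff_mulVec.2 fun y => ?_
    rw [← Matrix.mulVec_mulVec, gm_mulVec, nu_mulVec, dotProduct_sub, dotProduct_smul, dotProduct_smul, ho, hJ.self,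
      smul_zero, smul_zero, sub_zero, zero_smul, Matrix.zero_mulVec]

/-- An odd number of alternating factors with roots at all the others: leave out a root. -/
theorem Pure.root_turn (H : Hyp J M) (hev : Even (Fintype.card τ)) {T R : Finset τ} (hP : Pure J M T R)
    (hcov : T ∪ R = Finset.univ) (hR : R.Nonempty) {d : τ} (hd : d ∈ T) {e0 e1 : Fin m → F}
    (he01 : (J *ᵥ e0) ⬝ᵥ e1 = 1) :
    ∃ x : τ → Fin m → F, (∀ j, j ≠ d → x j ≠ 0) ∧
      Ele M (pureM (Function.update (fun j => nu J (x j)) d (gm J e0 e1))) := by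
  haveI := H.neZero
  obtain ⟨f, f', hfE, hfE', hT, -, hRd⟩ := hP.exists_two H he01
  obtain ⟨c₀, hc₀⟩ := hR
  obtain ⟨-, hTR, -⟩ := hP
  have hdc : d ≠ c₀ := fun e => Finset.disjoint_left.1 hTR hd (e ▸ hc₀)
  obtain ⟨a1, a2, a3, -, a5⟩ := hRd c₀ hc₀
  have h := (hfE.contract H.two hfE' (by rw [pureM_mul]; exact pureM_eq_zero (i := c₀) a2)
    (by rw [pureM_mul]; exact pureM_eq_zero (i := c₀) a1)
    (by rw [pureM_mul, pureM_mul]; exact pureM_eq_zero (i := c₀) a3)).2
  rw [pureM_mul, pureM_mul] at h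
  refine root_of_comm H hdc (A := f' * f) (B := f * f') (ε := fun _ => -1) ?_ a5 (fun j hjd hjc => ?_)
    (γ := -((J *ᵥ e0) ⬝ᵥ e1)) ?_ ?_ h
  · rw [Finset.prod_const, Finset.card_erase_of_mem (Finset.mem_univ _), Finset.card_univ]
    refine Odd.neg_one_pow (Nat.Even.sub_odd ?_ hev odd_one)
    exact Fintype.card_pos_iff.2 ⟨d⟩
  · rcases Finset.mem_union.1 (hcov ▸ Finset.mem_univ j : j ∈ T ∪ R) with hj | hj
    · show Site J (f' j * f j) (f j * f' j) (-1)
      rw [(hT j hj).1, (hT j hj).2]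
      exact site_roots H.hJ he01
    · exact (hRd j hj).2.2.2.1
  · rw [he01]; exact neg_ne_zero.2 one_ne_zero
  · show f' d * f d + f d * f' d = _
    rw [(hT d hd).1, (hT d hd).2, nu_mul_add H.hJ]

/-- A pure element grows, or gives a root element. -/
theorem Pure.grow_even (H : Hyp J M) (hev : Even (Fintype.card τ))
    (hp : ∀ σ : Equiv.Perm τ, Equiv.Perm.sign σ = 1 → InM M (permM F m σ)) {T R : Finset τ} (hP : Pure J M T R)
    (hbig : 2 ≤ (T ∪ R).card) {e0 e1 : Fin m → F} (he01 : (J *ᵥ e0) ⬝ᵥ e1 = 1) :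
    (∃ U : Finset τ, T.card < U.card ∧ 2 ≤ U.card ∧ Pure J M U ∅) ∨
      ∃ (d : τ) (x : τ → Fin m → F), (∀ j, j ≠ d → x j ≠ 0) ∧
        Ele M (pureM (Function.update (fun j => nu J (x j)) d (gm J e0 e1))) := by
  classical
  haveI := H.neZero
  have hJ := H.hJ
  have he0 : e0 ≠ 0 := fun h => by simp [h] at he01
  have he1 : e1 ≠ 0 := fun h => by simp [h] at he01
  have hodd := hP.odd_card H
  obtain ⟨f, f', hfE, hfE', hfT, hf1, hfR⟩ := hP.exists_two H he01
  obtain ⟨hT, hTR, -⟩ := id hP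
  have notR : ∀ {j}, j ∈ T → j ∉ R := fun h => Finset.disjoint_left.1 hTR h
  have hcU : (T ∪ R).card = T.card + R.card := Finset.card_union_of_disjoint hTR
  have h_two : ∀ a b c d : τ, a ≠ b → c ≠ d → InM M (permM F m (Equiv.swap a b * Equiv.swap c d)) :=
    fun a b c d hab hcd => hp _ (by rw [map_mul, Equiv.Perm.sign_swap hab, Equiv.Perm.sign_swap hcd]; decide)
  by_cases hR0 : R = ∅
  · subst hR0
    rw [Finset.union_empty] at hbig
    obtain ⟨b1, hb1, b2, hb2, hb⟩ := Finset.one_lt_card.1 (show 1 < T.card by omega)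
    have hlt : T.card < Fintype.card τ := lt_of_le_of_ne (Finset.card_le_univ T) fun h => by
      rw [h, ← Nat.not_even_iff_odd] at hodd
      exact hodd hev
    by_cases hbig' : T.card + 2 ≤ Fintype.card τ
    · -- two roots move out
      left
      obtain ⟨s1, hs1, s2, hs2, hs⟩ := Finset.one_lt_card.1 (show 1 < Tᶜ.card by rw [Finset.card_compl]; omega)
      rw [Finset.mem_compl] at hs1 hs2
      obtain ⟨O, hO⟩ : ∃ O, O = (T.erase b1).erase b2 := ⟨_, rfl⟩
      obtain ⟨U, hU⟩ : ∃ U, U = insert s1 (insert s2 T) := ⟨_, rfl⟩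
      have hne1 : b1 ≠ s1 := fun e => hs1 (e ▸ hb1)
      have hne2 : b2 ≠ s2 := fun e => hs2 (e ▸ hb2)
      have hne3 : b1 ≠ s2 := fun e => hs2 (e ▸ hb1)
      have hne4 : b2 ≠ s1 := fun e => hs1 (e ▸ hb2)
      obtain ⟨σ, hσ⟩ : ∃ σ : Equiv.Perm τ, σ = Equiv.swap b2 s2 * Equiv.swap b1 s1 := ⟨_, rfl⟩
      have hgE := H.ele_perm hfE' σ (hσ ▸ h_two _ _ _ _ hne2 hne1)
      have hsy : ∀ j, σ.symm j = Equiv.swap b1 s1 (Equiv.swap b2 s2 j) := fun j => by
        rw [hσ]; simp [← Equiv.Perm.inv_def, _root_.mul_inv_rev]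
      have gb1 : f' (σ.symm b1) = 1 := by
        rw [hsy, Equiv.swap_apply_of_ne_of_ne hb hne3, Equiv.swap_apply_left]
        exact (hf1 s1 hs1 (Finset.notMem_empty _)).2
      have gs1 : f' (σ.symm s1) = nu J e1 := by
        rw [hsy, Equiv.swap_apply_of_ne_of_ne (Ne.symm hne4) hs, Equiv.swap_apply_right]
        exact (hfT b1 hb1).2
      have hOU : O ⊆ U := by
        intro j hj; rw [hO] at hj; rw [hU]
        exact Finset.mem_insert_of_mem (Finset.mem_insert_of_mem (Finset.mem_of_mem_erase (Finset.mem_of_mem_erase hj)))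
      have hOodd : Odd O.card := by
        rw [hO, Finset.card_erase_of_mem (Finset.mem_erase.2 ⟨Ne.symm hb, hb2⟩), Finset.card_erase_of_mem hb1]
        obtain ⟨k, hk⟩ := hodd
        exact ⟨k - 1, by omega⟩
      refine ⟨U, by rw [hU, Finset.card_insert_of_notMem (by simp [hs, hs1]), Finset.card_insert_of_notMem hs2]; omega,
        by rw [hU, Finset.card_insert_of_notMem (by simp [hs, hs1]), Finset.card_insert_of_notMem hs2]; omega,
        pure_of_two H hfE hgE (U := U) (c₀ := b1) (b := b1) (s := s1) (ε := fun j => if j ∈ O then -1 else 1)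
          (fun j hj => ?_) (by simp [hU, hb1]) (prod_sign H.two hOU hOodd) ?_ ?_ ?_ ?_ ?_⟩
      · simp only [hU, Finset.mem_insert, not_or] at hj
        have hjb1 : j ≠ b1 := fun e => hj.2.2 (e ▸ hb1)
        have hjb2 : j ≠ b2 := fun e => hj.2.2 (e ▸ hb2)
        rw [hsy, Equiv.swap_apply_of_ne_of_ne hjb2 hj.2.1, Equiv.swap_apply_of_ne_of_ne hjb1 hj.1]
        exact hf1 j hj.2.2 (Finset.notMem_empty _)
      · rw [(hfT b1 hb1).1, nu_sq hJ]
      · rw [(hfT b1 hb1).1, gb1, mul_one, nu_sq hJ]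
      · rw [gs1, nu_sq hJ]
      · rw [gb1, (hfT b1 hb1).1, one_mul, mul_one, if_neg (by simp [hO])]
        exact (site_anchor_single hJ he0).2
      · intro j hj hj0
        rw [hU, Finset.mem_insert, Finset.mem_insert] at hj
        by_cases hjb2 : j = b2
        · subst hjb2
          rw [hsy, Equiv.swap_apply_left, Equiv.swap_apply_of_ne_of_ne (Ne.symm hne3) (Ne.symm hs),
            (hf1 s2 hs2 (Finset.notMem_empty _)).2, (hfT _ hb2).1, one_mul, mul_one, if_neg (by simp [hO])]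
          exact (site_anchor_single hJ he0).1
        by_cases hjs1 : j = s1
        · subst hjs1
          rw [gs1, (hf1 _ hs1 (Finset.notMem_empty _)).1, one_mul, mul_one,
            if_neg (by simp [hO, hs1])]
          exact (site_anchor_single hJ he1).1
        by_cases hjs2 : j = s2
        · subst hjs2
          rw [hsy, Equiv.swap_apply_right, Equiv.swap_apply_of_ne_of_ne (Ne.symm hb) hne4, (hfT b2 hb2).2,
            (hf1 _ hs2 (Finset.notMem_empty _)).1, one_mul, mul_one, if_neg (by simp [hO, hs2])]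
          exact (site_anchor_single hJ he1).1
        have hjT : j ∈ T := (hj.resolve_left hjs1).resolve_left hjs2
        rw [hsy, Equiv.swap_apply_of_ne_of_ne hjb2 hjs2, Equiv.swap_apply_of_ne_of_ne hj0 hjs1, (hfT j hjT).1,
          (hfT j hjT).2, if_pos (by simp [hO, hj0, hjb2, hjT])]
        exact site_roots hJ he01
    · -- all the factors but one
      right
      obtain ⟨c, hc⟩ : Tᶜ.Nonempty := Finset.card_pos.1 (by rw [Finset.card_compl]; omega)
      rw [Finset.mem_compl] at hc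
      have hcT : ∀ j, j ≠ c → j ∈ T := by
        intro j hj
        by_contra hjT
        have := Finset.card_le_univ (insert j (insert c T))
        rw [Finset.card_insert_of_notMem (by simp [hj, hjT]), Finset.card_insert_of_notMem hc] at this
        omega
      obtain ⟨b, hb'⟩ := hT
      obtain ⟨d, hd, hdb⟩ : ∃ d ∈ T, d ≠ b := Finset.exists_mem_ne (by omega) b
      have hbc : b ≠ c := fun e => hc (e ▸ hb')
      have hdc : d ≠ c := fun e => hc (e ▸ hd)
      obtain ⟨σ, hσ⟩ : ∃ σ : Equiv.Perm τ, σ = Equiv.swap b c * Equiv.swap b d := ⟨_, rfl⟩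
      have hgE := H.ele_perm hfE' σ (hσ ▸ h_two _ _ _ _ hbc (Ne.symm hdb))
      have hsy : ∀ j, f' (σ.symm j) = if j = b then 1 else nu J e1 := fun j => by
        rw [show σ.symm j = Equiv.swap b d (Equiv.swap b c j) by
          rw [hσ]; simp [← Equiv.Perm.inv_def, _root_.mul_inv_rev]]
        by_cases hjb : j = b
        · subst hjb
          rw [if_pos rfl, Equiv.swap_apply_left, Equiv.swap_apply_of_ne_of_ne (Ne.symm hbc) (Ne.symm hdc)]
          exact (hf1 c hc (Finset.notMem_empty _)).2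
        rw [if_neg hjb]
        refine (hfT _ ?_).2
        refine hcT _ fun e => ?_
        by_cases hjc : j = c
        · rw [hjc, Equiv.swap_apply_right, Equiv.swap_apply_left] at e
          exact hdc e
        · rw [Equiv.swap_apply_of_ne_of_ne hjb hjc] at e
          by_cases hjd : j = d
          · rw [hjd, Equiv.swap_apply_right] at e
            exact hbc e
          · rw [Equiv.swap_apply_of_ne_of_ne hjb hjd] at e
            exact hjc e
      have h := (hfE.contract H.two hgE (by rw [pureM_mul]; exact pureM_eq_zero (i := c) (by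
          rw [Pi.mul_apply, hsy, if_neg (Ne.symm hbc), nu_sq hJ]))
        (by rw [pureM_mul]; exact pureM_eq_zero (i := b) (by rw [Pi.mul_apply, (hfT b hb').1, nu_sq hJ]))
        (by rw [pureM_mul, pureM_mul]; exact pureM_eq_zero (i := b) (by
          rw [Pi.mul_apply, Pi.mul_apply, hsy, if_pos rfl, mul_one, (hfT b hb').1, nu_sq hJ]))).2
      rw [pureM_mul, pureM_mul] at h
      obtain ⟨A, hA⟩ : ∃ A : τ → Matrix (Fin m) (Fin m) F, A = (fun j => f' (σ.symm j)) * f := ⟨_, rfl⟩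
      obtain ⟨B, hB⟩ : ∃ B : τ → Matrix (Fin m) (Fin m) F, B = f * fun j => f' (σ.symm j) := ⟨_, rfl⟩
      rw [← hA, ← hB] at h
      refine ⟨d, root_of_comm H hdb (A := A) (B := B) (ε := fun j => if j = b ∨ j = c then 1 else -1) ?_ ?_ ?_
        (γ := -((J *ᵥ e0) ⬝ᵥ e1)) ?_ ?_ h⟩
      · rw [Finset.prod_ite]
        simp only [Finset.prod_const_one, one_mul, Finset.prod_const]
        refine Odd.neg_one_pow ?_
        rw [show ((Finset.univ.erase d).filter fun j => ¬(j = b ∨ j = c)) = ((Finset.univ.erase d).erase b).erase c by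
          ext j; simp; tauto, Finset.card_erase_of_mem (by simp [Ne.symm hdc, Ne.symm hbc]),
          Finset.card_erase_of_mem (by simp [Ne.symm hdb]), Finset.card_erase_of_mem (Finset.mem_univ _),
          Finset.card_univ]
        obtain ⟨k, hk⟩ := hev
        exact ⟨k - 2, by omega⟩
      · simp only [hA, hB, Pi.mul_apply, hsy, true_or, if_true, (hfT b hb').1, one_mul, mul_one]
        exact (site_anchor_single hJ he0).2
      · intro j hjd hjb
        simp only [hA, hB, Pi.mul_apply, hsy, hjb, false_or, if_false]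
        by_cases hjc : j = c
        · subst hjc
          rw [if_pos rfl, (hf1 _ hc (Finset.notMem_empty _)).1, mul_one, one_mul]
          exact (site_anchor_single hJ he1).1
        · rw [if_neg hjc, (hfT j (hcT j hjc)).1]
          exact site_roots hJ he01
      · rw [he01]; exact neg_ne_zero.2 one_ne_zero
      · simp only [hA, hB, Pi.mul_apply, hsy, hdb, if_false, (hfT d hd).1]
        exact nu_mul_add hJ e0 e1
  obtain ⟨a, ha⟩ := Finset.nonempty_iff_ne_empty.2 hR0
  have hR1 : 0 < R.card := Finset.card_pos.2 ⟨a, ha⟩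
  obtain ⟨a1, a2, a3, -, a5⟩ := hfR a ha
  rcases Nat.even_or_odd R.card with hRe | hRo
  · -- an even number of alternating factors
    left
    refine ⟨T ∪ R, by omega, hbig, pure_of_two H hfE hfE' (U := T ∪ R) (c₀ := a) (b := a) (s := a)
      (ε := fun _ => -1) (fun j hj => ?_) (Finset.mem_union_right _ ha) ?_ a1 a3 a2 a5 fun j hj hj0 => ?_⟩
    · rw [Finset.mem_union, not_or] at hj
      exact hf1 j hj.1 hj.2
    · rw [Finset.prod_const, hcU, (hodd.add_even hRe).neg_one_pow]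
      exact fun h => H.two (by linear_combination -h)
    · rcases Finset.mem_union.1 hj with hjT | hjR
      · rw [(hfT j hjT).1, (hfT j hjT).2]; exact site_roots hJ he01
      · exact (hfR j hjR).2.2.2.1
  -- an odd number of alternating factors
  by_cases hcov : T ∪ R = Finset.univ
  · right
    obtain ⟨d, hd⟩ := hT
    exact ⟨d, hP.root_turn H hev hcov ⟨a, ha⟩ hd he01⟩
  left
  obtain ⟨b, hb⟩ := hT
  obtain ⟨s, hs, s', hs', hss⟩ := Finset.one_lt_card.1 (show 1 < (T ∪ R)ᶜ.card by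
    have h1 := Finset.card_pos.2 (Finset.nonempty_iff_ne_empty.2 fun h => hcov (Finset.compl_eq_empty_iff _ |>.1 h))
    rw [Finset.card_compl] at h1 ⊢
    obtain ⟨p, hpt⟩ := hev
    obtain ⟨k, hk⟩ := hodd; obtain ⟨l, hl⟩ := hRo
    omega)
  rw [Finset.mem_compl, Finset.mem_union, not_or] at hs hs'
  have hbs : b ≠ s := fun e => hs.1 (e ▸ hb)
  have hbs' : b ≠ s' := fun e => hs'.1 (e ▸ hb)
  have hfs : f' s = 1 ∧ f' s' = 1 := ⟨(hf1 s hs.1 hs.2).2, (hf1 s' hs'.1 hs'.2).2⟩
  have hgE : Ele M (pureM fun j => f' (Equiv.swap b s j)) := by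
    have := H.ele_perm hfE' (Equiv.swap b s * Equiv.swap s s') (h_two _ _ _ _ hbs hss)
    convert this using 2
    funext j
    rw [show (Equiv.swap b s * Equiv.swap s s').symm j = Equiv.swap s s' (Equiv.swap b s j) by
      simp [← Equiv.Perm.inv_def, _root_.mul_inv_rev]]
    obtain ⟨i, hi⟩ : ∃ i, i = Equiv.swap b s j := ⟨_, rfl⟩
    rw [← hi]
    rcases eq_or_ne i s with rfl | h1
    · rw [Equiv.swap_apply_left, hfs.1, hfs.2]
    rcases eq_or_ne i s' with rfl | h2
    · rw [Equiv.swap_apply_right, hfs.1, hfs.2]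
    rw [Equiv.swap_apply_of_ne_of_ne h1 h2]
  obtain ⟨O, hO⟩ : ∃ O, O = T.erase b ∪ R := ⟨_, rfl⟩
  have hOU : O ⊆ insert s (T ∪ R) := by
    rw [hO]
    exact (Finset.union_subset_union (Finset.erase_subset _ _) (Finset.Subset.refl _)).trans (Finset.subset_insert _ _)
  have hOodd : Odd O.card := by
    rw [hO, Finset.card_union_of_disjoint (Finset.disjoint_left.2 fun j h1 => notR (Finset.mem_of_mem_erase h1)),
      Finset.card_erase_of_mem hb]
    obtain ⟨k, hk⟩ := hodd; obtain ⟨l, hl⟩ := hRo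
    exact ⟨k + l, by omega⟩
  have hcard : (insert s (T ∪ R)).card = T.card + R.card + 1 := by
    rw [Finset.card_insert_of_notMem (by simp [hs.1, hs.2]), hcU]
  refine ⟨insert s (T ∪ R), by omega, by omega, pure_of_two H hfE hgE (U := insert s (T ∪ R)) (c₀ := b) (b := b)
    (s := s) (ε := fun j => if j ∈ O then -1 else 1) (fun j hj => ?_)
    (Finset.mem_insert_of_mem (Finset.mem_union_left _ hb)) (prod_sign H.two hOU hOodd) ?_ ?_ ?_ ?_ ?_⟩
  · simp only [Finset.mem_insert, Finset.mem_union, not_or] at hj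
    have hjb : j ≠ b := fun e => hj.2.1 (e ▸ hb)
    rw [Equiv.swap_apply_of_ne_of_ne hjb hj.1]
    exact hf1 j hj.2.1 hj.2.2
  · rw [(hfT b hb).1, nu_sq hJ]
  · rw [Equiv.swap_apply_left, hfs.1, mul_one, (hfT b hb).1, nu_sq hJ]
  · rw [Equiv.swap_apply_right, (hfT b hb).2, nu_sq hJ]
  · rw [Equiv.swap_apply_left, hfs.1, one_mul, mul_one, (hfT b hb).1, if_neg (by simp [hO, notR hb])]
    exact (site_anchor_single hJ he0).2
  · intro j hj hjb
    by_cases hjs : j = s
    · subst hjs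
      rw [Equiv.swap_apply_right, (hfT b hb).2, (hf1 _ hs.1 hs.2).1, one_mul, mul_one,
        if_neg (by simp [hO, hs.1, hs.2])]
      exact (site_anchor_single hJ he1).1
    rw [Finset.mem_insert, or_iff_right hjs, Finset.mem_union] at hj
    rw [Equiv.swap_apply_of_ne_of_ne hjb hjs]
    rcases hj with hjT | hjR
    · rw [(hfT j hjT).1, (hfT j hjT).2, if_pos (hO ▸ Finset.mem_union_left _ (Finset.mem_erase.2 ⟨hjb, hjT⟩))]
      exact site_roots hJ he01
    · rw [if_pos (hO ▸ Finset.mem_union_right _ hjR)]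
      exact (hfR j hjR).2.2.2.1

/-- A non-scalar element next to a root gives a root element of a plane. -/
theorem Hyp.exists_root_element (H : Hyp J M) (hev : Even (Fintype.card τ))
    (hp : ∀ σ : Equiv.Perm τ, Equiv.Perm.sign σ = 1 → InM M (permM F m σ)) (hS : ¬ SmallAll J M) :
    ∃ (d : τ) (x : τ → Fin m → F) (z v : Fin m → F), (∀ j, j ≠ d → x j ≠ 0) ∧ (J *ᵥ z) ⬝ᵥ v = 1 ∧
      Ele M (pureM (Function.update (fun j => nu J (x j)) d (gm J z v))) := by
  haveI := H.neZero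
  obtain ⟨e0, he0⟩ : ∃ e0 : Fin m → F, e0 ≠ 0 := ⟨Pi.single 0 1, by simp⟩
  obtain ⟨e1, he01⟩ := H.hJ.exists_form_ne he0
  obtain ⟨T, R, hbig, hP⟩ := H.exists_pure_start hS
  suffices ∀ (n : ℕ) (T R : Finset τ), Fintype.card τ - T.card = n → 2 ≤ (T ∪ R).card → Pure J M T R →
      ∃ (d : τ) (x : τ → Fin m → F), (∀ j, j ≠ d → x j ≠ 0) ∧
        Ele M (pureM (Function.update (fun j => nu J (x j)) d (gm J e0 e1))) by
    obtain ⟨d, x, hx, hE⟩ := this _ T R rfl hbig hP
    exact ⟨d, x, e0, e1, hx, he01, hE⟩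
  intro n
  induction n using Nat.strong_induction_on with
  | _ n IH =>
  intro T R hn hbig hP
  rcases hP.grow_even H hev hp hbig he01 with ⟨U, hU, hU2, hUP⟩ | h
  · refine IH _ ?_ U ∅ rfl (by rw [Finset.union_empty]; exact hU2) hUP
    have := Finset.card_le_univ U
    omega
  · exact h

end CfsgLib.Classical.TensorWreathS
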