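import Cfsg.Agent.Lib.Classical.TensorWreathS.Form
import Cfsg.Agent.Lib.Classical.TensorWreath.Rel

set_option autoImplicit false
set_option linter.unusedSectionVars false

/-!
Roots of a symplectic space, and contractions of a matrix of a tensor power at one factor.
-/

namespace CfsgLib.Classical.TensorWreathS

open Matrix CfsgLib.Classical.TensorWreath
open CfsgLib.Classical.TensorSymp (adj Sp AForm tv)
open scoped MatrixGroups Kronecker

variable {F : Type*} [Field F] [Finite F] {τ : Type} [Fintype τ] [DecidableEq τ] {m : ℕ}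

/-- The alternating product of two vectors. -/
def gm (J : Matrix (Fin m) (Fin m) F) (z v : Fin m → F) : Matrix (Fin m) (Fin m) F :=
  Matrix.vecMulVec v (J *ᵥ z) - Matrix.vecMulVec z (J *ᵥ v)

variable {J : Matrix (Fin m) (Fin m) F}

theorem nu_mul (a b : Fin m → F) : nu J a * nu J b = ((J *ᵥ a) ⬝ᵥ b) • Matrix.vecMulVec a (J *ᵥ b) := by
  rw [nu, nu, Matrix.vecMulVec_mul_vecMulVec, Matrix.vecMulVec_smul]

theorem nu_sq (hJ : AForm J) (u : Fin m → F) : nu J u * nu J u = 0 := by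
  rw [nu_mul, hJ.self, zero_smul]

theorem nu_smul (c : F) (u : Fin m → F) : nu J (c • u) = (c * c) • nu J u := by
  rw [nu, nu, Matrix.mulVec_smul, Matrix.smul_vecMulVec, Matrix.vecMulVec_smul, smul_smul]

theorem nu_sandwich (u : Fin m → F) (A : Matrix (Fin m) (Fin m) F) :
    nu J u * A * nu J u = ((J *ᵥ u) ⬝ᵥ (A *ᵥ u)) • nu J u := by
  rw [nu, Matrix.mul_assoc, Matrix.mul_vecMulVec, Matrix.vecMulVec_mul_vecMulVec, Matrix.vecMulVec_smul]

theorem nu_mulVec (u x : Fin m → F) : nu J u *ᵥ x = ((J *ᵥ u) ⬝ᵥ x) • u := by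
  rw [nu, Matrix.vecMulVec_mulVec, op_smul_eq_smul]

theorem nu_ne_zero (hJ : AForm J) {u : Fin m → F} (hu : u ≠ 0) : nu J u ≠ 0 := fun h => by
  rcases Matrix.vecMulVec_eq_zero.1 h with h | h
  · exact hu h
  · exact hJ.mulVec_ne hu h

theorem tv_eq (u : Fin m → F) (c : F) : tv J u c = 1 + c • nu J u := by
  rw [tv, nu, Matrix.smul_vecMulVec]

theorem vecMul_inv (hJ : AForm J) {T : Matrix (Fin m) (Fin m) F} (hT : Sp J T) (u : Fin m → F) :
    (J *ᵥ u) ᵥ* T⁻¹ = J *ᵥ (T *ᵥ u) := by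
  conv_lhs => rw [← hJ.vecMul_image hT u]
  rw [Matrix.vecMul_vecMul, (hJ.sp_inv hT).1, Matrix.vecMul_one]

theorem rk_conj (hJ : AForm J) {T : Matrix (Fin m) (Fin m) F} (hT : Sp J T) (a b : Fin m → F) :
    T * Matrix.vecMulVec a (J *ᵥ b) * T⁻¹ = Matrix.vecMulVec (T *ᵥ a) (J *ᵥ (T *ᵥ b)) := by
  rw [Matrix.mul_vecMulVec, Matrix.vecMulVec_mul, vecMul_inv hJ hT]

theorem nu_conj (hJ : AForm J) {T : Matrix (Fin m) (Fin m) F} (hT : Sp J T) (u : Fin m → F) :
    T * nu J u * T⁻¹ = nu J (T *ᵥ u) :=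
  rk_conj hJ hT u u

theorem gm_conj (hJ : AForm J) {T : Matrix (Fin m) (Fin m) F} (hT : Sp J T) (z v : Fin m → F) :
    T * gm J z v * T⁻¹ = gm J (T *ᵥ z) (T *ᵥ v) := by
  rw [gm, Matrix.mul_sub, Matrix.sub_mul, rk_conj hJ hT, rk_conj hJ hT, gm]

theorem exists_nonorth (hJ : AForm J) {a b : Fin m → F} (ha : a ≠ 0) (hb : b ≠ 0) :
    ∃ e, (J *ᵥ a) ⬝ᵥ e ≠ 0 ∧ (J *ᵥ b) ⬝ᵥ e ≠ 0 := by
  obtain ⟨y, -, hy⟩ := hJ.exists_both (fun i : Fin 0 => i.elim0)
    (by obtain ⟨y, hy⟩ := hJ.exists_form_ne ha; exact ⟨y, fun i => i.elim0, by rw [hy]; exact one_ne_zero⟩)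
    (by obtain ⟨y, hy⟩ := hJ.exists_form_ne hb; exact ⟨y, fun i => i.elim0, by rw [hy]; exact one_ne_zero⟩)
  exact ⟨y, hy⟩

/-- The symplectic group is transitive on non-zero vectors. -/
theorem move (hJ : AForm J) {w w' : Fin m → F} (hw : w ≠ 0) (hw' : w' ≠ 0) : ∃ T, Sp J T ∧ T *ᵥ w = w' := by
  by_cases hne : (J *ᵥ w') ⬝ᵥ w = 0
  · obtain ⟨y, hy1, hy2⟩ := exists_nonorth hJ hw hw'
    rw [hJ.swap] at hy1
    refine ⟨_, hJ.sp_mul (hJ.sp_tv (w' - y) ((J *ᵥ w') ⬝ᵥ y)⁻¹) (hJ.sp_tv (y - w) ((J *ᵥ y) ⬝ᵥ w)⁻¹), ?_⟩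
    rw [← Matrix.mulVec_mulVec, hJ.tv_move (neg_ne_zero.1 hy1), hJ.tv_move hy2]
  · exact ⟨_, hJ.sp_tv _ _, hJ.tv_move hne⟩

/-! ### Contractions -/

/-- The contraction at the factor `j` against `φ` and `u`. -/
def cn (j : τ) (φ u : Fin m → F) (Y : Matrix (Ix τ m) (Ix τ m) F) : Matrix (Ix τ m) (Ix τ m) F :=
  ∑ x, embM j (Matrix.vecMulVec (Pi.single x 1) φ) * Y * embM j (Matrix.vecMulVec u (Pi.single x 1))

theorem sum_smul_single (b : Fin m → F) : ∑ x, b x • (Pi.single x (1 : F) : Fin m → F) = b := by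
  ext y
  simp [Finset.sum_apply, Pi.single_apply]

theorem sandwich (j : τ) (a b φ u : Fin m → F) (Y : Matrix (Ix τ m) (Ix τ m) F) :
    embM j (Matrix.vecMulVec a φ) * Y * embM j (Matrix.vecMulVec u b) =
      embM j (Matrix.vecMulVec a b) * cn j φ u Y := by
  have e : Matrix.vecMulVec u b = ∑ x, b x • Matrix.vecMulVec u (Pi.single x (1 : F)) := by
    ext p q
    simp [Matrix.sum_apply, Matrix.vecMulVec_apply, Pi.single_apply, mul_comm]
  rw [cn, Finset.mul_sum, e, embM_sum, Finset.mul_sum]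
  refine Finset.sum_congr rfl fun x _ => ?_
  rw [← mul_assoc, ← mul_assoc, embM_mul, Matrix.vecMulVec_mul_vecMulVec, dotProduct_single, mul_one,
    Matrix.vecMulVec_smul, embM_smul, embM_smul, mul_smul_comm, smul_mul_assoc, smul_mul_assoc]

theorem cn_mul_embM (j : τ) (a b φ u : Fin m → F) (Y : Matrix (Ix τ m) (Ix τ m) F) :
    cn j φ u Y * embM j (Matrix.vecMulVec a b) =
      embM j (Matrix.vecMulVec a φ) * Y * embM j (Matrix.vecMulVec u b) := by
  have e : Matrix.vecMulVec a φ = ∑ x, a x • Matrix.vecMulVec (Pi.single x (1 : F)) φ := by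
    ext p q
    simp [Matrix.sum_apply, Matrix.vecMulVec_apply, Pi.single_apply]
  rw [cn, Finset.sum_mul, e, embM_sum, Finset.sum_mul, Finset.sum_mul]
  refine Finset.sum_congr rfl fun x _ => ?_
  rw [mul_assoc, embM_mul, Matrix.vecMulVec_mul_vecMulVec, single_dotProduct, one_mul, Matrix.vecMulVec_smul,
    embM_smul, embM_smul, mul_smul_comm, smul_mul_assoc, smul_mul_assoc]

theorem cen_cn (j : τ) (φ u : Fin m → F) (Y : Matrix (Ix τ m) (Ix τ m) F) : Cen j (cn j φ u Y) :=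
  cen_of_units fun a b => by
    rw [show (e a b : Matrix (Fin m) (Fin m) F) = Matrix.vecMulVec (Pi.single a 1) (Pi.single b 1) from
      Matrix.single_eq_single_vecMulVec_single a b, ← sandwich, cn_mul_embM]

theorem cen_cn_of {j k : τ} (φ u : Fin m → F) {Y : Matrix (Ix τ m) (Ix τ m) F} (h : Cen k Y) :
    Cen k (cn j φ u Y) := by
  by_cases hk : k = j
  · subst hk; exact cen_cn _ _ _ _
  · exact Cen.sum _ fun x _ => ((cen_embM hk _).mul h).mul (cen_embM hk _)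

theorem cn_mul_left {j : τ} (φ u : Fin m → F) {Q : Matrix (Ix τ m) (Ix τ m) F} (hQ : Cen j Q)
    (Y : Matrix (Ix τ m) (Ix τ m) F) : cn j φ u (Q * Y) = Q * cn j φ u Y := by
  rw [cn, cn, Finset.mul_sum]
  refine Finset.sum_congr rfl fun x _ => ?_
  rw [← mul_assoc (embM j _) Q, hQ, mul_assoc Q, mul_assoc Q]

theorem cn_add (j : τ) (φ u : Fin m → F) (Y Y' : Matrix (Ix τ m) (Ix τ m) F) :
    cn j φ u (Y + Y') = cn j φ u Y + cn j φ u Y' := by
  simp only [cn, mul_add, add_mul, Finset.sum_add_distrib]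

theorem cn_smul (j : τ) (φ u : Fin m → F) (c : F) (Y : Matrix (Ix τ m) (Ix τ m) F) :
    cn j φ u (c • Y) = c • cn j φ u Y := by
  simp only [cn, mul_smul_comm, smul_mul_assoc, Finset.smul_sum]

theorem cn_add_left (j : τ) (φ φ' u : Fin m → F) (Y : Matrix (Ix τ m) (Ix τ m) F) :
    cn j (φ + φ') u Y = cn j φ u Y + cn j φ' u Y := by
  simp only [cn, Matrix.vecMulVec_add, embM_add, add_mul, Finset.sum_add_distrib]

theorem cn_add_right (j : τ) (φ u u' : Fin m → F) (Y : Matrix (Ix τ m) (Ix τ m) F) :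
    cn j φ (u + u') Y = cn j φ u Y + cn j φ u' Y := by
  simp only [cn, Matrix.add_vecMulVec, embM_add, mul_add, Finset.sum_add_distrib]

theorem cn_smul_left (j : τ) (φ u : Fin m → F) (c : F) (Y : Matrix (Ix τ m) (Ix τ m) F) :
    cn j (c • φ) u Y = c • cn j φ u Y := by
  simp only [cn, Matrix.vecMulVec_smul, embM_smul, smul_mul_assoc, Finset.smul_sum]

theorem cn_smul_right (j : τ) (φ u : Fin m → F) (c : F) (Y : Matrix (Ix τ m) (Ix τ m) F) :
    cn j φ (c • u) Y = c • cn j φ u Y := by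
  simp only [cn, Matrix.smul_vecMulVec, embM_smul, mul_smul_comm, Finset.smul_sum]

theorem nyn (j : τ) (w : Fin m → F) (Y : Matrix (Ix τ m) (Ix τ m) F) :
    embM j (nu J w) * Y * embM j (nu J w) = embM j (nu J w) * cn j (J *ᵥ w) w Y :=
  sandwich j w (J *ᵥ w) (J *ᵥ w) w Y

theorem eq_zero_of_embM_mul [NeZero m] {j : τ} {Z : Matrix (Ix τ m) (Ix τ m) F} (hZ : Cen j Z)
    {a : Matrix (Fin m) (Fin m) F} (ha : a ≠ 0) (h : embM j a * Z = 0) : Z = 0 := by
  obtain ⟨p, q, hpq⟩ : ∃ p q, a p q ≠ 0 := by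
    by_contra hc
    push Not at hc
    exact ha (Matrix.ext hc)
  have key : ∀ x, a p q • (embM j (e x x) * Z) = 0 := fun x => by
    have e1 : (e x p : Matrix (Fin m) (Fin m) F) * a * e q x = a p q • e x x := by
      ext s t
      simp [Matrix.single_mul_mul_single, Matrix.single_apply]
    have h2 := congrArg (fun Y => embM j (e x p) * Y * embM j (e q x)) h
    simp only [mul_zero, zero_mul] at h2
    rw [← mul_assoc, mul_assoc _ Z, ← hZ, ← mul_assoc, embM_mul, embM_mul, e1, embM_smul, smul_mul_assoc] at h2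
    exact h2
  calc Z = ∑ x, embM j (e x x) * Z := by rw [← Finset.sum_mul, sum_e_diag, one_mul]
    _ = 0 := Finset.sum_eq_zero fun x _ => (smul_eq_zero.1 (key x)).resolve_left hpq

theorem cn_of_cen {j : τ} (φ u : Fin m → F) {Y : Matrix (Ix τ m) (Ix τ m) F} (hY : Cen j Y) :
    cn j φ u Y = (φ ⬝ᵥ u) • Y := by
  have e1 : ∀ x, embM j (Matrix.vecMulVec (Pi.single x 1) φ) * Y * embM j (Matrix.vecMulVec u (Pi.single x 1)) =
      (φ ⬝ᵥ u) • (embM j (e x x) * Y) := fun x => by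
    rw [mul_assoc, ← hY, ← mul_assoc, embM_mul, Matrix.vecMulVec_mul_vecMulVec, Matrix.vecMulVec_smul,
      ← Matrix.single_eq_single_vecMulVec_single, embM_smul, smul_mul_assoc]
  rw [cn, Finset.sum_congr rfl fun x _ => e1 x, ← Finset.smul_sum, ← Finset.sum_mul, sum_e_diag, one_mul]

theorem eq_sum_cn (j : τ) (Y : Matrix (Ix τ m) (Ix τ m) F) :
    Y = ∑ a, ∑ b, embM j (e a b) * cn j (Pi.single a 1) (Pi.single b 1) Y := by
  have e1 : ∀ a b : Fin m, embM j (e a b) * cn j (Pi.single a 1) (Pi.single b 1) Y =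
      embM j (e a a) * Y * embM j (e b b) := fun a b => by
    simp only [e, Matrix.single_eq_single_vecMulVec_single]
    rw [sandwich]
  simp only [e1, ← Finset.mul_sum, sum_e_diag, mul_one, ← Finset.sum_mul, one_mul]

theorem cn_polar (hJ : AForm J) {j : τ} {Y : Matrix (Ix τ m) (Ix τ m) F}
    (h0 : ∀ w, cn j (J *ᵥ w) w Y = 0) (w v : Fin m → F) :
    cn j (J *ᵥ v) w Y = -cn j (J *ᵥ w) v Y := by
  have h := h0 (w + v)
  rw [Matrix.mulVec_add, cn_add_left, cn_add_right, cn_add_right, h0, h0, zero_add, add_zero] at h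
  exact eq_neg_of_add_eq_zero_right h

/-- A matrix whose contractions on orthogonal pairs vanish commutes with the factor. -/
theorem cen_of_cn [NeZero m] (hJ : AForm J) {j : τ} {Y : Matrix (Ix τ m) (Ix τ m) F}
    (h : ∀ w v, (J *ᵥ w) ⬝ᵥ v = 0 → cn j (J *ᵥ w) v Y = 0) : Cen j Y := by
  obtain ⟨b, hb⟩ : ∃ b : (Fin m → F) → (Fin m → F) → Matrix (Ix τ m) (Ix τ m) F,
      b = fun w v => cn j (J *ᵥ w) v Y := ⟨_, rfl⟩
  have h' : ∀ w v, (J *ᵥ w) ⬝ᵥ v = 0 → b w v = 0 := fun w v hwv => by rw [hb]; exact h w v hwv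
  have right : ∀ w y, (J *ᵥ w) ⬝ᵥ y = 1 → ∀ v, b w v = ((J *ᵥ w) ⬝ᵥ v) • b w y := fun w y hy v => by
    have h0 := h' w (v + (-((J *ᵥ w) ⬝ᵥ v)) • y) (by rw [dotProduct_add, dotProduct_smul, hy, smul_eq_mul]; ring)
    rw [hb] at h0 ⊢
    simp only [cn_add_right, cn_smul_right] at h0
    rw [neg_smul] at h0
    exact add_neg_eq_zero.1 h0
  have left : ∀ v y, (J *ᵥ y) ⬝ᵥ v = 1 → ∀ w, b w v = ((J *ᵥ w) ⬝ᵥ v) • b y v := fun v y hy w => by
    have h0 := h' (w + (-((J *ᵥ w) ⬝ᵥ v)) • y) v (by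
      rw [Matrix.mulVec_add, add_dotProduct, Matrix.mulVec_smul, smul_dotProduct, hy, smul_eq_mul]; ring)
    rw [hb] at h0 ⊢
    simp only [Matrix.mulVec_add, Matrix.mulVec_smul, cn_add_left, cn_smul_left] at h0
    rw [neg_smul] at h0
    exact add_neg_eq_zero.1 h0
  obtain ⟨E, hE⟩ : ∃ E, ∀ w v, b w v = ((J *ᵥ w) ⬝ᵥ v) • E := by
    have hne : (Pi.single 0 1 : Fin m → F) ≠ 0 := by simp
    obtain ⟨w0, hw0⟩ : ∃ w0, w0 = (Pi.single 0 1 : Fin m → F) := ⟨_, rfl⟩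
    rw [← hw0] at hne
    obtain ⟨y0, hy0⟩ := hJ.exists_form_ne hne
    refine ⟨b w0 y0, fun w v => ?_⟩
    by_cases hw : w = 0
    · subst hw
      rw [Matrix.mulVec_zero, zero_dotProduct, zero_smul]
      exact h' 0 v (by rw [Matrix.mulVec_zero, zero_dotProduct])
    obtain ⟨e', he1, he2⟩ := exists_nonorth hJ hw hne
    obtain ⟨y, hy⟩ := hJ.exists_form_ne hw
    -- the common value at `e'`
    have c1 : b w e' = ((J *ᵥ w) ⬝ᵥ e') • b w y := right w y hy e'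
    have c2 : b w0 e' = ((J *ᵥ w0) ⬝ᵥ e') • b w0 y0 := right w0 y0 hy0 e'
    obtain ⟨z, hz⟩ : ∃ z, (J *ᵥ z) ⬝ᵥ e' = 1 := ⟨((J *ᵥ w) ⬝ᵥ e')⁻¹ • w, by
      rw [Matrix.mulVec_smul, smul_dotProduct, smul_eq_mul, inv_mul_cancel₀ he1]⟩
    rw [left e' z hz] at c1 c2
    have d1 : b z e' = b w y := smul_right_injective _ he1 c1
    have d2 : b z e' = b w0 y0 := smul_right_injective _ he2 c2
    rw [right w y hy v, ← d1, d2]
  have hφ : ∀ φ u, cn j φ u Y = (φ ⬝ᵥ u) • E := fun φ u => by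
    obtain ⟨w, hw⟩ : ∃ w, J *ᵥ w = φ := ⟨J⁻¹ *ᵥ φ, by
      rw [Matrix.mulVec_mulVec, Matrix.mul_nonsing_inv J hJ.isUnit_det, Matrix.one_mulVec]⟩
    have := hE w u
    rw [hb] at this
    simp only [hw] at this
    exact this
  have hEc : Cen j E := by
    have := cen_cn (F := F) j (Pi.single 0 1) (Pi.single 0 1) Y
    rwa [hφ, single_dotProduct, Pi.single_eq_same, mul_one, one_smul] at this
  suffices hYE : Y = E by rw [hYE]; exact hEc
  conv_lhs => rw [eq_sum_cn j Y]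
  simp only [hφ, single_dotProduct, one_mul, Pi.single_apply, ite_smul, one_smul, zero_smul, mul_ite, mul_zero,
    Finset.sum_ite_eq, Finset.mem_univ, if_true]
  rw [← Finset.sum_mul, sum_e_diag, one_mul]

/-- The double bracket with two orthogonal roots, all the contractions being zero. -/
theorem bracket (hJ : AForm J) {j : τ} {Y : Matrix (Ix τ m) (Ix τ m) F} (h0 : ∀ w, cn j (J *ᵥ w) w Y = 0)
    {w v : Fin m → F} (hwv : (J *ᵥ w) ⬝ᵥ v = 0) :
    embM j (nu J w) * (embM j (nu J v) * Y - Y * embM j (nu J v)) -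
        (embM j (nu J v) * Y - Y * embM j (nu J v)) * embM j (nu J w) =
      embM j (gm J w v) * cn j (J *ᵥ w) v Y := by
  have z1 : embM j (nu J w) * embM j (nu J v) = (0 : Matrix (Ix τ m) (Ix τ m) F) := by
    rw [embM_mul, nu_mul, hwv, zero_smul, embM_zero]
  have z2 : embM j (nu J v) * embM j (nu J w) = (0 : Matrix (Ix τ m) (Ix τ m) F) := by
    rw [embM_mul, nu_mul, hJ.swap, hwv, neg_zero, zero_smul, embM_zero]
  simp only [mul_sub, sub_mul, ← mul_assoc, z1, zero_mul]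
  rw [mul_assoc Y, z2, mul_zero]
  simp only [nu, sandwich]
  rw [cn_polar hJ h0 w v, gm, embM_sub, sub_mul, mul_neg]
  abel

end CfsgLib.Classical.TensorWreathS
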