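import Cfsg.Agent.Lib.Classical.TensorWreathS.PairTens

set_option autoImplicit false
set_option linter.unusedSectionVars false

/-!
The levels are scalars when a skew matrix anticommuting up to scalars with its conjugates is zero.
-/

namespace CfsgLib.Classical.TensorWreathS.Pair

open Matrix CfsgLib.Classical.TensorMax
open CfsgLib.Classical.TensorMixed (Zm Np Tp tp_mulVec kr_kc_mul sp_of_form Rad Small ScalarLevels)
open CfsgLib.Classical.TensorSymp (adj Sp kr_mul_apply kc_mul_apply eq_of_mul_kc_all AForm tv)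
open scoped MatrixGroups Kronecker

variable {F : Type*} [Field F] [Finite F] {α β : Type} [Fintype α] [DecidableEq α] [Fintype β] [DecidableEq β]
variable {JA : Matrix α α F} {JB : Matrix β β F} {M : Subgroup (GL (α × β) F)}

namespace Hyp

variable (H : Hyp (-1 : F) JA JB M)
include H

theorem adj_sp {S : Matrix α α F} (hS : Sp JA S) : adj JA S = S⁻¹ := by
  refine (Matrix.inv_eq_left_inv ?_).symm
  rw [adj, Matrix.mul_assoc _ JA, Matrix.mul_assoc, ← Matrix.mul_assoc Sᵀ, hS, Matrix.nonsing_inv_mul JA H.iA]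

/-- When the central elements are scalars, all the levels are. -/
theorem scalarLevels (hS : Small JB M) (G : Matrix α α F → Prop)
    (hG : ∀ S, G S → InM M (S ⊗ₖ (1 : Matrix β β F)))
    (hskew : ∀ K : Matrix α α F, adj JA K = -K →
      (∀ S, G S → ∃ c : F, K * (S * K * S⁻¹) + (S * K * S⁻¹) * K = c • 1) → K = 0) : ScalarLevels JB M := by
  intro w hw hw0 h hh y hy E he
  by_cases hyw : ∃ c : F, y = c • w
  · obtain ⟨c, rfl⟩ := hyw
    rw [kc_smul, Matrix.mul_smul, hh.2.1, left_eq_add] at he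
    exact ⟨0, by rw [zero_smul]; exact kc_cancel hw0 (by rw [he, Matrix.mul_zero])⟩
  push Not at hyw
  have hB := H.aB
  obtain ⟨c, hc⟩ := hS w hw hw0 _ (H.rad_comm hw hw0 hh hy he)
  rw [neg_one_smul, sub_neg_eq_add] at hc
  obtain ⟨k, hk⟩ : ∃ k, k = c * (2 : F)⁻¹ := ⟨_, rfl⟩
  obtain ⟨K, hKdef⟩ : ∃ K, K = E - k • 1 := ⟨_, rfl⟩
  have hE : E = K + k • 1 := by rw [hKdef, sub_add_cancel]
  have hK : adj JA K = -K := by
    rw [eq_neg_iff_add_eq_zero, hKdef, H.adj_sub, H.adj_smul, H.adj_one,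
      show adj JA E - k • 1 + (E - k • 1) = (E + adj JA E) - (k + k) • (1 : Matrix α α F) by module, hc, ← sub_smul,
      show c - (k + k) = 0 by rw [hk]; have h2 := H.two; field_simp; ring, zero_smul]
  refine ⟨k, ?_⟩
  suffices h0 : K = 0 by rw [hE, h0, zero_add]
  refine hskew K hK fun S hGS => ?_
  obtain ⟨a, haM, ha⟩ := hG S hGS
  have hS' : Sp JA S := H.iso_left haM ha
  -- an element with the single level `E`
  obtain ⟨t, ht, ht'⟩ := H.inM_right (hB.sp_tv y 1)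
  have tapp : ∀ x, t.1 * kc α x = kc α x + ((JB *ᵥ y) ⬝ᵥ x) • kc α y := fun x => by
    rw [ht', kron_mul_kc, Matrix.mul_one, hB.tv_apply, one_mul, kc_add, kc_smul]
  have tw : t.1 * kc α w = kc α w := by rw [tapp, H.orth_comm hy, zero_smul, add_zero]
  have tw' : (t⁻¹).1 * kc α w = kc α w := by
    conv_lhs => rw [← tw]
    rw [← Matrix.mul_assoc, t.inv_mul, Matrix.one_mul]
  have r1 := H.rad_conj hw0 hh (M.inv_mem ht) (A := 1) (A' := 1) (by rw [tw', Matrix.mul_one])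
    (by rw [inv_inv, tw, Matrix.mul_one])
  rw [inv_inv] at r1
  have r2 := H.rad_mul r1 (H.rad_inv hh)
  have lev : ∀ x, (JB *ᵥ w) ⬝ᵥ x = 0 →
      (t⁻¹ * h * t * h⁻¹).1 * kc α x = kc α x + ((JB *ᵥ y) ⬝ᵥ x) • (kc α w * E) := by
    intro x hx
    obtain ⟨Ex, hEx⟩ := hh.2.2 (kc α x) (by rw [kr_mul_kc, hx, zero_smul])
    have a1 : (t⁻¹ * h * t).1 * kc α x = kc α x + kc α w * (Ex + ((JB *ᵥ y) ⬝ᵥ x) • E) := by
      have e : (t⁻¹).1 * (t.1 * kc α x) = kc α x := by rw [← Matrix.mul_assoc, t.inv_mul, Matrix.one_mul]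
      rw [tapp, Matrix.mul_add, Matrix.mul_smul] at e
      rw [Units.val_mul, Units.val_mul, Matrix.mul_assoc, tapp, Matrix.mul_assoc, Matrix.mul_add h.1, Matrix.mul_smul,
        hEx, he]
      simp only [Matrix.mul_add, Matrix.mul_smul, ← Matrix.mul_assoc (t⁻¹).1 (kc α w), tw', smul_add]
      linear_combination (norm := module) e
    rw [H.rad_mul_apply r1 a1 (H.rad_inv_apply hh hEx)]
    rw [Matrix.mul_add, Matrix.mul_neg, Matrix.mul_add, Matrix.mul_smul]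
    abel
  obtain ⟨h₁, hh₁⟩ : ∃ h₁, h₁ = t⁻¹ * h * t * h⁻¹ := ⟨_, rfl⟩
  rw [← hh₁] at r2 lev
  obtain ⟨C₁, hC₁⟩ := H.rad_eq hw hw0 hy r2 lev
  -- its conjugate
  obtain ⟨u, uw, uy⟩ := hB.exists_perp_ne hw0 hyw 0 1
  have hTu := hB.sp_tv u 1
  obtain ⟨b, hbM, hb⟩ := H.inM_right hTu
  obtain ⟨n, hn, hn'⟩ : InM M (S ⊗ₖ tv JB u 1) :=
    ⟨a * b, M.mul_mem haM hbM, by rw [Units.val_mul, ha, hb, ← Matrix.mul_kronecker_mul, Matrix.mul_one, Matrix.one_mul]⟩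
  obtain ⟨S1, S2⟩ := H.sp_inv H.dA hS'
  obtain ⟨T1, T2⟩ := H.sp_inv H.dB hTu
  obtain ⟨Tu, hTudef⟩ : ∃ Tu, Tu = tv JB u 1 := ⟨_, rfl⟩
  rw [← hTudef] at hn' T1 T2 hTu
  have hni : (n⁻¹).1 = S⁻¹ ⊗ₖ Tu⁻¹ := by
    refine left_inv_eq_right_inv (a := n.1) n.inv_mul ?_
    rw [hn', ← Matrix.mul_kronecker_mul, S1, T1, Matrix.one_kronecker_one]
  have Tw : Tu *ᵥ w = w := by
    rw [hTudef, hB.tv_apply, H.orth_comm uw, mul_zero, zero_smul, add_zero]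
  have Tw' : Tu⁻¹ *ᵥ w = w := by
    conv_lhs => rw [← Tw]
    rw [Matrix.mulVec_mulVec, T2, Matrix.one_mulVec]
  have r3 := H.rad_conj hw0 r2 hn (A := S) (A' := S⁻¹) (by rw [hn', kron_mul_kc, Tw])
    (by rw [hni, kron_mul_kc, Tw'])
  have hy' : (JB *ᵥ w) ⬝ᵥ (Tu *ᵥ y) = 0 := by
    rw [← Tw, hB.form_image hTu, hy]
  have lev' : ∀ x, (JB *ᵥ w) ⬝ᵥ x = 0 → (n * h₁ * n⁻¹).1 * kc α x =
      kc α x + ((JB *ᵥ (Tu *ᵥ y)) ⬝ᵥ x) • (kc α w * (S * E * S⁻¹)) := by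
    intro x hx
    have hx' : (JB *ᵥ w) ⬝ᵥ (Tu⁻¹ *ᵥ x) = 0 := by
      rw [Matrix.dotProduct_mulVec, H.vecMul_image hTu T1, Tw, hx]
    have hyx : (JB *ᵥ (Tu *ᵥ y)) ⬝ᵥ x = (JB *ᵥ y) ⬝ᵥ (Tu⁻¹ *ᵥ x) := by
      rw [Matrix.dotProduct_mulVec, H.vecMul_image hTu T1]
    rw [Units.val_mul, Units.val_mul, hni, Matrix.mul_assoc, kron_mul_kc, Matrix.mul_assoc,
      ← Matrix.mul_assoc h₁.1, lev _ hx', Matrix.add_mul, Matrix.smul_mul, Matrix.mul_add, Matrix.mul_smul, hn',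
      ← Matrix.mul_assoc _ (kc α (Tu⁻¹ *ᵥ x)), kron_mul_kc, Matrix.mulVec_mulVec, T1, Matrix.one_mulVec,
      Matrix.mul_assoc (kc α x), S1, Matrix.mul_one, ← Matrix.mul_assoc _ (kc α w * E), ← Matrix.mul_assoc _ (kc α w),
      kron_mul_kc, Tw, hyx]
    simp only [Matrix.mul_assoc]
  obtain ⟨h₂, hh₂⟩ : ∃ h₂, h₂ = n * h₁ * n⁻¹ := ⟨_, rfl⟩
  rw [← hh₂] at r3 lev'
  obtain ⟨C₂, hC₂⟩ := H.rad_eq hw hw0 hy' r3 lev'
  obtain ⟨y', hy'def⟩ : ∃ y', y' = Tu *ᵥ y := ⟨_, rfl⟩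
  rw [← hy'def] at hy' hC₂
  have hd : (JB *ᵥ y) ⬝ᵥ y' ≠ 0 := by
    have huy : (JB *ᵥ u) ⬝ᵥ y = -1 := by rw [hB.swap, uy]
    rw [hy'def, hTudef, hB.tv_apply, dotProduct_add, dotProduct_smul, H.selfB, uy, huy]
    simp
  obtain ⟨E', hE'⟩ : ∃ E', E' = S * E * S⁻¹ := ⟨_, rfl⟩
  rw [← hE'] at hC₂
  obtain ⟨d, hdd⟩ : ∃ d, d = (JB *ᵥ y) ⬝ᵥ y' := ⟨_, rfl⟩
  rw [← hdd] at hd
  -- the commutator
  obtain ⟨G, hG⟩ : ∃ G, G = E * adj JA E' + E' * adj JA E := ⟨_, rfl⟩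
  have hcom : InM M (1 + Zm JB w (d • G)) := by
    refine ⟨h₁ * h₂ * (h₂ * h₁)⁻¹, M.mul_mem (M.mul_mem r2.1 r3.1) (M.inv_mem (M.mul_mem r3.1 r2.1)), ?_⟩
    have e : (h₁ * h₂).1 = (1 + Zm JB w (d • G)) * (h₂ * h₁).1 := by
      have dy : (JB *ᵥ y') ⬝ᵥ y = -d := by rw [hdd, hB.swap]
      rw [Units.val_mul, Units.val_mul, hC₁, hC₂, H.zm_smul, hG, H.zm_add]
      simp only [Np, Zm, Matrix.mul_add, Matrix.add_mul, Matrix.mul_sub, Matrix.sub_mul, Matrix.one_mul,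
        Matrix.mul_one, Matrix.smul_mul, Matrix.mul_smul, Matrix.mul_assoc, kr_kc_mul, hw, hy, hy', H.orth_comm hy,
        H.orth_comm hy', ← hdd, dy, zero_smul, smul_zero, Matrix.mul_zero, smul_smul, mul_zero]
      module
    rw [Units.val_mul, e, Matrix.mul_assoc, Units.mul_inv, Matrix.mul_one]
  obtain ⟨g₀, hg₀⟩ := hS w hw hw0 _ hcom
  have hG' : G = (d⁻¹ * g₀) • 1 := by rw [mul_smul, ← hg₀, smul_smul, inv_mul_cancel₀ hd, one_smul]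
  refine ⟨2 * (k * k) - d⁻¹ * g₀, ?_⟩
  rw [sub_smul, ← hG', hG, hE', hE]
  simp only [H.adj_mul, H.adj_add, H.adj_smul, H.adj_one, hK, H.adj_sp hS',
    show adj JA S⁻¹ = S by rw [← H.adj_sp hS', H.adj_adj]]
  simp only [Matrix.mul_add, Matrix.add_mul, Matrix.mul_neg, Matrix.neg_mul, Matrix.smul_mul, Matrix.mul_smul,
    Matrix.mul_one, Matrix.one_mul, ← Matrix.mul_assoc, S1]
  module

end Hyp

end CfsgLib.Classical.TensorWreathS.Pair
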