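import Cfsg.Agent.Lib.Classical.TensorWreathS.PairFour
import Cfsg.Agent.Lib.Classical.TensorWreathS.PairLevels
import Cfsg.Agent.Lib.Classical.TensorWreathU.Contract

set_option autoImplicit false
set_option linter.unusedSectionVars false

/-!
Tensor powers of a symplectic space: the form, the setting, and the view as a product of the other factors with
one factor.
-/

namespace CfsgLib.Classical.TensorWreathS

open Matrix CfsgLib.Classical.TensorWreath
open CfsgLib.Classical.TensorMixed (Zm Small)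
open CfsgLib.Classical.TensorSymp (adj Sp AForm tv)
open CfsgLib.Classical.TensorMax (kc kr)
open CfsgLib.Classical.TensorWreathU (two back two_val back_two back_inj back_kron back_mul back_one back_add ins_left_cancel)
open scoped MatrixGroups Kronecker

variable {F : Type*} [Field F] [Finite F] {τ : Type} [Fintype τ] [DecidableEq τ] {m : ℕ}

/-- The matrix of the tensor power of the form. -/
abbrev JJ (J : Matrix (Fin m) (Fin m) F) (τ : Type) [Fintype τ] [DecidableEq τ] : Matrix (Ix τ m) (Ix τ m) F :=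
  pureM fun _ : τ => J

/-- A root of the symplectic group, minus one. -/
def nu (J : Matrix (Fin m) (Fin m) F) (u : Fin m → F) : Matrix (Fin m) (Fin m) F :=
  Matrix.vecMulVec u (J *ᵥ u)

theorem transpose_pureM (g : τ → Matrix (Fin m) (Fin m) F) : (pureM g)ᵀ = pureM fun j => (g j)ᵀ := by
  ext x y
  simp [pureM_apply]

theorem pureM_neg_all (g : τ → Matrix (Fin m) (Fin m) F) :
    pureM (fun j => -g j) = (-1 : F) ^ Fintype.card τ • pureM g := by
  ext x y
  simp only [Matrix.smul_apply, pureM_apply, Matrix.neg_apply, smul_eq_mul, Finset.prod_neg, Finset.card_univ]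

theorem transpose_permM (σ : Equiv.Perm τ) : (permM F m σ)ᵀ = permM F m σ⁻¹ := by
  ext x y
  simp only [Matrix.transpose_apply, permM, Matrix.of_apply]
  have h : (x = y ∘ σ) ↔ (y = x ∘ (σ⁻¹ : Equiv.Perm τ)) := by
    constructor <;> rintro rfl <;> ext j <;> simp
  by_cases hx : x = y ∘ σ
  · rw [if_pos hx, if_pos (h.1 hx)]
  · rw [if_neg hx, if_neg (fun e => hx (h.2 e))]

theorem JJ_eq (J : Matrix (Fin m) (Fin m) F) (i : τ) : JJ J τ = back i (JJ J (Rest i) ⊗ₖ J) := by
  rw [back_kron, ins_pureM]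
  refine congrArg pureM (funext fun j => ?_)
  by_cases hj : j = i
  · subst hj; rw [Function.update_self]
  · rw [Function.update_of_ne hj, extend, dif_neg hj]

variable {J : Matrix (Fin m) (Fin m) F}

theorem transpose_JJ (hJ : AForm J) : (JJ J τ)ᵀ = (-1 : F) ^ Fintype.card τ • JJ J τ := by
  rw [transpose_pureM, show (fun _ : τ => Jᵀ) = fun _ => -J from funext fun _ => hJ.skew, pureM_neg_all]

theorem sign_sq (N : ℕ) : ((-1 : F) ^ N) * (-1) ^ N = 1 := by rw [← mul_pow, neg_mul_neg, one_mul, one_pow]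

theorem sp_permM (σ : Equiv.Perm τ) : Sp (JJ J τ) (permM F m σ) := by
  show (permM F m σ)ᵀ * JJ J τ * permM F m σ = JJ J τ
  rw [transpose_permM, permM_mul_pureM, Matrix.mul_assoc, permM_inv_mul, Matrix.mul_one]

theorem sp_pureM {g : τ → Matrix (Fin m) (Fin m) F} (h : ∀ j, Sp J (g j)) : Sp (JJ J τ) (pureM g) := by
  show (pureM g)ᵀ * JJ J τ * pureM g = JJ J τ
  rw [transpose_pureM, pureM_mul, pureM_mul]
  exact congrArg pureM (funext fun j => h j)

theorem sp_embM (hJ : AForm J) {b : Matrix (Fin m) (Fin m) F} (hb : Sp J b) (i : τ) :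
    Sp (JJ J τ) (embM i b) := by
  refine sp_pureM fun j => ?_
  by_cases h : j = i
  · subst h; rw [Function.update_self]; exact hb
  · rw [Function.update_of_ne h]; exact hJ.sp_one

theorem det_JJ [NeZero m] (hJ : AForm J) : (JJ J τ).det ≠ 0 := by
  intro h0
  have e : JJ J τ * pureM (fun _ : τ => J⁻¹) = 1 := by
    rw [pureM_mul]
    convert pureM_one (F := F) (τ := τ) (m := m) using 2
    funext j
    exact Matrix.mul_nonsing_inv J hJ.isUnit_det
  have := congrArg Matrix.det e
  rw [Matrix.det_mul, h0, zero_mul, Matrix.det_one] at this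
  exact zero_ne_one this

variable (J)

/-- An intermediate group. -/
structure Hyp (M : Subgroup (GL (Ix τ m) F)) : Prop where
  hJ : AForm J
  two : (2 : F) ≠ 0
  two_le : 2 ≤ m
  card_two : 2 ≤ Fintype.card τ
  le : ∀ g ∈ M, Sp (JJ J τ) g.1
  emb : ∀ (i : τ) (T : Matrix (Fin m) (Fin m) F), Sp J T → InM M (embM i T)

/-- The elements next to a root are scalar. -/
def SmallAll (M : Subgroup (GL (Ix τ m) F)) : Prop :=
  ∀ (i : τ) (u : Fin m → F), u ≠ 0 → ∀ Y : Matrix (Ix τ m) (Ix τ m) F, Cen i Y →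
    InM M (1 + embM i (nu J u) * Y) → ∃ c : F, Y = c • 1

variable {J} {M : Subgroup (GL (Ix τ m) F)}

theorem Hyp.neZero (H : Hyp J M) : NeZero m := ⟨by have := H.two_le; omega⟩

theorem sp_two (i : τ) {g : GL (Ix τ m) F} : Sp (JJ J (Rest i) ⊗ₖ J) (two i g).1 ↔ Sp (JJ J τ) g.1 := by
  unfold Sp
  rw [JJ_eq J i, show g.1 = back i (two i g).1 from (back_two i g).symm,
    show (back i (two i g).1)ᵀ = back i ((two i g).1)ᵀ from rfl, ← back_mul, ← back_mul]
  exact ⟨congrArg _, back_inj i⟩

theorem back_zm (i : τ) (w : Fin m → F) (C : Matrix (Ix (Rest i) m) (Ix (Rest i) m) F) :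
    back i (Zm J w C) = ins i C (nu J w) := by
  rw [Zm, TensorMax.kc_mul_mul_kr, back_kron, nu]

theorem embM_nu_mul (i : τ) (w : Fin m → F) (C : Matrix (Ix (Rest i) m) (Ix (Rest i) m) F) :
    embM i (nu J w) * ins i C 1 = ins i C (nu J w) := by
  rw [embM_eq_ins, ins_mul, Matrix.one_mul, Matrix.mul_one]

theorem card_rest_two (H : Hyp J M) (i : τ) : 2 ≤ Fintype.card (Ix (Rest i) m) := by
  haveI := H.neZero
  rw [card_rest]
  exact le_trans H.two_le (Nat.le_self_pow (by have := H.card_two; omega) m)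

theorem Hyp.pair (H : Hyp J M) (i : τ) :
    Pair.Hyp (-1 : F) (JJ J (Rest i)) J (M.map (TensorWreathU.two i).toMonoidHom) where
  two := H.two
  sq := by rw [neg_mul_neg, one_mul]
  tA := ⟨_, sign_sq _, transpose_JJ H.hJ⟩
  tB := by rw [neg_one_smul]; exact H.hJ.skew
  dA := by haveI := H.neZero; exact det_JJ H.hJ
  dB := H.hJ.det_ne
  two_le := card_rest_two H i
  twoB := by rw [Fintype.card_fin]; exact H.two_le
  le := by
    rintro _ ⟨g, hg, rfl⟩
    exact (sp_two i).2 (H.le g hg)
  right T hT := by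
    obtain ⟨g, hg, hg'⟩ := H.emb i T hT
    exact ⟨TensorWreathU.two i g, ⟨g, hg, rfl⟩, back_inj i (by rw [back_two, hg', back_kron, embM_eq_ins])⟩

theorem inM_two (i : τ) {X : Matrix (Ix τ m) (Ix τ m) F}
    {Z : Matrix (Ix (Rest i) m × Fin m) (Ix (Rest i) m × Fin m) F} (e : back i Z = X) (h : InM M X) :
    TensorMax.InM (M.map (two i).toMonoidHom) Z := by
  obtain ⟨g, hg, hg'⟩ := h
  exact ⟨two i g, ⟨g, hg, rfl⟩, back_inj i (by rw [back_two, hg', e])⟩

theorem inM_of_two (i : τ) {Z : Matrix (Ix (Rest i) m × Fin m) (Ix (Rest i) m × Fin m) F}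
    (h : TensorMax.InM (M.map (two i).toMonoidHom) Z) : InM M (back i Z) := by
  obtain ⟨_, ⟨g, hg, rfl⟩, h⟩ := h
  exact ⟨g, hg, by rw [← h]; exact (back_two i g).symm⟩

theorem SmallAll.pair (H : Hyp J M) (hS : SmallAll J M) (i : τ) : Small J (M.map (TensorWreathU.two i).toMonoidHom) := by
  haveI := H.neZero
  intro w _ hw0 C hC
  have h := inM_of_two i hC
  rw [back_add, back_one, back_zm, ← embM_nu_mul] at h
  obtain ⟨c, hc⟩ := hS i w hw0 _ (cen_ins_one i C) h
  refine ⟨c, ins_one_injective i ?_⟩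
  show ins i C 1 = ins i (c • 1) 1
  rw [hc, ins_smul_left, ins_one_one]

end CfsgLib.Classical.TensorWreathS
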