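import Cfsg.Agent.Lib.Classical.TensorWreathS.Pure

set_option autoImplicit false
set_option linter.unusedSectionVars false

/-!
The commutator of two pure elements, contracted to a pure product of roots.
-/

namespace CfsgLib.Classical.TensorWreathS

open Matrix CfsgLib.Classical.TensorWreath
open CfsgLib.Classical.TensorSymp (adj Sp AForm tv)
open scoped MatrixGroups Kronecker

variable {F : Type*} [Field F] [Finite F] {τ : Type} [Fintype τ] [DecidableEq τ] {m : ℕ}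
variable {J : Matrix (Fin m) (Fin m) F} {M : Subgroup (GL (Ix τ m) F)}

theorem pureM_smul_all (c : τ → F) (g : τ → Matrix (Fin m) (Fin m) F) :
    pureM (fun j => c j • g j) = (∏ j, c j) • pureM g := by
  ext x y
  simp [pureM_apply, Finset.prod_mul_distrib]

theorem pureM_ne_zero {g : τ → Matrix (Fin m) (Fin m) F} (h : ∀ j, g j ≠ 0) : pureM g ≠ 0 := by
  have : ∀ j, ∃ p q, g j p q ≠ 0 := fun j => by
    by_contra hc
    push Not at hc
    exact h j (Matrix.ext hc)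
  choose p q hpq using this
  intro h0
  exact Finset.prod_ne_zero_iff.2 (fun j _ => hpq j) (congrFun₂ h0 p q)

/-- A contraction to a root: the value on `A` and on `B`. -/
def Site (J : Matrix (Fin m) (Fin m) F) (A B : Matrix (Fin m) (Fin m) F) (ε : F) : Prop :=
  ∃ (w : Fin m → F) (r : F), w ≠ 0 ∧ r ≠ 0 ∧ nu J w * A * nu J w = r • nu J w ∧
    nu J w * B * nu J w = (ε * r) • nu J w

/-- A root on both sides. -/
def Anchor (J : Matrix (Fin m) (Fin m) F) (A B : Matrix (Fin m) (Fin m) F) (ε : F) : Prop :=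
  ∃ (w : Fin m → F) (r : F), w ≠ 0 ∧ r ≠ 0 ∧ A = r • nu J w ∧ B = (ε * r) • nu J w

theorem site_anchor_single (hJ : AForm J) {x : Fin m → F} (hx : x ≠ 0) :
    Site J (nu J x) (nu J x) 1 ∧ Anchor J (nu J x) (nu J x) 1 := by
  obtain ⟨y, hy⟩ := hJ.exists_form_ne hx
  have hy0 : y ≠ 0 := fun e => by simp [e] at hy
  refine ⟨⟨y, -1, hy0, neg_ne_zero.2 one_ne_zero, ?_, ?_⟩, x, 1, hx, one_ne_zero, (one_smul _ _).symm, ?_⟩
  · rw [nu_sandwich, nu_mulVec, hy, one_smul, hJ.swap, hy]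
  · rw [nu_sandwich, nu_mulVec, hy, one_smul, hJ.swap, hy, one_mul]
  · rw [one_mul, one_smul]

theorem site_roots (hJ : AForm J) {e e' : Fin m → F} (h : (J *ᵥ e) ⬝ᵥ e' = 1) :
    Site J (nu J e' * nu J e) (nu J e * nu J e') (-1) := by
  have h' : (J *ᵥ e') ⬝ᵥ e = -1 := by rw [hJ.swap, h]
  have hw : e + e' ≠ 0 := fun e0 => by
    have h1 : (J *ᵥ e) ⬝ᵥ (e + e') = 0 := by rw [e0, dotProduct_zero]
    rw [dotProduct_add, hJ.self, h, zero_add] at h1
    exact one_ne_zero h1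
  refine ⟨e + e', -1, hw, neg_ne_zero.2 one_ne_zero, ?_, ?_⟩
  all_goals
    simp only [nu_sandwich, ← Matrix.mulVec_mulVec, nu_mulVec, Matrix.mulVec_smul, dotProduct_add, dotProduct_smul,
      Matrix.mulVec_add, add_dotProduct, hJ.self, h, h', smul_eq_mul, add_zero, zero_add, mul_one, one_mul, zero_mul,
      mul_zero]

theorem gm_mulVec (z v x : Fin m → F) :
    gm J z v *ᵥ x = ((J *ᵥ z) ⬝ᵥ x) • v - ((J *ᵥ v) ⬝ᵥ x) • z := by
  rw [gm, Matrix.sub_mulVec, Matrix.vecMulVec_mulVec, Matrix.vecMulVec_mulVec, op_smul_eq_smul, op_smul_eq_smul]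

theorem gm_mul_gm (hJ : AForm J) {z v v' : Fin m → F} (h : (J *ᵥ z) ⬝ᵥ v = 0) (h' : (J *ᵥ z) ⬝ᵥ v' = 0) :
    gm J z v * gm J z v' = (-((J *ᵥ v) ⬝ᵥ v')) • nu J z := by
  have h'' : (J *ᵥ v) ⬝ᵥ z = 0 := by rw [hJ.swap, h, neg_zero]
  refine Matrix.ext_iff_mulVec.2 fun x => ?_
  simp only [← Matrix.mulVec_mulVec, gm_mulVec, Matrix.smul_mulVec, nu_mulVec, Matrix.mulVec_sub, Matrix.mulVec_smul,
    dotProduct_sub, dotProduct_smul, hJ.self, h', h'', smul_eq_mul, mul_zero]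
  module

theorem site_alt (hJ : AForm J) {z v v' : Fin m → F} (hz : z ≠ 0) (h : (J *ᵥ z) ⬝ᵥ v = 0)
    (h' : (J *ᵥ z) ⬝ᵥ v' = 0) (hvv : (J *ᵥ v) ⬝ᵥ v' = -1) :
    Site J (gm J z v' * gm J z v) (gm J z v * gm J z v') (-1) ∧
      Anchor J (gm J z v' * gm J z v) (gm J z v * gm J z v') (-1) := by
  have e1 : gm J z v * gm J z v' = (1 : F) • nu J z := by rw [gm_mul_gm hJ h h', hvv, neg_neg]
  have e2 : gm J z v' * gm J z v = (-1 : F) • nu J z := by
    rw [gm_mul_gm hJ h' h, hJ.swap, hvv, neg_neg]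
  obtain ⟨y, hy⟩ := hJ.exists_form_ne hz
  have hy0 : y ≠ 0 := fun e => by simp [e] at hy
  refine ⟨⟨y, 1, hy0, one_ne_zero, ?_, ?_⟩, z, -1, hz, neg_ne_zero.2 one_ne_zero, e2, ?_⟩
  · rw [e2, mul_smul_comm, smul_mul_assoc, nu_sandwich, nu_mulVec, hy, one_smul, hJ.swap, hy, smul_smul,
      show (-1 : F) * -1 = 1 by ring]
  · rw [e1, one_smul, nu_sandwich, nu_mulVec, hy, one_smul, hJ.swap, hy]
    congr 1
    ring
  · rw [e1]; congr 1; ring

theorem site_mixed (hJ : AForm J) {z v x : Fin m → F} (hz : z ≠ 0) (hx : x ≠ 0) (hzx : (J *ᵥ z) ⬝ᵥ x = 0)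
    (hxv : (J *ᵥ x) ⬝ᵥ v = 1) :
    Site J (gm J z v * nu J x) (nu J x * gm J z v) 1 ∧ Site J (nu J x * gm J z v) (gm J z v * nu J x) 1 ∧
      nu J x * gm J z v * nu J x = 0 := by
  have hvx : (J *ᵥ v) ⬝ᵥ x = -1 := by rw [hJ.swap, hxv]
  have hxz : (J *ᵥ x) ⬝ᵥ z = 0 := by rw [hJ.swap, hzx, neg_zero]
  obtain ⟨w, hw1, hw2⟩ := exists_nonorth hJ hx hz
  have hw0 : w ≠ 0 := fun e => hw1 (by rw [e, dotProduct_zero])
  obtain ⟨r, hr⟩ : ∃ r, r = ((J *ᵥ x) ⬝ᵥ w) * ((J *ᵥ w) ⬝ᵥ z) := ⟨_, rfl⟩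
  have hr0 : r ≠ 0 := hr ▸ mul_ne_zero hw1 (by rw [hJ.swap]; exact neg_ne_zero.2 hw2)
  have a1 : nu J w * (gm J z v * nu J x) * nu J w = r • nu J w := by
    rw [nu_sandwich, ← Matrix.mulVec_mulVec, nu_mulVec, Matrix.mulVec_smul, gm_mulVec, hzx, hvx, zero_smul, zero_sub,
      neg_one_smul, neg_neg, dotProduct_smul, smul_eq_mul, hr]
  have a2 : nu J w * (nu J x * gm J z v) * nu J w = r • nu J w := by
    simp only [nu_sandwich, ← Matrix.mulVec_mulVec, gm_mulVec, nu_mulVec, dotProduct_sub, dotProduct_smul,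
      hxv, hxz, smul_eq_mul, hr, hJ.swap w x, hJ.swap w z]
    congr 1
    ring
  refine ⟨⟨w, r, hw0, hr0, a1, by rw [one_mul]; exact a2⟩, ⟨w, r, hw0, hr0, a2, by rw [one_mul]; exact a1⟩, ?_⟩
  rw [nu_sandwich, gm_mulVec, hzx, hvx, zero_smul, zero_sub, neg_one_smul, neg_neg, hxz, zero_smul]

/-- Contractions at the sites, a common root staying. -/
theorem contract_sites (H : Hyp J M) {c₀ : τ} {A B A' B' : τ → Matrix (Fin m) (Fin m) F} {e r : τ → F}
    {w : τ → Fin m → F} (a₀ : A c₀ = r c₀ • nu J (w c₀)) (b₀ : B c₀ = (e c₀ * r c₀) • nu J (w c₀))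
    (hA' : A' = fun j => r j • nu J (w j)) (hB' : B' = fun j => (e j * r j) • nu J (w j))
    (hE : Ele M (pureM A - pureM B)) : ∀ s : Finset τ, c₀ ∉ s →
      (∀ j ∈ s, nu J (w j) * A j * nu J (w j) = r j • nu J (w j) ∧
        nu J (w j) * B j * nu J (w j) = (e j * r j) • nu J (w j)) →
      Ele M (pureM (s.piecewise A' A) - pureM (s.piecewise B' B)) := by
  intro s
  induction s using Finset.induction with
  | empty => intro _ _; simpa using hE
  | insert a s ha IH =>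
    intro hc hs
    have hJ := H.hJ
    rw [Finset.mem_insert, not_or] at hc
    obtain ⟨hca, hc0s⟩ := hc
    have hsE := IH hc0s fun j hj => hs j (Finset.mem_insert_of_mem hj)
    obtain ⟨P, hP⟩ : ∃ P, P = embM c₀ (nu J (w c₀)) := ⟨_, rfl⟩
    obtain ⟨Q, hQ⟩ : ∃ Q, Q = r c₀ • pureM (Function.update (s.piecewise A' A) c₀ 1) -
        (e c₀ * r c₀) • pureM (Function.update (s.piecewise B' B) c₀ 1) := ⟨_, rfl⟩
    have hQc : Cen c₀ Q := hQ ▸ ((cen_pureM (Function.update_self _ _ _)).smul _).sub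
      ((cen_pureM (Function.update_self _ _ _)).smul _)
    have hZ : pureM (s.piecewise A' A) - pureM (s.piecewise B' B) = Q * P := by
      rw [pureM_update (s.piecewise A' A) c₀, pureM_update (s.piecewise B' B) c₀,
        Finset.piecewise_eq_of_notMem _ _ _ hc0s, Finset.piecewise_eq_of_notMem _ _ _ hc0s, a₀, b₀, embM_smul,
        embM_smul, mul_smul_comm, mul_smul_comm, hQ, hP, sub_mul, smul_mul_assoc, smul_mul_assoc]
    have hPP : P * P = 0 := by rw [hP, embM_mul, nu_sq hJ, embM_zero]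
    have hPQ : P * Q = Q * P := hP ▸ hQc (nu J (w c₀))
    obtain ⟨N, hN⟩ : ∃ N, N = embM a (nu J (w a)) := ⟨_, rfl⟩
    have hPN : P * N = N * P := by rw [hP, hN]; exact embM_comm hca _ _
    have hz2 : (Q * P) * (Q * P) = 0 := by rw [mul_assoc, ← mul_assoc P, hPQ, mul_assoc Q P P, hPP]; simp
    have hz3 : (Q * P) * N * (Q * P) = 0 := by
      rw [mul_assoc Q, hPN, ← hPQ]
      simp only [mul_assoc]
      rw [← mul_assoc P P, hPP]
      simp
    rw [hZ] at hsE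
    have hstep := (hsE.contract H.two (hN ▸ H.ele_root a (w a)) (by rw [hN, embM_mul, nu_sq hJ, embM_zero]) hz2
      hz3).1
    obtain ⟨sa, sb⟩ := hs a (Finset.mem_insert_self _ _)
    have upd : ∀ (f f' : τ → Matrix (Fin m) (Fin m) F), nu J (w a) * f a * nu J (w a) = f' a →
        N * pureM (s.piecewise f' f) * N = pureM ((insert a s).piecewise f' f) := by
      intro f f' he
      rw [Finset.piecewise_insert, hN, embM, pureM_mul, pureM_mul]
      refine congrArg pureM (funext fun j => ?_)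
      by_cases hj : j = a
      · subst hj; simp [Finset.piecewise_eq_of_notMem _ _ _ ha, he]
      · simp [Function.update_of_ne hj]
    rwa [← hZ, mul_sub, sub_mul, upd A A' (by rw [sa, hA']), upd B B' (by rw [sb, hB'])] at hstep

/-- The difference of two pure tensors with a common root, contracted factor by factor. -/
theorem pure_of_comm (H : Hyp J M) {U : Finset τ} {c₀ : τ} (hc₀ : c₀ ∈ U) {A B : τ → Matrix (Fin m) (Fin m) F}
    {ε : τ → F} (hε : ∏ j ∈ U, ε j ≠ 1) (hoff : ∀ j, j ∉ U → A j = 1 ∧ B j = 1)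
    (hanch : Anchor J (A c₀) (B c₀) (ε c₀)) (hsite : ∀ j ∈ U, j ≠ c₀ → Site J (A j) (B j) (ε j))
    (hE : Ele M (pureM A - pureM B)) : Pure J M U ∅ := by
  have hJ := H.hJ
  have hd : ∀ j, ∃ (w : Fin m → F) (r : F), j ∈ U → w ≠ 0 ∧ r ≠ 0 ∧
      (j = c₀ → A j = r • nu J w ∧ B j = (ε j * r) • nu J w) ∧
      (j ≠ c₀ → nu J w * A j * nu J w = r • nu J w ∧ nu J w * B j * nu J w = (ε j * r) • nu J w) := by
    intro j
    by_cases hj : j ∈ U
    swap
    · exact ⟨0, 0, fun h => absurd h hj⟩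
    by_cases h0 : j = c₀
    · subst h0
      obtain ⟨w, r, a, b, c, d⟩ := hanch
      exact ⟨w, r, fun _ => ⟨a, b, fun _ => ⟨c, d⟩, fun h => absurd rfl h⟩⟩
    · obtain ⟨w, r, a, b, c, d⟩ := hsite j hj h0
      exact ⟨w, r, fun _ => ⟨a, b, fun h => absurd h h0, fun _ => ⟨c, d⟩⟩⟩
  choose w r hwr using hd
  obtain ⟨a₀, b₀⟩ := (hwr c₀ hc₀).2.2.1 rfl
  obtain ⟨A', hA'⟩ : ∃ A' : τ → Matrix (Fin m) (Fin m) F, A' = fun j => r j • nu J (w j) := ⟨_, rfl⟩
  obtain ⟨B', hB'⟩ : ∃ B' : τ → Matrix (Fin m) (Fin m) F, B' = fun j => (ε j * r j) • nu J (w j) := ⟨_, rfl⟩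
  have key : ∀ s : Finset τ, s ⊆ U.erase c₀ → Ele M (pureM (s.piecewise A' A) - pureM (s.piecewise B' B)) :=
    fun s hs => contract_sites H a₀ b₀ hA' hB' hE s (fun h => (Finset.mem_erase.1 (hs h)).1 rfl) fun j hj =>
      (hwr j (Finset.mem_of_mem_erase (hs hj))).2.2.2 (Finset.mem_erase.1 (hs hj)).1
  have hfin := key (U.erase c₀) le_rfl
  obtain ⟨f, hf⟩ : ∃ f : τ → Matrix (Fin m) (Fin m) F, f = fun j => if j ∈ U then nu J (w j) else 1 := ⟨_, rfl⟩
  have eA : (U.erase c₀).piecewise A' A = fun j => (if j ∈ U then r j else 1) • f j := by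
    funext j
    rw [hf]
    dsimp only
    by_cases hjU : j ∈ U
    · rw [if_pos hjU, if_pos hjU]
      by_cases hj : j = c₀
      · subst hj; rw [Finset.piecewise_eq_of_notMem _ _ _ (Finset.notMem_erase _ _), a₀]
      · rw [Finset.piecewise_eq_of_mem _ _ _ (Finset.mem_erase.2 ⟨hj, hjU⟩), hA']
    · rw [if_neg hjU, if_neg hjU, Finset.piecewise_eq_of_notMem _ _ _ (fun h => hjU (Finset.mem_of_mem_erase h)),
        (hoff j hjU).1, one_smul]
  have eB : (U.erase c₀).piecewise B' B = fun j => (if j ∈ U then ε j * r j else 1) • f j := by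
    funext j
    rw [hf]
    dsimp only
    by_cases hjU : j ∈ U
    · rw [if_pos hjU, if_pos hjU]
      by_cases hj : j = c₀
      · subst hj; rw [Finset.piecewise_eq_of_notMem _ _ _ (Finset.notMem_erase _ _), b₀]
      · rw [Finset.piecewise_eq_of_mem _ _ _ (Finset.mem_erase.2 ⟨hj, hjU⟩), hB']
    · rw [if_neg hjU, if_neg hjU, Finset.piecewise_eq_of_notMem _ _ _ (fun h => hjU (Finset.mem_of_mem_erase h)),
        (hoff j hjU).2, one_smul]
  rw [eA, eB, pureM_smul_all, pureM_smul_all, ← sub_smul, Finset.prod_ite_mem, Finset.prod_ite_mem,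
    Finset.univ_inter, Finset.prod_mul_distrib] at hfin
  refine ⟨⟨c₀, hc₀⟩, Finset.disjoint_empty_right _, f, ⟨fun j hj => ⟨w j, (hwr j hj).1, by rw [hf]; simp [hj]⟩,
    fun j hj => absurd hj (Finset.notMem_empty j), fun j hj _ => by rw [hf]; simp [hj]⟩, Ele.of_smul ?_ hfin⟩
  rw [sub_ne_zero]
  intro e
  have hr : ∏ j ∈ U, r j ≠ 0 := Finset.prod_ne_zero_iff.2 fun j hj => (hwr j hj).2.1
  exact hε (mul_right_cancel₀ hr (by rw [one_mul, ← e]))

/-- The commutator of two pure elements. -/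
theorem pure_of_two (H : Hyp J M) {f g : τ → Matrix (Fin m) (Fin m) F} (hf : Ele M (pureM f)) (hg : Ele M (pureM g))
    {U : Finset τ} {ε : τ → F} (hoff : ∀ j, j ∉ U → f j = 1 ∧ g j = 1) {c₀ b s : τ} (hc₀ : c₀ ∈ U)
    (hε : ∏ j ∈ U, ε j ≠ 1) (hf2 : f b * f b = 0) (hfgf : f b * g b * f b = 0) (hg2 : g s * g s = 0)
    (hanch : Anchor J (g c₀ * f c₀) (f c₀ * g c₀) (ε c₀))
    (hsite : ∀ j ∈ U, j ≠ c₀ → Site J (g j * f j) (f j * g j) (ε j)) : Pure J M U ∅ := by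
  have h := (hf.contract H.two hg (by rw [pureM_mul]; exact pureM_eq_zero (i := s) hg2)
    (by rw [pureM_mul]; exact pureM_eq_zero (i := b) hf2)
    (by rw [pureM_mul, pureM_mul]; exact pureM_eq_zero (i := b) hfgf)).2
  rw [pureM_mul, pureM_mul] at h
  exact pure_of_comm H hc₀ (A := g * f) (B := f * g) hε
    (fun j hj => by simp [(hoff j hj).1, (hoff j hj).2]) hanch hsite h

end CfsgLib.Classical.TensorWreathS
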