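import Mathlib

set_option autoImplicit false
set_option linter.unusedSectionVars false

/-!
The stable part of a matrix and the kernels of polynomials in it.
-/

namespace CfsgLib.Classical.TensorWreathS.Pair

open Matrix Polynomial

variable {F : Type*} [Field F] {α : Type} [Fintype α] [DecidableEq α]

theorem toLin_pow (C : Matrix α α F) (n : ℕ) : (C ^ n).mulVecLin = (Matrix.toLinAlgEquiv' C) ^ n := by
  rw [← map_pow]; rfl

/-- The kernels of the powers are stable from the dimension on. -/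
theorem ker_stab (C : Matrix α α F) {n : ℕ} (hn : Fintype.card α ≤ n) :
    LinearMap.ker (C ^ n).mulVecLin = LinearMap.ker (C ^ Fintype.card α).mulVecLin := by
  rw [toLin_pow, toLin_pow]
  have h : Module.finrank F (α → F) = Fintype.card α := Module.finrank_pi F
  have h1 := Module.End.ker_pow_eq_ker_pow_finrank_of_le (f := Matrix.toLinAlgEquiv' C) (m := n) (by rw [h]; exact hn)
  rwa [h] at h1

theorem rank_stab (C : Matrix α α F) {n : ℕ} (hn : Fintype.card α ≤ n) :
    (C ^ n).rank = (C ^ Fintype.card α).rank := by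
  have h1 := LinearMap.finrank_range_add_finrank_ker (C ^ n).mulVecLin
  have h2 := LinearMap.finrank_range_add_finrank_ker (C ^ Fintype.card α).mulVecLin
  rw [ker_stab C hn] at h1
  rw [Matrix.rank, Matrix.rank]
  omega

theorem mulVec_zero_of_stab (C : Matrix α α F) {n : ℕ} (hn : Fintype.card α ≤ n) {v : α → F}
    (h : C ^ (2 * n) *ᵥ v = 0) : C ^ n *ᵥ v = 0 := by
  have h1 : v ∈ LinearMap.ker (C ^ (2 * n)).mulVecLin := h
  rw [ker_stab C (show Fintype.card α ≤ 2 * n by omega), ← ker_stab C hn] at h1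
  exact h1

/-- A factor killing a non-zero vector of the image lowers the rank. -/
theorem rank_mul_lt {A B : Matrix α α F} {v : α → F} (hv : v ∈ LinearMap.range B.mulVecLin) (hv0 : v ≠ 0)
    (hA : A *ᵥ v = 0) : (A * B).rank < B.rank := by
  rw [Matrix.rank, Matrix.mulVecLin_mul, LinearMap.range_comp, ← LinearMap.range_domRestrict]
  have h1 := LinearMap.finrank_range_add_finrank_ker (A.mulVecLin.domRestrict (LinearMap.range B.mulVecLin))
  have h2 : 0 < Module.finrank F (LinearMap.ker (A.mulVecLin.domRestrict (LinearMap.range B.mulVecLin))) :=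
    Submodule.one_le_finrank_iff.2 fun e => hv0 (congrArg Subtype.val
      ((Submodule.eq_bot_iff _).1 e ⟨v, hv⟩ hA))
  rw [Matrix.rank]
  omega

theorem aeval_mulVec_comm (C : Matrix α α F) (f g : F[X]) (v : α → F) :
    aeval C f *ᵥ (aeval C g *ᵥ v) = aeval C g *ᵥ (aeval C f *ᵥ v) := by
  rw [Matrix.mulVec_mulVec, Matrix.mulVec_mulVec, ← map_mul, ← map_mul, mul_comm]

theorem aeval_mul_mulVec (C : Matrix α α F) (f g : F[X]) {v : α → F} (hv : aeval C g *ᵥ v = 0) :
    aeval C (f * g) *ᵥ v = 0 := by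
  rw [map_mul, ← Matrix.mulVec_mulVec, hv, Matrix.mulVec_zero]

theorem aeval_dvd_mulVec (C : Matrix α α F) {f g : F[X]} (hgf : g ∣ f) {v : α → F} (hv : aeval C g *ᵥ v = 0) :
    aeval C f *ᵥ v = 0 := by
  obtain ⟨k, rfl⟩ := hgf
  rw [mul_comm]
  exact aeval_mul_mulVec C k g hv

/-- An irreducible polynomial with a vector in its kernel divides all the polynomials killing it. -/
theorem dvd_of_kill {C : Matrix α α F} {π f : F[X]} (hπ : Irreducible π) {v : α → F} (hv0 : v ≠ 0)
    (hv : aeval C π *ᵥ v = 0) (hf : aeval C f *ᵥ v = 0) : π ∣ f := by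
  by_contra h
  obtain ⟨a, b, hab⟩ := (hπ.coprime_iff_not_dvd).2 h
  refine hv0 ?_
  have := congrArg (fun p => aeval C p *ᵥ v) hab
  simp only [map_add, map_one, Matrix.add_mulVec, Matrix.one_mulVec] at this
  rw [aeval_mul_mulVec C a π hv, aeval_mul_mulVec C b f hf, add_zero] at this
  exact this.symm

/-- A matrix which is not nilpotent has an irreducible polynomial, not `X`, with a non-zero vector in the
kernel; the vector is in the stable image. -/
theorem exists_factor_kill [Nonempty α] {C : Matrix α α F} (hC : C ^ Fintype.card α ≠ 0) :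
    ∃ (π : F[X]) (v : α → F), Irreducible π ∧ π.eval 0 ≠ 0 ∧ v ≠ 0 ∧ aeval C π *ᵥ v = 0 ∧
      v ∈ LinearMap.range (C ^ Fintype.card α).mulVecLin := by
  have hm : minpoly F C ≠ 0 := minpoly.ne_zero (Matrix.isIntegral C)
  obtain ⟨q, hq, hX⟩ := Polynomial.exists_eq_pow_rootMultiplicity_mul_and_not_dvd (minpoly F C) hm 0
  rw [map_zero, sub_zero] at hq hX
  obtain ⟨e, he⟩ : ∃ e, e = Polynomial.rootMultiplicity (0 : F) (minpoly F C) := ⟨_, rfl⟩
  rw [← he] at hq
  have hq0 : q ≠ 0 := fun h => hm (by rw [hq, h, mul_zero])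
  have hqu : ¬ IsUnit q := by
    intro hu
    obtain ⟨c, hc, hcq⟩ := Polynomial.isUnit_iff.1 hu
    have h0 := minpoly.aeval F C
    rw [hq, map_mul, map_pow, aeval_X, ← hcq, aeval_C, ← Algebra.commutes, ← Algebra.smul_def, smul_eq_zero,
      or_iff_right hc.ne_zero] at h0
    refine hC (Matrix.ext_of_mulVec_single fun j => ?_)
    rw [Matrix.zero_mulVec]
    rcases le_total e (Fintype.card α) with hle | hle
    · rw [← Nat.sub_add_cancel hle, pow_add, h0, mul_zero, Matrix.zero_mulVec]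
    · have h1 : Pi.single j (1 : F) ∈ LinearMap.ker (C ^ e).mulVecLin := by
        rw [h0, Matrix.mulVecLin_zero, LinearMap.ker_zero]; trivial
      rw [ker_stab C hle] at h1
      exact h1
  obtain ⟨π, hπ, k, hk⟩ := WfDvdMonoid.exists_irreducible_factor hqu hq0
  have hπ0 : π.eval 0 ≠ 0 := fun h => by
    have : Polynomial.X ∣ π := by rw [Polynomial.X_dvd_iff, Polynomial.coeff_zero_eq_eval_zero, h]
    exact hX (this.trans ⟨k, hk⟩)
  obtain ⟨v, hv0, hv⟩ : ∃ v, v ≠ 0 ∧ aeval C π *ᵥ v = 0 := by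
    rw [Matrix.exists_mulVec_eq_zero_iff]
    by_contra hdet
    have hu : IsUnit (aeval C π) := (Matrix.isUnit_iff_isUnit_det _).2 (IsUnit.mk0 _ hdet)
    have h0 := minpoly.aeval F C
    rw [hq, hk, show Polynomial.X ^ e * (π * k) = π * (Polynomial.X ^ e * k) by ring, map_mul] at h0
    obtain ⟨l, hl⟩ := minpoly.dvd F C ((hu.mul_right_eq_zero).1 h0)
    rw [hq, hk] at hl
    refine hπ.not_isUnit (IsUnit.of_mul_eq_one l ?_)
    have hne : Polynomial.X ^ e * k ≠ 0 := mul_ne_zero (pow_ne_zero _ Polynomial.X_ne_zero) fun h => hq0 (by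
      rw [hk, h, mul_zero])
    refine mul_left_cancel₀ hne ?_
    rw [mul_one]
    conv_rhs => rw [hl]
    ring
  refine ⟨π, v, hπ, hπ0, hv0, hv, ?_⟩
  obtain ⟨G, hG⟩ : ∃ G, G = Polynomial.C (-(π.eval 0)⁻¹) * π.divX := ⟨_, rfl⟩
  have hCG : ∀ x, aeval C π *ᵥ x = 0 → C *ᵥ (aeval C G *ᵥ x) = x := by
    intro x hx
    have e1 : aeval C π = C * aeval C π.divX + π.eval 0 • 1 := by
      conv_lhs => rw [← Polynomial.X_mul_divX_add π]
      rw [map_add, map_mul, aeval_X, aeval_C, Algebra.algebraMap_eq_smul_one, Polynomial.coeff_zero_eq_eval_zero]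
    rw [e1, Matrix.add_mulVec, Matrix.smul_mulVec, Matrix.one_mulVec, ← Matrix.mulVec_mulVec,
      add_eq_zero_iff_eq_neg] at hx
    rw [hG, map_mul, aeval_C, Algebra.algebraMap_eq_smul_one, Matrix.smul_mul, Matrix.one_mul, Matrix.smul_mulVec,
      Matrix.mulVec_smul, hx, neg_smul, smul_neg, neg_neg, smul_smul, inv_mul_cancel₀ hπ0, one_smul]
  have main : ∀ n, C ^ n *ᵥ (aeval C (G ^ n) *ᵥ v) = v := by
    intro n
    induction n with
    | zero => rw [pow_zero, pow_zero, map_one, Matrix.one_mulVec, Matrix.one_mulVec]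
    | succ n IH =>
      rw [pow_succ, ← Matrix.mulVec_mulVec, pow_succ', map_mul, ← Matrix.mulVec_mulVec (M := aeval C G), hCG _ ?_, IH]
      rw [aeval_mulVec_comm, hv, Matrix.mulVec_zero]
  exact ⟨_, main _⟩

end CfsgLib.Classical.TensorWreathS.Pair
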