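import Cfsg.Agent.Lib.Classical.TensorWreathS.PairTwoBase
import Cfsg.Agent.Lib.Classical.TensorWreathS.PairPoly
import Cfsg.Agent.S0801

set_option autoImplicit false
set_option linter.unusedSectionVars false

/-!
The second factor of dimension two: every contraction of a root is scalar.
-/

namespace CfsgLib.Classical.TensorWreathS.Pair

open Matrix CfsgLib.Classical.TensorMax Polynomial
open CfsgLib.Classical.TensorMixed (Zm Np Tp tp_mulVec kr_kc_mul sp_of_form Rad Small ScalarLevels)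
open CfsgLib.Classical.TensorSymp (adj Sp kr_mul_apply kc_mul_apply eq_of_mul_kc_all AForm)
open scoped MatrixGroups Kronecker

universe u

variable {F : Type u} [Field F] [Finite F] {α β : Type} [Fintype α] [DecidableEq α] [Fintype β] [DecidableEq β]
variable {JA : Matrix α α F} {JB : Matrix β β F} {M : Subgroup (GL (α × β) F)}
variable {Y : Matrix (α × β) (α × β) F}

/-- Every conjugate root with a smaller stable rank has a scalar contraction. -/
def Below (JB : Matrix β β F) (M : Subgroup (GL (α × β) F)) (w : β → F) (n : ℕ) : Prop :=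
  ∀ Y' : Matrix (α × β) (α × β) F, Root M Y' → (contr JB w Y' ^ Fintype.card α).rank < n →
    ∃ c : F, contr JB w Y' = c • 1

theorem eq_algebraMap_of_gen {K : Type u} [Field K] [Algebra F K] {x : K} {c : F} (hc : c ≠ 0)
    (h : ∃ l : F, algebraMap F K c * x = algebraMap F K l) : ∃ l : F, x = algebraMap F K l := by
  obtain ⟨l, hl⟩ := h
  exact ⟨c⁻¹ * l, by rw [map_mul, ← hl, ← mul_assoc, ← map_mul, inv_mul_cancel₀ hc, map_one, one_mul]⟩

theorem pow_lower {R : Type u} [CommRing R] (k : R) (n : ℕ) :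
    (!![1, 0; k, 1] : Matrix (Fin 2) (Fin 2) R) ^ n = !![1, 0; (n : R) * k, 1] := by
  induction n with
  | zero => rw [pow_zero]; ext i j; fin_cases i <;> fin_cases j <;> simp
  | succ n IH => rw [pow_succ, IH, Matrix.mul_fin_two]; ext i j; fin_cases i <;> fin_cases j <;> simp [add_mul]

theorem pow_diag {R : Type u} [CommRing R] (a b : R) (n : ℕ) :
    (!![a, 0; 0, b] : Matrix (Fin 2) (Fin 2) R) ^ n = !![a ^ n, 0; 0, b ^ n] := by
  induction n with
  | zero => rw [pow_zero]; ext i j; fin_cases i <;> fin_cases j <;> simp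
  | succ n IH => rw [pow_succ, IH, Matrix.mul_fin_two]; ext i j; fin_cases i <;> fin_cases j <;> simp [pow_succ]

namespace Sys

variable (H : Sys JA JB M)
include H

theorem co_rep_inv {w : β → F} {P : Matrix (Fin 2) (Fin 2) F[X]} {g : GL (α × β) F} (hd : P.det = 1)
    (g1 : g.1 * kc α w = kc α w * aeval (contr JB w Y) (P 0 0) + Y * kc α w * aeval (contr JB w Y) (P 1 0))
    (g2 : g.1 * (Y * kc α w) = kc α w * aeval (contr JB w Y) (P 0 1) + Y * kc α w * aeval (contr JB w Y) (P 1 1)) :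
    kr α (JB *ᵥ w) * (g⁻¹).1 * kc α w = -aeval (contr JB w Y) (Polynomial.X * P 1 0) ∧
      kr α (JB *ᵥ w) * (g⁻¹).1 * (Y * kc α w) = aeval (contr JB w Y) (Polynomial.X * P 0 0) ∧
      kr α (JB *ᵥ w) * g.1 * kc α w = aeval (contr JB w Y) (Polynomial.X * P 1 0) := by
  obtain ⟨i1, i2⟩ := Rep.inverse hd g1 g2
  have hY' : kr α (JB *ᵥ w) * (Y * kc α w) = contr JB w Y := by rw [contr, Matrix.mul_assoc]
  refine ⟨?_, ?_, ?_⟩
  · rw [Matrix.mul_assoc, i1, Matrix.mul_sub, kr_kc_mul, H.selfB, zero_smul, zero_sub, ← Matrix.mul_assoc, hY',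
      map_mul, aeval_X]
  · rw [Matrix.mul_assoc, i2, Matrix.mul_sub, kr_kc_mul, H.selfB, zero_smul, sub_zero, ← Matrix.mul_assoc, hY',
      map_mul, aeval_X]
  · rw [Matrix.mul_assoc, g1, Matrix.mul_add, kr_kc_mul, H.selfB, zero_smul, zero_add, ← Matrix.mul_assoc, hY',
      map_mul, aeval_X]

/-- A conjugate of a root with a smaller stable rank has the contraction zero. -/
theorem kill {w : β → F} {n : ℕ} (hIH : Below JB M w n) (hn : (contr JB w Y ^ Fintype.card α).rank = n)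
    {Y' : Matrix (α × β) (α × β) F} (hY' : Root M Y') {f π : F[X]} {v : α → F}
    (hC' : contr JB w Y' = aeval (contr JB w Y) (Polynomial.X * f)) (hπ : π ∣ f) (hv0 : v ≠ 0)
    (hv : aeval (contr JB w Y) π *ᵥ v = 0)
    (hvW : v ∈ LinearMap.range (contr JB w Y ^ Fintype.card α).mulVecLin) :
    aeval (contr JB w Y) (Polynomial.X * f) = 0 := by
  haveI := H.nonempty_left
  have hfv : aeval (contr JB w Y) f *ᵥ v = 0 := aeval_dvd_mulVec _ hπ hv
  have hfD : aeval (contr JB w Y) f ^ Fintype.card α *ᵥ v = 0 := by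
    obtain ⟨d, hd⟩ : ∃ d, Fintype.card α = d + 1 := ⟨_, (Nat.succ_pred Fintype.card_pos.ne').symm⟩
    rw [hd, pow_succ, ← Matrix.mulVec_mulVec, hfv, Matrix.mulVec_zero]
  obtain ⟨s, hs⟩ := hIH Y' hY' (by
    rw [hC', ← map_pow, mul_comm Polynomial.X, mul_pow, map_mul, map_pow, map_pow, aeval_X, ← hn]
    exact rank_mul_lt hvW hv0 hfD)
  rw [hC'] at hs
  have h1 := congrArg (· *ᵥ v) hs
  rw [map_mul, ← Matrix.mulVec_mulVec, hfv, Matrix.mulVec_zero, Matrix.smul_mulVec, Matrix.one_mulVec, eq_comm,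
    smul_eq_zero, or_iff_left hv0] at h1
  rw [hs, h1, zero_smul]

theorem kill_conj_x {w : β → F} {n : ℕ} (hIH : Below JB M w n)
    (hn : (contr JB w Y ^ Fintype.card α).rank = n) (hreg : ∀ Z, contr JB w Y * (contr JB w Y * Z) = 0 →
      contr JB w Y * Z = (0 : Matrix α α F))
    {P : Matrix (Fin 2) (Fin 2) F[X]} (hP : Rep JB M w Y P) {π : F[X]} {v : α → F} (hπ : π ∣ P 1 0) (hv0 : v ≠ 0)
    (hv : aeval (contr JB w Y) π *ᵥ v = 0)
    (hvW : v ∈ LinearMap.range (contr JB w Y ^ Fintype.card α).mulVecLin) :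
    aeval (contr JB w Y) (Polynomial.X * (P 1 0 * P 1 0)) = 0 := by
  obtain ⟨hd, g, hg, g1, g2⟩ := hP
  obtain ⟨c1, -, c3⟩ := H.co_rep_inv hd g1 g2
  have hC' : contr JB w (g.1 * Zm JB w (1 : Matrix α α F) * (g⁻¹).1) =
      aeval (contr JB w Y) (Polynomial.X * -(P 1 0 * P 1 0 * Polynomial.X)) := by
    rw [H.contr_conj, co, co, c1, c3, Matrix.mul_neg, ← map_mul, ← map_neg]
    congr 1
    ring
  have h0 := H.kill hIH hn ((H.root_zm w).conj hg) hC' (dvd_neg.2 (dvd_mul_of_dvd_left (dvd_mul_of_dvd_left hπ _) _))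
    hv0 hv hvW
  rw [map_mul, aeval_X]
  refine hreg _ ?_
  rw [mul_neg, map_neg, neg_eq_zero, show Polynomial.X * (P 1 0 * P 1 0 * Polynomial.X) =
    Polynomial.X * (Polynomial.X * (P 1 0 * P 1 0)) by ring, map_mul, map_mul, aeval_X] at h0
  exact h0

/-- The square of the action on `kc w` of the conjugate root element is scalar. -/
theorem one_sub_sq {w : β → F} (hY : Root M Y) (hw0 : w ≠ 0) {P : Matrix (Fin 2) (Fin 2) F[X]}
    {g : GL (α × β) F} (hg : g ∈ M) (hd : P.det = 1)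
    (g1 : g.1 * kc α w = kc α w * aeval (contr JB w Y) (P 0 0) + Y * kc α w * aeval (contr JB w Y) (P 1 0))
    (g2 : g.1 * (Y * kc α w) = kc α w * aeval (contr JB w Y) (P 0 1) + Y * kc α w * aeval (contr JB w Y) (P 1 1))
    (h0 : aeval (contr JB w Y) (Polynomial.X * (P 1 0 * P 1 0)) = 0) :
    ∃ e ∈ M, ∃ A, e.1 = 1 + g.1 * Zm JB w (1 : Matrix α α F) * (g⁻¹).1 ∧ e.1 * kc α w = kc α w * A ∧
      A = aeval (contr JB w Y) (1 - P 0 0 * P 1 0 * Polynomial.X) ∧ ∃ s : F, A * A = s • 1 := by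
  obtain ⟨e, he, he', -⟩ := ((H.root_zm w).conj hg).exists_unit
  obtain ⟨A, hA⟩ : ∃ A, A = aeval (contr JB w Y) (1 - P 0 0 * P 1 0 * Polynomial.X) := ⟨_, rfl⟩
  have hact : e.1 * kc α w = kc α w * A := by
    obtain ⟨c1, -, -⟩ := H.co_rep_inv hd g1 g2
    have e1 : g.1 * Zm JB w (1 : Matrix α α F) * (g⁻¹).1 * kc α w =
        g.1 * kc α w * (kr α (JB *ᵥ w) * (g⁻¹).1 * kc α w) := by
      simp only [Zm, Matrix.mul_one, Matrix.mul_assoc]
    have e2 : aeval (contr JB w Y) (P 1 0 * (Polynomial.X * P 1 0)) = 0 := by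
      rw [← h0]; congr 1; ring
    rw [he', Matrix.add_mul, Matrix.one_mul, e1, c1, g1, Matrix.mul_neg, Matrix.add_mul, Matrix.mul_assoc (kc α w),
      Matrix.mul_assoc (Y * kc α w), ← map_mul, ← map_mul, e2, Matrix.mul_zero, add_zero, hA, map_sub, map_one,
      Matrix.mul_sub, Matrix.mul_one, ← sub_eq_add_neg]
    congr 2
    congr 1
    ring
  refine ⟨e, he, A, he', hact, hA, ?_⟩
  obtain ⟨s, hs⟩ := H.upper_sq hw0 he hact
  refine ⟨s, ?_⟩
  rwa [hA, H.adj_aeval (H.adj_contr hY w), ← hA] at hs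

set_option maxHeartbeats 1000000 in
/-- The contraction has an eigenvalue in the field. -/
theorem exists_eigen (h2 : Fintype.card β = 2) (hq : ∃ s : F, s ≠ 0 ∧ s * s ≠ 1) {w : β → F} (hw0 : w ≠ 0)
    (hY : Root M Y) {n : ℕ} (hIH : Below JB M w n) (hn : (contr JB w Y ^ Fintype.card α).rank = n)
    (hreg : ∀ Z, contr JB w Y * (contr JB w Y * Z) = 0 → contr JB w Y * Z = (0 : Matrix α α F))
    (hC : contr JB w Y ^ Fintype.card α ≠ 0) :
    ∃ (lam : F) (v : α → F), lam ≠ 0 ∧ v ≠ 0 ∧ contr JB w Y *ᵥ v = lam • v ∧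
      v ∈ LinearMap.range (contr JB w Y ^ Fintype.card α).mulVecLin := by
  classical
  haveI := H.nonempty_left
  obtain ⟨π, v, hπ, hπ0, hv0, hv, hvW⟩ := exists_factor_kill hC
  haveI := Fact.mk hπ
  haveI : Module.Finite F (AdjoinRoot π) := (AdjoinRoot.powerBasis hπ.ne_zero).finite
  haveI : Finite (AdjoinRoot π) := Module.finite_of_finite F
  have hev : ∀ f : F[X], aeval (AdjoinRoot.root π) f = 0 ↔ π ∣ f := fun f => by
    rw [AdjoinRoot.aeval_eq, AdjoinRoot.mk_eq_zero]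
  obtain ⟨μ₀, hμ₀⟩ : ∃ μ₀, μ₀ = AdjoinRoot.root π := ⟨_, rfl⟩
  rw [← hμ₀] at hev
  suffices hin : ∃ l : F, μ₀ = algebraMap F _ l by
    obtain ⟨l, hl⟩ := hin
    have hroot : π.eval l = 0 := by
      refine (algebraMap F (AdjoinRoot π)).injective ?_
      rw [map_zero, ← Polynomial.aeval_algebraMap_apply_eq_algebraMap_eval, ← hl, (hev π).2 dvd_rfl]
    obtain ⟨k, hk⟩ := Polynomial.dvd_iff_isRoot.2 hroot
    have hk' : IsUnit k := (hπ.isUnit_or_isUnit hk).resolve_left (Polynomial.not_isUnit_X_sub_C l)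
    obtain ⟨c, hc, hck⟩ := Polynomial.isUnit_iff.1 hk'
    have hl0 : l ≠ 0 := fun e => hπ0 (by rw [hk, e]; simp)
    refine ⟨l, v, hl0, hv0, ?_, hvW⟩
    rw [hk, ← hck, map_mul, map_sub, aeval_X, aeval_C, aeval_C, ← Algebra.commutes, ← Algebra.smul_def,
      Matrix.smul_mulVec, smul_eq_zero, or_iff_right hc.ne_zero, Algebra.algebraMap_eq_smul_one, Matrix.sub_mulVec,
      Matrix.smul_mulVec, Matrix.one_mulVec, sub_eq_zero] at hv
    exact hv
  have hμ0 : μ₀ ≠ 0 := fun e => by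
    have := (hev Polynomial.X).1 (by rw [aeval_X, e])
    exact hπ0 (by
      obtain ⟨k, hk⟩ := this
      have hX := (Polynomial.irreducible_X.isUnit_or_isUnit hk).resolve_left hπ.not_isUnit
      obtain ⟨c, hc, hck⟩ := Polynomial.isUnit_iff.1 hX
      have h1 := congrArg (Polynomial.eval 0) hk
      rw [Polynomial.eval_X, Polynomial.eval_mul, ← hck, Polynomial.eval_C, eq_comm, mul_eq_zero,
        or_iff_left hc.ne_zero] at h1
      exact h1)
  obtain ⟨s, hs0, hs⟩ : ∃ s : F, s ≠ 0 ∧ (algebraMap F _ s * μ₀) ^ 2 ≠ -1 := by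
    obtain ⟨s, hs0, hs⟩ := hq
    by_cases h1 : μ₀ ^ 2 = -1
    · refine ⟨s, hs0, fun e => hs ((algebraMap F (AdjoinRoot π)).injective ?_)⟩
      rw [mul_pow, h1, mul_neg, mul_one, neg_inj, pow_two] at e
      rw [map_mul, e, map_one]
    · exact ⟨1, one_ne_zero, by rwa [map_one, one_mul]⟩
  obtain ⟨μ, hμ⟩ : ∃ μ, μ = algebraMap F (AdjoinRoot π) s * μ₀ := ⟨_, rfl⟩
  rw [← hμ] at hs
  refine eq_algebraMap_of_gen hs0 ?_
  by_contra hnin
  rw [← hμ] at hnin
  push Not at hnin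
  obtain ⟨L, hL⟩ : ∃ L, L = Subfield.closure ({μ} : Set (AdjoinRoot π)) := ⟨_, rfl⟩
  have hμL : μ ∈ L := hL ▸ Subfield.subset_closure rfl
  obtain ⟨m, hm⟩ : ∃ m : L, m = ⟨μ, hμL⟩ := ⟨_, rfl⟩
  have hmu0 : μ ≠ 0 := hμ ▸ mul_ne_zero (fun e => hs0 ((algebraMap F (AdjoinRoot π)).injective (by rw [e, map_zero]))) hμ0
  have hgen : Subfield.closure ({m} : Set L) = ⊤ := by
    refine eq_top_iff.2 fun x _ => ?_
    have h1 : (Subfield.closure ({m} : Set L)).map L.subtype = L := by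
      rw [RingHom.map_field_closure, Set.image_singleton, hm]; exact hL.symm
    have h2' : (x : AdjoinRoot π) ∈ (Subfield.closure ({m} : Set L)).map L.subtype := by rw [h1]; exact x.2
    obtain ⟨y, hy, hyx⟩ := h2'
    rwa [show x = y from L.subtype.injective hyx.symm]
  haveI : Finite L := inferInstance
  haveI := Fintype.ofFinite L
  have h2L : (2 : L) ≠ 0 := fun e => H.two ((algebraMap F (AdjoinRoot π)).injective (by
    rw [map_ofNat, map_zero]
    have := congrArg L.subtype e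
    rwa [map_ofNat, map_zero] at this))
  have hS := Cfsg.Agent.S0801.result h2L m (fun e => hmu0 (by rw [hm] at e; exact congrArg Subtype.val e)) hgen
  have htop := (hS.resolve_right (fun h => hs (by
    have := congrArg Subtype.val h.2.1
    rw [hm] at this
    simpa using this))).1
  -- every element lifts
  obtain ⟨ev, hev'⟩ : ∃ ev : Matrix (Fin 2) (Fin 2) F[X] →+* Matrix (Fin 2) (Fin 2) (AdjoinRoot π),
      ev = (aeval μ₀).toRingHom.mapMatrix := ⟨_, rfl⟩
  have lift : ∀ g : Matrix.SpecialLinearGroup (Fin 2) L,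
      ∃ P, Rep JB M w Y P ∧ ev P = g.1.map L.subtype := by
    intro g
    have hg : g ∈ (⊤ : Subgroup (Matrix.SpecialLinearGroup (Fin 2) L)) := trivial
    rw [← htop] at hg
    induction hg using Subgroup.closure_induction with
    | mem g hg =>
      rcases hg with hg | hg
      · refine ⟨gL 1, hY.rep_gL w 1, ?_⟩
        rw [hg, hev', gL]
        ext i j
        fin_cases i <;> fin_cases j <;> simp
      · refine ⟨gU s, H.rep_gU w s, ?_⟩
        rw [hg, hev', gU, hm]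
        ext i j
        fin_cases i <;> fin_cases j <;> simp [hμ]
    | one => exact ⟨1, Rep.one, by simp⟩
    | mul g h _ _ i1 i2 =>
      obtain ⟨P, hP, eP⟩ := i1
      obtain ⟨Q, hQ, eQ⟩ := i2
      exact ⟨P * Q, hP.mul hQ, by rw [map_mul, eP, eQ, Matrix.SpecialLinearGroup.coe_mul, Matrix.map_mul]⟩
    | inv g _ i1 =>
      obtain ⟨P, hP, eP⟩ := i1
      refine ⟨P ^ (orderOf g - 1), hP.pow _, ?_⟩
      have e : g⁻¹ = g ^ (orderOf g - 1) := by
        refine inv_eq_of_mul_eq_one_right ?_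
        rw [← pow_succ', Nat.sub_add_cancel (orderOf_pos g), pow_orderOf_eq_one]
      rw [map_pow, eP, e, Matrix.SpecialLinearGroup.coe_pow]
      exact (map_pow (RingHom.mapMatrix L.subtype) g.1 _).symm
  -- a diagonal element with a square outside the field
  obtain ⟨a, ha0, ha⟩ : ∃ a : L, a ≠ 0 ∧ ∀ l : F, (a : AdjoinRoot π) ^ 2 ≠ algebraMap F _ l := by
    by_contra hc
    push Not at hc
    obtain ⟨l, hl⟩ := hc m (fun e => hmu0 (by rw [hm] at e; exact congrArg Subtype.val e))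
    obtain ⟨l', hl'⟩ := hc (m + 1) (fun e => hnin (-1) (by
      rw [hm] at e
      have e' : μ + 1 = 0 := congrArg Subtype.val e
      rw [map_neg, map_one]
      exact eq_neg_of_add_eq_zero_left e'))
    rw [hm] at hl hl'
    push_cast at hl'
    refine hnin ((2 : F)⁻¹ * (l' - l - 1)) ?_
    refine mul_left_cancel₀ (show algebraMap F (AdjoinRoot π) 2 ≠ 0 from
      fun e => H.two ((algebraMap F (AdjoinRoot π)).injective (by rw [e, map_zero]))) ?_
    rw [← map_mul, ← mul_assoc, mul_inv_cancel₀ H.two, one_mul, map_sub, map_sub, ← hl, ← hl', map_ofNat, map_one]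
    ring
  obtain ⟨P, hP, eP⟩ := lift ⟨!![a, 0; 0, a⁻¹], by rw [Matrix.det_fin_two_of]; simp [mul_inv_cancel₀ ha0]⟩
  have e00 : aeval μ₀ (P 0 0) = (a : AdjoinRoot π) := by
    have := congrFun₂ eP 0 0
    rw [hev'] at this
    simpa using this
  have e10 : π ∣ P 1 0 := (hev _).1 (by
    have := congrFun₂ eP 1 0
    rw [hev'] at this
    simpa using this)
  have h0 := H.kill_conj_x hIH hn hreg hP e10 hv0 hv hvW
  obtain ⟨hd, g, hg, g1, g2⟩ := hP
  obtain ⟨e, he, A, he', hact, hA, σ, hσ⟩ := H.one_sub_sq hY hw0 hg hd g1 g2 h0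
  obtain ⟨C, hCdef⟩ : ∃ C, C = contr JB w Y := ⟨_, rfl⟩
  rw [← hCdef] at h0 hA g1 g2 hv
  obtain ⟨N, hN⟩ : ∃ N, N = aeval C (P 0 0 * P 1 0 * Polynomial.X) := ⟨_, rfl⟩
  have hNN : N * N = 0 := by
    rw [hN, ← map_mul, show P 0 0 * P 1 0 * Polynomial.X * (P 0 0 * P 1 0 * Polynomial.X) =
      P 0 0 * P 0 0 * Polynomial.X * (Polynomial.X * (P 1 0 * P 1 0)) by ring, map_mul, h0, Matrix.mul_zero]
  have hA1 : A = 1 := by
    rw [hA, map_sub, map_one, ← hN, Matrix.sub_mul, Matrix.one_mul, Matrix.mul_sub, Matrix.mul_one, hNN, sub_zero] at hσ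
    have h1 := congrArg (· *ᵥ v) hσ
    have hNv : N *ᵥ v = 0 := by
      rw [hN]
      exact aeval_dvd_mulVec C (dvd_mul_of_dvd_left (dvd_mul_of_dvd_right e10 _) _) hv
    simp only [Matrix.sub_mulVec, Matrix.one_mulVec, hNv, sub_zero, Matrix.smul_mulVec] at h1
    have hσ1 : σ = 1 := by
      have := smul_left_injective F hv0 (show σ • v = (1 : F) • v by rw [← h1, one_smul])
      exact this
    rw [hσ1, one_smul] at hσ
    have hN2 : (2 : F) • N = 0 := by linear_combination (norm := module) -hσ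
    rw [hA, map_sub, map_one, ← hN, (smul_eq_zero.1 hN2).resolve_left H.two, sub_zero]
  obtain ⟨z, wz, -, -⟩ := H.exists_dual (H.selfB w) hw0
  rw [hA1, Matrix.mul_one] at hact
  obtain ⟨C₀, hC₀⟩ := H.rad_zero (H.selfB w) hw0 (H.rad_mk wz he hact fun y hy => ⟨0, by
      obtain ⟨k, rfl⟩ := H.perp_line h2 hw0 hy
      rw [kc_smul, Matrix.mul_smul, hact, Matrix.mul_zero, add_zero]⟩) fun y hy => by
    obtain ⟨k, rfl⟩ := H.perp_line h2 hw0 hy
    rw [kc_smul, Matrix.mul_smul, hact]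
  obtain ⟨c, hc⟩ := H.small w (H.selfB w) hw0 C₀ ⟨e, he, hC₀⟩
  rw [he', add_right_inj, hc] at hC₀
  have h3 := congrArg (fun X : Matrix (α × β) (α × β) F => (X * (Y * kc α w)) *ᵥ v) hC₀
  have e1 : g.1 * Zm JB w (1 : Matrix α α F) * (g⁻¹).1 * (Y * kc α w) =
      g.1 * kc α w * (kr α (JB *ᵥ w) * (g⁻¹).1 * (Y * kc α w)) := by
    simp only [Zm, Matrix.mul_one, Matrix.mul_assoc]
  have e2 : (Zm JB w (c • 1 : Matrix α α F) : Matrix (α × β) (α × β) F) * (Y * kc α w) = kc α w * (c • C) := by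
    rw [hCdef, contr]
    simp only [Zm, Matrix.mul_smul, Matrix.smul_mul, Matrix.mul_one, Matrix.mul_assoc]
  obtain ⟨-, c2, -⟩ := H.co_rep_inv hd (hCdef ▸ g1) (hCdef ▸ g2)
  rw [e1, c2, ← hCdef, g1, e2, Matrix.add_mul, Matrix.mul_assoc (kc α w), Matrix.mul_assoc (Y * kc α w),
    Matrix.add_mulVec, ← map_mul, ← map_mul, ← Matrix.mulVec_mulVec (M := Y * kc α w),
    aeval_dvd_mulVec C (dvd_mul_of_dvd_left e10 _) hv, Matrix.mulVec_zero, add_zero, ← aeval_X (R := F) C,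
    ← map_smul, aeval_X, ← Matrix.mulVec_mulVec, ← Matrix.mulVec_mulVec] at h3
  obtain ⟨θ, hθ⟩ := exists_dual_one hw0
  have h4 := congrArg (kr α θ *ᵥ ·) h3
  simp only [Matrix.mulVec_mulVec, ← Matrix.mul_assoc, kr_mul_kc, hθ, one_smul, Matrix.one_mul] at h4
  have h5 : π ∣ (P 0 0 * P 0 0 - Polynomial.C c) * Polynomial.X := by
    refine dvd_of_kill hπ hv0 hv ?_
    rw [sub_mul, map_sub, Matrix.sub_mulVec, show P 0 0 * P 0 0 * Polynomial.X = P 0 0 * (Polynomial.X * P 0 0) by ring,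
      h4, ← Polynomial.smul_eq_C_mul, sub_self]
  have h6 := (hev _).2 h5
  rw [map_mul, map_sub, map_mul, e00, aeval_C, aeval_X, mul_eq_zero, or_iff_left hμ0, sub_eq_zero, ← pow_two] at h6
  exact ha c h6

set_option maxHeartbeats 1000000 in
/-- The regular case. -/
theorem scalar_of_reg (h2 : Fintype.card β = 2) (hq : ∃ s : F, s ≠ 0 ∧ s * s ≠ 1) {w : β → F} (hw0 : w ≠ 0)
    (hY : Root M Y) {n : ℕ} (hIH : Below JB M w n) (hn : (contr JB w Y ^ Fintype.card α).rank = n)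
    (hreg : ∀ Z, contr JB w Y * (contr JB w Y * Z) = 0 → contr JB w Y * Z = (0 : Matrix α α F))
    (hC : contr JB w Y ^ Fintype.card α ≠ 0) : ∃ c : F, contr JB w Y = c • 1 := by
  classical
  haveI := H.nonempty_left
  obtain ⟨lam, v, hlam, hv0, hCv, hvW⟩ := H.exists_eigen h2 hq hw0 hY hIH hn hreg hC
  obtain ⟨C, hCdef⟩ : ∃ C, C = contr JB w Y := ⟨_, rfl⟩
  rw [← hCdef] at hCv hvW hC
  have heig : ∀ (x : F) (y : α → F), C *ᵥ y = x • y → ∀ f : F[X], aeval C f *ᵥ y = f.eval x • y := by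
    intro x y hy f
    have h1 := aeval_dvd_mulVec C (Polynomial.X_sub_C_dvd_sub_C_eval (p := f) (a := x)) (v := y) (by
      rw [map_sub, aeval_X, aeval_C, Algebra.algebraMap_eq_smul_one, Matrix.sub_mulVec, hy, Matrix.smul_mulVec,
        Matrix.one_mulVec, sub_self])
    rwa [map_sub, aeval_C, Algebra.algebraMap_eq_smul_one, Matrix.sub_mulVec, Matrix.smul_mulVec, Matrix.one_mulVec,
      sub_eq_zero] at h1
  obtain ⟨r, hr⟩ : ∃ r : F, r = -lam⁻¹ := ⟨_, rfl⟩
  obtain ⟨ν, hν⟩ : ∃ ν : F[X], ν = 1 + Polynomial.C r * Polynomial.X := ⟨_, rfl⟩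
  have hνv : ν.eval lam = 0 := by simp [hν, hr, hlam]
  have hπv : aeval C (Polynomial.X - Polynomial.C lam) *ᵥ v = 0 := by
    rw [heig lam v hCv]; simp
  have hπν : Polynomial.X - Polynomial.C lam ∣ ν := Polynomial.dvd_iff_isRoot.2 hνv
  -- the first step
  have s2 : aeval C (Polynomial.X * (ν * ν)) = 0 := by
    obtain ⟨hd, g, hg, g1, g2⟩ := (hY.rep_gL w r).mul (H.rep_gU (Y := Y) w 1)
    obtain ⟨i1, -⟩ := Rep.inverse hd g1 g2
    have e11 : (gL r * gU (1 : F)) 1 1 = ν := by simp [gL, gU, hν, Matrix.mul_apply, Fin.sum_univ_two, add_comm]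
    rw [e11] at g2 i1
    rw [hCdef]
    refine H.kill hIH hn (hY.conj hg) ?_ (dvd_mul_of_dvd_left hπν ν) hv0 (hCdef ▸ hπv) (hCdef ▸ hvW)
    have hYY : ∀ Z : Matrix (α × β) α F, Y * (Y * Z) = 0 := fun Z => by
      rw [← Matrix.mul_assoc, hY.sq, Matrix.zero_mul]
    rw [contr, Matrix.mul_assoc (kr α _), Matrix.mul_assoc g.1, Matrix.mul_assoc g.1, Matrix.mul_assoc Y, i1,
      Matrix.mul_sub, Matrix.mul_assoc Y (kc α w), hYY, sub_zero, ← Matrix.mul_assoc Y, ← Matrix.mul_assoc g.1, g2,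
      Matrix.add_mul, Matrix.mul_add, Matrix.mul_assoc (kc α w), kr_kc_mul, H.selfB, zero_smul, zero_add,
      Matrix.mul_assoc (Y * kc α w), ← map_mul, ← Matrix.mul_assoc, ← Matrix.mul_assoc (kr α _),
      show kr α (JB *ᵥ w) * Y * kc α w = contr JB w Y from rfl, map_mul _ Polynomial.X, aeval_X]
  -- the second step
  have s3 : aeval C (Polynomial.X * ν) = 0 := by
    have hP := ((H.rep_gU (Y := Y) w 1).mul (hY.rep_gL w r)).mul (H.rep_gU (Y := Y) w 1)
    obtain ⟨hd, g, hg, g1, g2⟩ := hP.mul hP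
    obtain ⟨a, hadef⟩ : ∃ a : F[X], a = ν * ν + (ν - 1) * (1 + ν) := ⟨_, rfl⟩
    obtain ⟨c, hcdef⟩ : ∃ c : F[X], c = Polynomial.C (2 * r) * ν := ⟨_, rfl⟩
    have ea : (gU (1 : F) * gL r * gU 1 * (gU 1 * gL r * gU 1) : Matrix (Fin 2) (Fin 2) F[X]) 0 0 = a := by
      simp only [hadef, hν, gL, gU, Matrix.mul_fin_two, Matrix.of_apply, Matrix.cons_val', Matrix.cons_val_zero,
        Matrix.empty_val', Matrix.cons_val_fin_one, map_one]
      ring
    have ec : (gU (1 : F) * gL r * gU 1 * (gU 1 * gL r * gU 1) : Matrix (Fin 2) (Fin 2) F[X]) 1 0 = c := by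
      simp only [hcdef, hν, gL, gU, Matrix.mul_fin_two, Matrix.of_apply, Matrix.cons_val', Matrix.cons_val_zero,
        Matrix.cons_val_one, Matrix.empty_val', Matrix.cons_val_fin_one, map_one, map_mul, map_ofNat]
      ring
    obtain ⟨e, -, A, -, -, hA, σ, hσ⟩ := H.one_sub_sq hY hw0 hg hd g1 g2 (by
      rw [ec, ← hCdef, hcdef, show Polynomial.X * (Polynomial.C (2 * r) * ν * (Polynomial.C (2 * r) * ν)) =
        Polynomial.C (2 * r) * Polynomial.C (2 * r) * (Polynomial.X * (ν * ν)) by ring, map_mul, s2, Matrix.mul_zero])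
    rw [ea, ec, ← hCdef] at hA
    obtain ⟨N, hN⟩ : ∃ N, N = aeval C (Polynomial.X * ν) := ⟨_, rfl⟩
    rw [← hN]
    have hA' : A = 1 + (2 * r) • N := by
      rw [hA, show 1 - a * c * Polynomial.X = 1 + Polynomial.C (2 * r) * (Polynomial.X * ν) -
        (Polynomial.C (2 * r) * (2 * ν)) * (Polynomial.X * (ν * ν)) by rw [hadef, hcdef]; ring, map_sub, map_add,
        map_one, map_mul _ (Polynomial.C (2 * r) * (2 * ν)), s2, Matrix.mul_zero, sub_zero, map_mul, aeval_C,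
        ← Algebra.smul_def, hN]
    have hNN : N * N = 0 := by
      rw [hN, ← map_mul, show Polynomial.X * ν * (Polynomial.X * ν) = Polynomial.X * (Polynomial.X * (ν * ν)) by ring,
        map_mul, s2, Matrix.mul_zero]
    rw [hA', Matrix.add_mul, Matrix.one_mul, Matrix.mul_add, Matrix.mul_one, smul_mul_smul_comm, hNN, smul_zero,
      add_zero] at hσ
    have hNv : N *ᵥ v = 0 := by rw [hN, heig lam v hCv]; simp [hνv]
    have h1 := congrArg (· *ᵥ v) hσ
    simp only [Matrix.add_mulVec, Matrix.one_mulVec, Matrix.smul_mulVec, hNv, smul_zero, add_zero] at h1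
    have hσ1 : σ = 1 := smul_left_injective F hv0 (show σ • v = (1 : F) • v by rw [← h1, one_smul])
    rw [hσ1, one_smul] at hσ
    have h4 : (2 * (2 * r)) • N = 0 := by linear_combination (norm := module) hσ
    exact (smul_eq_zero.1 h4).resolve_left
      (mul_ne_zero H.two (mul_ne_zero H.two (hr ▸ neg_ne_zero.2 (inv_ne_zero hlam))))
  have hquad : C * (C - lam • 1) = 0 := by
    have e : Polynomial.X * (Polynomial.X - Polynomial.C lam) = Polynomial.C (-lam) * (Polynomial.X * ν) := by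
      rw [hν, hr, mul_add, mul_add, mul_one, ← mul_assoc (Polynomial.X : F[X]), mul_comm Polynomial.X (Polynomial.C _),
        mul_assoc (Polynomial.C (-lam⁻¹)), ← mul_assoc (Polynomial.C (-lam)) (Polynomial.C (-lam⁻¹)), ← map_mul,
        neg_mul_neg, mul_inv_cancel₀ hlam, map_one, one_mul, map_neg]
      ring
    have := congrArg (aeval C) e
    rwa [map_mul, map_mul, s3, Matrix.mul_zero, map_sub, aeval_X, aeval_C, Algebra.algebraMap_eq_smul_one] at this
  by_cases hu : ∃ u : α → F, u ≠ 0 ∧ C *ᵥ u = 0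
  swap
  · refine ⟨lam, ?_⟩
    rw [← hCdef]
    have hdet : C.det ≠ 0 := fun h => hu (Matrix.exists_mulVec_eq_zero_iff.2 h)
    exact sub_eq_zero.1 (((Matrix.isUnit_iff_isUnit_det _).2 (IsUnit.mk0 _ hdet)).mul_right_eq_zero.1 hquad)
  exfalso
  obtain ⟨u, hu0, hCu⟩ := hu
  obtain ⟨s, hs0, hs⟩ := hq
  obtain ⟨p, hp, hcp⟩ := TensorWreath.ringChar_prime (F := F)
  haveI := Fact.mk hp
  haveI := hcp
  obtain ⟨Q, hQdef⟩ : ∃ Q : Matrix (Fin 2) (Fin 2) F[X],
      Q = gU s * gL (r / s) * gU s * (gU 1 * gL r * gU 1) := ⟨_, rfl⟩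
  have hQ : Rep JB M w Y Q := hQdef ▸ (((H.rep_gU w s).mul (hY.rep_gL w _)).mul (H.rep_gU w s)).mul
    (((H.rep_gU w 1).mul (hY.rep_gL w r)).mul (H.rep_gU w 1))
  obtain ⟨P, hPdef⟩ : ∃ P, P = Q ^ p := ⟨_, rfl⟩
  obtain ⟨hd, g, hg, g1, g2⟩ := hPdef ▸ hQ.pow p
  have evP : ∀ x : F, (Polynomial.evalRingHom x).mapMatrix P = ((Polynomial.evalRingHom x).mapMatrix Q) ^ p :=
    fun x => by rw [hPdef, map_pow]
  have eQ0 : (Polynomial.evalRingHom (0 : F)).mapMatrix Q = !![1, 0; r / s + r, 1] := by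
    ext i j
    fin_cases i <;> fin_cases j <;> simp [hQdef, gL, gU]
  have eQl : (Polynomial.evalRingHom lam).mapMatrix Q = !![-s, 0; 0, -s⁻¹] := by
    ext i j
    fin_cases i <;> fin_cases j <;> simp [hQdef, gL, gU, hr] <;> field_simp <;> ring
  have P0 := evP 0
  have Pl := evP lam
  rw [eQ0, pow_lower, CharP.cast_eq_zero, zero_mul] at P0
  rw [eQl, pow_diag] at Pl
  have a0 : (P 0 0).eval 0 = 1 := by simpa using congrFun₂ P0 0 0
  have c0 : (P 1 0).eval 0 = 0 := by simpa using congrFun₂ P0 1 0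
  have al : (P 0 0).eval lam = (-s) ^ p := by simpa using congrFun₂ Pl 0 0
  have cl : (P 1 0).eval lam = 0 := by simpa using congrFun₂ Pl 1 0
  have hc : aeval (contr JB w Y) (P 1 0) = 0 := by
    obtain ⟨c1, hc1⟩ := Polynomial.X_dvd_iff.2 (show (P 1 0).coeff 0 = 0 by
      rw [Polynomial.coeff_zero_eq_eval_zero, c0])
    have : c1.eval lam = 0 := by
      rw [hc1, Polynomial.eval_mul, Polynomial.eval_X, mul_eq_zero] at cl
      exact cl.resolve_left hlam
    obtain ⟨c2, hc2⟩ := Polynomial.dvd_iff_isRoot.2 this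
    rw [hc1, hc2, ← mul_assoc, ← hCdef, map_mul, map_mul, map_sub, aeval_X, aeval_C, Algebra.algebraMap_eq_smul_one,
      hquad, Matrix.zero_mul]
  rw [hc, Matrix.mul_zero, add_zero] at g1
  obtain ⟨σ, hσ⟩ := H.upper_sq hw0 hg g1
  rw [H.adj_aeval (H.adj_contr hY w), ← map_mul, ← hCdef] at hσ
  have h1 := congrArg (· *ᵥ u) hσ
  have h3 := congrArg (· *ᵥ v) hσ
  simp only [heig 0 u (by rw [hCu, zero_smul]), heig lam v hCv, Matrix.smul_mulVec, Matrix.one_mulVec,
    Polynomial.eval_mul, a0, al, mul_one] at h1 h3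
  have e1 : σ = 1 := (smul_left_injective F hu0 (show (1 : F) • u = σ • u from h1)).symm
  have e2 : (-s) ^ p * (-s) ^ p = σ := smul_left_injective F hv0 h3
  rw [e1, ← mul_pow, neg_mul_neg] at e2
  refine hs (sub_eq_zero.1 ((pow_eq_zero_iff hp.ne_zero).1 ?_))
  rw [sub_pow_char, e2, one_pow, sub_self]

/-- Every contraction is scalar. -/
theorem contr_scalar_two (h2 : Fintype.card β = 2) (hq : ∃ s : F, s ≠ 0 ∧ s * s ≠ 1) {w : β → F} (hw0 : w ≠ 0) :
    ∀ {Y : Matrix (α × β) (α × β) F}, Root M Y → ∃ c : F, contr JB w Y = c • 1 := by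
  haveI := H.nonempty_left
  suffices h : ∀ (n : ℕ) (Y : Matrix (α × β) (α × β) F), Root M Y →
      (contr JB w Y ^ Fintype.card α).rank = n → ∃ c : F, contr JB w Y = c • 1 from fun {Y} hY => h _ Y hY rfl
  intro n
  induction n using Nat.strong_induction_on with
  | _ n IH =>
    intro Y hY hn
    have hIH : Below JB M w n := fun Y' hY' hlt => IH _ hlt Y' hY' rfl
    obtain ⟨C, hCdef⟩ : ∃ C, C = contr JB w Y := ⟨_, rfl⟩
    by_cases hC : contr JB w Y ^ Fintype.card α = 0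
    · exact ⟨0, by rw [H.contr_nilpotent hw0 _ hY hC, zero_smul]⟩
    -- the iterates
    have iter : ∀ j : ℕ, ∃ (Y' : Matrix (α × β) (α × β) F) (e : F), Root M Y' ∧ e ≠ 0 ∧
        contr JB w Y' = e • C ^ (2 ^ j) := by
      intro j
      induction j with
      | zero => exact ⟨Y, 1, hY, one_ne_zero, by rw [one_smul, pow_zero, pow_one, hCdef]⟩
      | succ j IH =>
        obtain ⟨Y', e, hY', he, h⟩ := IH
        obtain ⟨y, hyM, hy, hy'⟩ := hY'.exists_unit
        refine ⟨_, -(e * e), (H.root_zm w).conj hyM, neg_ne_zero.2 (mul_ne_zero he he), ?_⟩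
        rw [H.contr_root_conj hY' hy hy', h, smul_mul_smul_comm, neg_smul, ← pow_add, pow_succ, mul_two]
    obtain ⟨Y', e, hY', he, hC'⟩ := iter (Fintype.card α + 1)
    obtain ⟨N, hN⟩ : ∃ N, N = 2 ^ (Fintype.card α + 1) := ⟨_, rfl⟩
    rw [← hN] at hC'
    have hDN : Fintype.card α ≤ N ∧ 2 ≤ N := by
      have h1 : Fintype.card α + 1 < N := hN ▸ Nat.lt_two_pow_self
      have := Fintype.card_pos (α := α)
      omega
    have hr' : (contr JB w Y' ^ Fintype.card α).rank = n := by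
      rw [hC', _root_.smul_pow, Matrix.rank_smul_of_mem_nonZeroDivisors _ (mem_nonZeroDivisors_of_ne_zero (pow_ne_zero _ he)),
        ← pow_mul, rank_stab C (le_trans (le_mul_of_one_le_left (Nat.zero_le _) (by omega)) le_rfl), hCdef, hn]
    have hn0 : 0 < n := by rw [← hn]; exact TensorWreath.rank_pos hC
    obtain ⟨s, hs⟩ := H.scalar_of_reg h2 hq hw0 hY' hIH hr' (fun Z hZ => by
      rw [hC', Matrix.smul_mul, Matrix.smul_mul, Matrix.mul_smul, smul_smul, smul_eq_zero,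
        or_iff_right (mul_ne_zero he he), ← Matrix.mul_assoc, ← pow_add, ← two_mul] at hZ
      rw [hC', Matrix.smul_mul]
      refine smul_eq_zero_of_right _ (Matrix.ext_of_mulVec_single fun j => ?_)
      rw [Matrix.zero_mulVec, ← Matrix.mulVec_mulVec]
      refine mulVec_zero_of_stab C hDN.1 ?_
      rw [Matrix.mulVec_mulVec, hZ, Matrix.zero_mulVec]) (fun h => by
      rw [h, Matrix.rank_zero] at hr'; omega)
    have hs0 : s ≠ 0 := fun h => by
      rw [hs, h, zero_smul, zero_pow Fintype.card_pos.ne', Matrix.rank_zero] at hr'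
      omega
    refine H.scalar_of_reg h2 hq hw0 hY hIH hn (fun Z hZ => ?_) hC
    have hz : C ^ N * Z = 0 := by
      rw [← Nat.sub_add_cancel hDN.2, pow_add, Matrix.mul_assoc, pow_two, Matrix.mul_assoc C, hCdef, hZ,
        Matrix.mul_zero]
    have h3 : contr JB w Y' * Z = 0 := by rw [hC', Matrix.smul_mul, hz, smul_zero]
    rw [hs, Matrix.smul_mul, Matrix.one_mul, smul_eq_zero, or_iff_right hs0] at h3
    rw [h3, Matrix.mul_zero]

end Sys

end CfsgLib.Classical.TensorWreathS.Pair
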