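import Cfsg.Agent.Lib.Classical.TensorWreathS.Sym
import Cfsg.Agent.Lib.Classical.TensorWreathS.PairTwo

set_option autoImplicit false
set_option linter.unusedSectionVars false

/-!
The levels at every factor are scalars.
-/

namespace CfsgLib.Classical.TensorWreathS

open Matrix CfsgLib.Classical.TensorWreath
open CfsgLib.Classical.TensorMixed (Zm)
open CfsgLib.Classical.TensorSymp (adj Sp AForm tv)
open CfsgLib.Classical.TensorMax (kc kr)
open CfsgLib.Classical.TensorWreathU (two back two_val back_two back_inj back_kron back_mul back_one back_add)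
open Pair (contr)
open scoped MatrixGroups Kronecker

variable {F : Type*} [Field F] [Finite F] {τ : Type} [Fintype τ] [DecidableEq τ] {m : ℕ}
variable {J : Matrix (Fin m) (Fin m) F}

theorem pureM_update_embM (g : τ → Matrix (Fin m) (Fin m) F) (i : τ) (X : Matrix (Fin m) (Fin m) F) :
    pureM (Function.update g i X) = pureM (Function.update g i 1) * embM i X := by
  rw [pureM_update (Function.update g i X) i, Function.update_idem, Function.update_self]

theorem cen_pureM {g : τ → Matrix (Fin m) (Fin m) F} {i : τ} (h : g i = 1) : Cen i (pureM g) := fun b => by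
  rw [embM, pureM_mul, pureM_mul]
  refine congrArg pureM (funext fun k => ?_)
  by_cases hk : k = i
  · subst hk; simp [h]
  · simp [Function.update_of_ne hk]

theorem pureM_mul_inv (hJ : AForm J) {g : τ → Matrix (Fin m) (Fin m) F} (hg : ∀ j, Sp J (g j)) :
    pureM g * pureM (fun j => (g j)⁻¹) = 1 ∧ pureM (fun j => (g j)⁻¹) * pureM g = 1 := by
  constructor <;> rw [pureM_mul] <;> convert pureM_one (F := F) (τ := τ) (m := m) using 2 <;> funext j
  · exact (hJ.sp_inv (hg j)).1
  · exact mul_eq_one_comm.1 (hJ.sp_inv (hg j)).1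

theorem Hyp.inM_pure {M : Subgroup (GL (Ix τ m) F)} (H : Hyp J M) {g : τ → Matrix (Fin m) (Fin m) F}
    (hg : ∀ j, Sp J (g j)) : InM M (pureM g) := by
  suffices h : ∀ s : Finset τ, InM M (pureM (pick s g)) by
    convert h Finset.univ using 2
    funext j; simp [pick]
  intro s
  induction s using Finset.induction with
  | empty => rw [pick_empty]; exact inM_one
  | insert a s ha IH => rw [pick_insert ha]; exact IH.mul (H.emb a _ (hg a))

/-- A subspace with all products of two roots is everything. -/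
theorem mem_of_nu (hJ : AForm J) (P : Submodule F (Matrix (Fin m) (Fin m) F)) (h2 : ∀ a b, nu J a * nu J b ∈ P)
    (X : Matrix (Fin m) (Fin m) F) : X ∈ P := by
  have h3 : ∀ a b, (J *ᵥ a) ⬝ᵥ b ≠ 0 → Matrix.vecMulVec a (J *ᵥ b) ∈ P := fun a b hab => by
    have := P.smul_mem ((J *ᵥ a) ⬝ᵥ b)⁻¹ (h2 a b)
    rwa [nu_mul, smul_smul, inv_mul_cancel₀ hab, one_smul] at this
  have h4 : ∀ a b, Matrix.vecMulVec a (J *ᵥ b) ∈ P := fun a b => by
    by_cases hab : (J *ᵥ a) ⬝ᵥ b = 0
    swap
    · exact h3 a b hab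
    by_cases ha : a = 0
    · rw [ha, Matrix.zero_vecMulVec]; exact P.zero_mem
    obtain ⟨e', he⟩ := hJ.exists_form_ne ha
    have h5 := P.sub_mem (h3 a (b + e') (by rw [dotProduct_add, hab, he, zero_add]; exact one_ne_zero))
      (h3 a e' (by rw [he]; exact one_ne_zero))
    rwa [Matrix.mulVec_add, Matrix.vecMulVec_add, add_sub_cancel_right] at h5
  rw [Matrix.matrix_eq_sum_single X]
  refine P.sum_mem fun p _ => P.sum_mem fun q _ => ?_
  rw [show Matrix.single p q (X p q) = X p q • Matrix.vecMulVec (Pi.single p (1 : F)) (J *ᵥ (J⁻¹ *ᵥ Pi.single q 1)) by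
    rw [Matrix.mulVec_mulVec, Matrix.mul_nonsing_inv J hJ.isUnit_det, Matrix.one_mulVec,
      ← Matrix.single_eq_single_vecMulVec_single]
    simp]
  exact P.smul_mem _ (h4 _ _)

/-- The symplectic group spans all matrices. -/
theorem span_sp (hJ : AForm J) (X : Matrix (Fin m) (Fin m) F) :
    X ∈ Submodule.span F {T | Sp J T} := by
  refine mem_of_nu hJ _ (fun a b => ?_) X
  have hs : ∀ T, Sp J T → T ∈ Submodule.span F {T : Matrix (Fin m) (Fin m) F | Sp J T} :=
    fun T hT => Submodule.subset_span hT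
  have e : nu J a * nu J b = tv J a 1 * tv J b 1 - tv J a 1 - tv J b 1 + 1 := by
    simp only [tv_eq, one_smul, mul_add, add_mul, mul_one, one_mul]
    abel
  rw [e]
  exact Submodule.add_mem _ (Submodule.sub_mem _ (Submodule.sub_mem _ (hs _ (hJ.sp_mul (hJ.sp_tv a 1) (hJ.sp_tv b 1)))
    (hs _ (hJ.sp_tv a 1))) (hs _ (hJ.sp_tv b 1))) (hs _ hJ.sp_one)

/-- A matrix with `A S A = 0` for the whole product group is zero. -/
theorem span_pure (hJ : AForm J) {A : Matrix (Ix τ m) (Ix τ m) F}
    (h : ∀ g : τ → Matrix (Fin m) (Fin m) F, (∀ j, Sp J (g j)) → A * pureM g * A = 0) : A = 0 := by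
  have all : ∀ (s : Finset τ) (g : τ → Matrix (Fin m) (Fin m) F), (∀ j ∉ s, Sp J (g j)) → A * pureM g * A = 0 := by
    intro s
    induction s using Finset.induction with
    | empty => exact fun g hg => h g fun j => hg j (Finset.notMem_empty j)
    | insert a s ha IH =>
      intro g hg
      suffices hX : ∀ X, A * pureM (Function.update g a X) * A = 0 by
        simpa using hX (g a)
      intro X
      rw [pureM_update_embM]
      have hX := span_sp hJ X
      induction hX using Submodule.span_induction with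
      | mem T hT =>
        rw [← pureM_update_embM]
        refine IH _ fun j hj => ?_
        by_cases hja : j = a
        · subst hja; rw [Function.update_self]; exact hT
        · rw [Function.update_of_ne hja]; exact hg j (by simp [hja, hj])
      | zero => simp [embM_zero]
      | add X Y _ _ hX hY => simp only [embM_add, mul_add, add_mul, hX, hY, add_zero]
      | smul c X _ hX => simp only [embM_smul, mul_smul_comm, smul_mul_assoc, hX, smul_zero]
  ext x y
  have e1 : ∀ p q : Ix τ m, pureM (fun j => (e (p j) (q j) : Matrix (Fin m) (Fin m) F)) = Matrix.single p q 1 := by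
    intro p q
    ext a b
    rw [pureM_apply, Matrix.single_apply]
    split_ifs with hab
    · obtain ⟨rfl, rfl⟩ := hab
      simp
    · by_cases hp : p = a
      · obtain ⟨j, hj⟩ := Function.ne_iff.1 fun hq : q = b => hab ⟨hp, hq⟩
        exact Finset.prod_eq_zero (Finset.mem_univ j) (by simp [Matrix.single_apply, hj])
      · obtain ⟨j, hj⟩ := Function.ne_iff.1 hp
        exact Finset.prod_eq_zero (Finset.mem_univ j) (by simp [Matrix.single_apply, hj])
  have h0 := congrFun₂ (all Finset.univ (fun j => e (y j) (x j)) (fun j hj => absurd (Finset.mem_univ j) hj)) x y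
  rw [e1, Matrix.mul_assoc, Matrix.mul_apply, Fintype.sum_eq_single y] at h0
  · simpa [Matrix.single_mul_apply_same] using h0
  · intro z hz
    simp [hz]

/-- Anticommute up to scalars. -/
def Sc (A B : Matrix (Ix τ m) (Ix τ m) F) : Prop := ∃ c : F, A * B + B * A = c • 1

theorem Sc.span {s : Set (Matrix (Ix τ m) (Ix τ m) F)} (h : ∀ a ∈ s, ∀ b ∈ s, Sc a b)
    {A B : Matrix (Ix τ m) (Ix τ m) F} (hA : A ∈ Submodule.span F s) (hB : B ∈ Submodule.span F s) : Sc A B := by
  induction hA using Submodule.span_induction with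
  | mem a ha =>
    induction hB using Submodule.span_induction with
    | mem b hb => exact h a ha b hb
    | zero => exact ⟨0, by simp⟩
    | add X Y _ _ hX hY =>
      obtain ⟨c, hc⟩ := hX; obtain ⟨d, hd⟩ := hY
      exact ⟨c + d, by rw [mul_add, add_mul, add_smul, ← hc, ← hd]; abel⟩
    | smul r X _ hX =>
      obtain ⟨c, hc⟩ := hX
      exact ⟨r * c, by rw [mul_smul_comm, smul_mul_assoc, ← smul_add, hc, smul_smul]⟩
  | zero => exact ⟨0, by simp⟩
  | add X Y _ _ hX hY =>
    obtain ⟨c, hc⟩ := hX; obtain ⟨d, hd⟩ := hY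
    exact ⟨c + d, by rw [mul_add, add_mul, add_smul, ← hc, ← hd]; abel⟩
  | smul r X _ hX =>
    obtain ⟨c, hc⟩ := hX
    exact ⟨r * c, by rw [mul_smul_comm, smul_mul_assoc, ← smul_add, hc, smul_smul]⟩

theorem contr_eq_zero (hJ : AForm J) {i : τ} {w : Fin m → F} (hw : w ≠ 0)
    {Z : Matrix (Ix (Rest i) m × Fin m) (Ix (Rest i) m × Fin m) F}
    (h : embM i (nu J w) * back i Z * embM i (nu J w) = 0) : contr J w Z = 0 := by
  have e1 : embM i (nu J w) = back i (Zm J w (1 : Matrix (Ix (Rest i) m) (Ix (Rest i) m) F)) := by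
    rw [back_zm, embM_eq_ins]
  rw [e1, ← back_mul, ← back_mul,
    show Zm J w (1 : Matrix (Ix (Rest i) m) (Ix (Rest i) m) F) * Z * Zm J w 1 = Zm J w (contr J w Z) by
      simp only [Zm, contr, Matrix.mul_one, Matrix.mul_assoc], back_zm] at h
  haveI : NeZero m := ⟨by rintro rfl; exact hw (funext fun x => x.elim0)⟩
  obtain ⟨p, q, hpq⟩ : ∃ p q, nu J w p q ≠ 0 := by
    by_contra hc
    push Not at hc
    exact nu_ne_zero hJ hw (Matrix.ext hc)
  ext a b
  have := congrFun₂ h ((spl i).symm (a, p)) ((spl i).symm (b, q))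
  rw [ins, Matrix.submatrix_apply, Equiv.apply_symm_apply, Equiv.apply_symm_apply, Matrix.kroneckerMap_apply,
    Matrix.zero_apply, mul_eq_zero] at this
  exact this.resolve_right hpq

/-- A skew matrix anticommuting up to scalars with its conjugates is zero. -/
theorem skew_zero (hJ : AForm J) (h2 : (2 : F) ≠ 0) (hd : 3 ≤ m)
    {K : Matrix (Ix τ m) (Ix τ m) F} (hK : adj (JJ J τ) K = -K)
    (hac : ∀ g : τ → Matrix (Fin m) (Fin m) F, (∀ j, Sp J (g j)) →
      Sc K (pureM g * K * (pureM g)⁻¹)) : K = 0 := by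
  haveI : NeZero m := ⟨by omega⟩
  obtain ⟨cj, hcj⟩ : ∃ cj : (τ → Matrix (Fin m) (Fin m) F) → Matrix (Ix τ m) (Ix τ m) F →
      Matrix (Ix τ m) (Ix τ m) F, ∀ g A, cj g A = pureM g * A * pureM (fun j => (g j)⁻¹) :=
    ⟨_, fun _ _ => rfl⟩
  have cmul : ∀ g g', (∀ j, Sp J (g j)) → (∀ j, Sp J (g' j)) → ∀ A, cj g (cj g' A) = cj (g * g') A := by
    intro g g' hg hg' A
    simp only [hcj, ← pureM_mul, mul_assoc]
    congr 2
    refine congrArg (A * ·) ?_
    rw [pureM_mul]
    refine congrArg pureM (funext fun j => ?_)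
    exact (Matrix.mul_inv_rev (g j) (g' j)).symm
  obtain ⟨S, hS⟩ : ∃ S : Set (Matrix (Ix τ m) (Ix τ m) F), S = {A | ∃ g, (∀ j, Sp J (g j)) ∧ A = cj g K} :=
    ⟨_, rfl⟩
  have hpair : ∀ a ∈ S, ∀ b ∈ S, Sc a b := by
    rw [hS]
    rintro _ ⟨g, hg, rfl⟩ _ ⟨g', hg', rfl⟩
    have hgi : ∀ j, Sp J (g j)⁻¹ := fun j => (hJ.sp_inv (hg j)).2
    obtain ⟨c, hc⟩ := hac (fun j => (g j)⁻¹ * g' j) fun j => hJ.sp_mul (hgi j) (hg' j)
    rw [Matrix.inv_eq_right_inv (pureM_mul_inv hJ (g := fun j => (g j)⁻¹ * g' j) fun j => hJ.sp_mul (hgi j) (hg' j)).1,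
      ← hcj] at hc
    obtain ⟨G, hG⟩ : ∃ G, G = cj (fun j => (g j)⁻¹ * g' j) K := ⟨_, rfl⟩
    rw [← hG] at hc
    refine ⟨c, ?_⟩
    have e1 : cj g' K = cj g G := by
      rw [hG, cmul _ _ hg fun j => hJ.sp_mul (hgi j) (hg' j)]
      congr 1
      funext j
      rw [Pi.mul_apply, ← mul_assoc, (hJ.sp_inv (hg j)).1, one_mul]
    obtain ⟨e2, e3⟩ := pureM_mul_inv hJ hg
    rw [e1, hcj, hcj]
    obtain ⟨P, hP⟩ : ∃ P, P = pureM g := ⟨_, rfl⟩
    obtain ⟨P', hP'⟩ : ∃ P', P' = pureM (fun j => (g j)⁻¹) := ⟨_, rfl⟩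
    rw [← hP, ← hP'] at e2 e3 ⊢
    calc P * K * P' * (P * G * P') + P * G * P' * (P * K * P') =
          P * (K * (P' * P) * G + G * (P' * P) * K) * P' := by simp only [mul_add, add_mul, mul_assoc]
      _ = c • 1 := by rw [e3, mul_one, mul_one, hc, mul_smul_comm, mul_one, smul_mul_assoc, e2]
  have inv : ∀ g, (∀ j, Sp J (g j)) → ∀ A ∈ Submodule.span F S, cj g A ∈ Submodule.span F S := by
    intro g hg A hA
    induction hA using Submodule.span_induction with
    | mem a ha =>
      rw [hS] at ha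
      obtain ⟨g', hg', rfl⟩ := ha
      refine Submodule.subset_span ?_
      rw [hS, cmul g g' hg hg']
      exact ⟨_, fun j => hJ.sp_mul (hg j) (hg' j), rfl⟩
    | zero => rw [hcj]; simp
    | add X Y _ _ hX hY => rw [hcj] at hX hY ⊢; rw [mul_add, add_mul]; exact Submodule.add_mem _ hX hY
    | smul r X _ hX => rw [hcj] at hX ⊢; rw [mul_smul_comm, smul_mul_assoc]; exact Submodule.smul_mem _ r hX
  have hKS : K ∈ Submodule.span F S := Submodule.subset_span (hS ▸ ⟨fun _ => 1, fun _ => hJ.sp_one, by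
    rw [hcj, show (fun _ : τ => (1 : Matrix (Fin m) (Fin m) F)⁻¹) = 1 from funext fun _ => inv_one,
      show (fun _ : τ => (1 : Matrix (Fin m) (Fin m) F)) = 1 from rfl, pureM_one, one_mul, mul_one]⟩)
  have cjemb : ∀ (i : τ) (T : Matrix (Fin m) (Fin m) F), Sp J T → ∀ A ∈ Submodule.span F S,
      embM i T * A * embM i T⁻¹ ∈ Submodule.span F S := by
    intro i T hT A hA
    have := inv (Function.update 1 i T) (fun j => by
      by_cases hj : j = i
      · subst hj; rw [Function.update_self]; exact hT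
      · rw [Function.update_of_ne hj]; exact hJ.sp_one) A hA
    rw [hcj] at this
    convert this using 2
    rw [embM]
    refine congrArg pureM (funext fun j => ?_)
    by_cases hj : j = i
    · subst hj; simp
    · simp [Function.update_of_ne hj]
  refine eq_zero_of_contr hJ h2 hK fun i u Z hZ => ?_
  by_cases hu : u = 0
  · simp [hu, contr, TensorMax.kr_zero, Matrix.mulVec_zero]
  refine contr_eq_zero hJ hu ?_
  rw [hZ, nyn]
  obtain ⟨C, hC⟩ : ∃ C, C = cn i (J *ᵥ u) u K := ⟨_, rfl⟩
  rw [← hC]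
  suffices hC0 : C = 0 by rw [hC0, mul_zero]
  have hCi : Cen i C := hC ▸ cen_cn _ _ _ _
  obtain ⟨N, hN⟩ : ∃ N, N = embM i (nu J u) := ⟨_, rfl⟩
  have hX1 : N * C ∈ Submodule.span F S := by
    have t : ∀ c : F, embM i (tv J u c) = 1 + c • N := fun c => by rw [tv_eq, embM_add, embM_one, embM_smul, hN]
    have ti : ∀ c : F, (tv J u c)⁻¹ = tv J u (-c) := fun c => Matrix.inv_eq_right_inv (hJ.tv_mul_neg u c)
    have a1 := cjemb i _ (hJ.sp_tv u 1) K hKS
    have a2 := cjemb i _ (hJ.sp_tv u (-1)) K hKS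
    rw [ti, t, t] at a1 a2
    have e : N * C = K - (2 : F)⁻¹ • ((1 + (1 : F) • N) * K * (1 + (-1 : F) • N) +
        (1 + (-1 : F) • N) * K * (1 + (- -1 : F) • N)) := by
      rw [hC, hN, ← nyn, ← hN]
      simp only [neg_neg, one_smul, neg_smul, mul_add, add_mul, mul_one, one_mul, mul_neg, neg_mul, neg_neg]
      match_scalars <;> field_simp <;> ring
    rw [e]
    exact Submodule.sub_mem _ hKS (Submodule.smul_mem _ _ (Submodule.add_mem _ a1 a2))
  obtain ⟨v, hv⟩ := hJ.exists_form_ne hu
  have hv0 : v ≠ 0 := fun e => by simp [e] at hv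
  obtain ⟨T, hT, hTu⟩ := move hJ hu hv0
  have hX2 : ∀ g, (∀ j, Sp J (g j)) → g i = 1 → embM i (nu J v) * (pureM g * C * pureM fun j => (g j)⁻¹) ∈
      Submodule.span F S := by
    intro g hg hgi
    have h' := inv g hg _ (cjemb i T hT _ hX1)
    have eT : embM i T * (N * C) * embM i T⁻¹ = embM i (nu J v) * C := by
      rw [mul_assoc, mul_assoc N, ← hCi T⁻¹, ← mul_assoc, ← mul_assoc, hN, embM_mul, embM_mul, nu_conj hJ hT, hTu]
    rw [eT, hcj] at h'
    convert h' using 1
    rw [← mul_assoc, ← mul_assoc, cen_pureM hgi (nu J v), mul_assoc (pureM g)]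
  have key : ∀ g : τ → Matrix (Fin m) (Fin m) F, (∀ j, Sp J (g j)) → g i = 1 → C * (pureM fun j => (g j)⁻¹) * C = 0 := by
    intro g hg hgi
    obtain ⟨C', hC'⟩ : ∃ C', C' = pureM g * C * pureM fun j => (g j)⁻¹ := ⟨_, rfl⟩
    have hC'i : Cen i C' := hC' ▸ ((cen_pureM hgi).mul hCi).mul (cen_pureM (g := fun j => (g j)⁻¹) (by simp [hgi]))
    have hmem := hX2 g hg hgi
    rw [← hC'] at hmem
    obtain ⟨s, hs⟩ := Sc.span hpair hX1 hmem
    obtain ⟨N', hN'⟩ : ∃ N', N' = embM i (nu J v) := ⟨_, rfl⟩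
    have e1 : N * C * (N' * C') = N * N' * (C * C') := by
      rw [mul_assoc N, ← mul_assoc C, hN', ← hCi, ← hN', mul_assoc N' C, ← mul_assoc]
    have e2 : N' * C' * (N * C) = N' * N * (C' * C) := by
      rw [mul_assoc N', ← mul_assoc C', hN, ← hC'i, ← hN, mul_assoc N C', ← mul_assoc]
    rw [← hN', e1, e2] at hs
    have n0 : N * N = 0 := by rw [hN, embM_mul, nu_sq hJ, embM_zero]
    have n1 : N * N' * N = -N := by
      rw [hN, hN', embM_mul, embM_mul, nu_sandwich, nu_mulVec, dotProduct_smul, hv,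
        show (J *ᵥ v) ⬝ᵥ u = -1 by rw [hJ.swap, hv], smul_eq_mul, mul_one, neg_one_smul, ← neg_one_smul F (nu J u),
        embM_smul, neg_one_smul]
    have e3 : -(N * (C' * C)) = s • N := by
      have := congrArg (N * ·) hs
      simp only [mul_add, ← mul_assoc, n0, zero_mul, zero_add, mul_smul_comm, mul_one] at this
      rw [n1, mul_assoc, neg_mul, ← mul_assoc] at this
      simpa [mul_assoc] using this
    obtain ⟨x, hx0, hx⟩ := TensorMax.exists_orth (![J *ᵥ u, J *ᵥ v]) (by simp; omega)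
    have x1 : embM i (nu J x) * N = 0 := by
      rw [hN, embM_mul, nu_mul, hJ.swap, show (J *ᵥ u) ⬝ᵥ x = 0 from hx 0, neg_zero, zero_smul, embM_zero]
    have x2 : embM i (nu J x) * N' = 0 := by
      rw [hN', embM_mul, nu_mul, hJ.swap, show (J *ᵥ v) ⬝ᵥ x = 0 from hx 1, neg_zero, zero_smul, embM_zero]
    have s0 : s • (1 : Matrix (Ix τ m) (Ix τ m) F) = 0 := by
      refine eq_zero_of_embM_mul ((Cen.one i).smul s) (nu_ne_zero hJ hx0) ?_
      rw [← hs, mul_add]
      simp only [← mul_assoc, x1, x2, zero_mul, add_zero]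
    rw [smul_eq_zero, or_iff_left one_ne_zero] at s0
    rw [s0, zero_smul, neg_eq_zero, hN] at e3
    have hz : C' * C = 0 := eq_zero_of_embM_mul (hC'i.mul hCi) (nu_ne_zero hJ hu) e3
    have := congrArg ((pureM fun j => (g j)⁻¹) * ·) hz
    simpa [hC', ← mul_assoc, (pureM_mul_inv hJ hg).2] using this
  refine span_pure hJ fun g hg => ?_
  rw [← Function.update_eq_self i g, pureM_update_embM, mul_assoc, mul_assoc, hCi, ← mul_assoc, ← mul_assoc]
  have hg' : ∀ j, Sp J ((Function.update g i 1) j)⁻¹ := fun j => by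
    by_cases hj : j = i
    · subst hj; rw [Function.update_self, inv_one]; exact hJ.sp_one
    · rw [Function.update_of_ne hj]; exact (hJ.sp_inv (hg j)).2
  have := key _ hg' (by rw [Function.update_self, inv_one])
  rw [show (fun j => ((Function.update g i 1) j)⁻¹⁻¹) = Function.update g i 1 from funext fun j => by
    refine Matrix.nonsing_inv_nonsing_inv _ ?_
    by_cases hj : j = i
    · subst hj; simp
    · rw [Function.update_of_ne hj]; exact Ne.isUnit (hJ.sp_det (hg j))] at this
  rw [this, zero_mul]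

variable {M : Subgroup (GL (Ix τ m) F)}

/-- The system at the factor `i`. -/
theorem Hyp.sys (H : Hyp J M) (hS : SmallAll J M) (i : τ) :
    Pair.Sys (JJ J (Rest i)) J (M.map (TensorWreathU.two i).toMonoidHom) where
  toHyp := H.pair i
  small := SmallAll.pair H hS i
  levels := by
    by_cases hm : m = 2
    · exact (H.pair i).levels_two (by rw [Fintype.card_fin, hm])
    have hd : 3 ≤ m := by have := H.two_le; omega
    refine (H.pair i).scalarLevels (SmallAll.pair H hS i)
      (fun S => ∃ g : Rest i → Matrix (Fin m) (Fin m) F, (∀ j, Sp J (g j)) ∧ S = pureM g) ?_ ?_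
    · rintro _ ⟨g, hg, rfl⟩
      refine inM_two i ?_ (H.inM_pure (g := Function.update (extend i g) i 1) fun j => ?_)
      · rw [back_kron, ins_pureM]
      · by_cases hj : j = i
        · subst hj; rw [Function.update_self]; exact H.hJ.sp_one
        · rw [Function.update_of_ne hj, extend, dif_neg hj]; exact hg _
    · intro K hK hKS
      exact skew_zero H.hJ H.two hd hK fun g hg => hKS _ ⟨g, hg, rfl⟩

end CfsgLib.Classical.TensorWreathS
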