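import Cfsg.Agent.Lib.Classical.TensorWreathS.Spread
import Cfsg.Agent.Lib.Classical.TensorWreathS.AllMono
import Cfsg.Agent.Lib.Classical.TensorWreath.Main
import Cfsg.Agent.Lib.Classical.TensorSymp.Main
import Cfsg.Agent.Lib.Classical.SympStab

set_option autoImplicit false
set_option linter.unusedSectionVars false

/-!
The stabiliser in the symplectic group of a decomposition of the form into equal symplectic tensor factors is
maximal, in odd characteristic.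
-/

namespace CfsgLib.Classical.TensorWreathS

open Matrix CfsgLib.Classical.TensorWreath
open CfsgLib.Classical.TensorSymp (adj Sp AForm tv)
open scoped MatrixGroups Kronecker

variable {F : Type*} [Field F] [Fintype F]

theorem permM_mulVec_tnv {τ : Type} [Fintype τ] [DecidableEq τ] {m : ℕ} (σ : Equiv.Perm τ) (y : τ → Fin m → F) :
    permM F m σ *ᵥ tnv y = tnv fun j => y (σ.symm j) := by
  funext p
  rw [Matrix.mulVec, dotProduct, Fintype.sum_eq_single (p ∘ σ)]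
  · simp only [permM, Matrix.of_apply, if_true, one_mul, tnv, Function.comp_apply]
    exact Fintype.prod_equiv σ _ _ fun j => by simp
  · intro q hq
    simp [permM, hq]

/-- An isometry which is not monomial. -/
theorem exists_not_mono {τ : Type} [Fintype τ] [DecidableEq τ] {m : ℕ} [NeZero m] {J : Matrix (Fin m) (Fin m) F}
    (hJ : AForm J) (h2 : (2 : F) ≠ 0) (hodd : Odd (Fintype.card τ)) (ht : 2 ≤ Fintype.card τ) :
    ∃ g : GL (Ix τ m) F, Sp (JJ J τ) g.1 ∧ ¬ Mono g.1 := by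
  obtain ⟨e0, he0⟩ : ∃ e0 : Fin m → F, e0 ≠ 0 := ⟨Pi.single 0 1, by simp⟩
  obtain ⟨e1, h01⟩ := hJ.exists_form_ne he0
  have h10 : (J *ᵥ e1) ⬝ᵥ e0 = -1 := by rw [hJ.swap, h01]
  have hJJ := aform_JJ (τ := τ) hJ h2 hodd
  obtain ⟨x, hx⟩ : ∃ x, x = tnv (fun _ : τ => e0) := ⟨_, rfl⟩
  obtain ⟨y, hy⟩ : ∃ y, y = tnv (fun _ : τ => e1) := ⟨_, rfl⟩
  have hd := hJJ.sp_det (hJJ.sp_tv x 1)
  refine ⟨Matrix.GeneralLinearGroup.mkOfDetNeZero _ hd, hJJ.sp_tv x 1, ?_⟩
  rintro ⟨h, σ, hv⟩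
  have e1' : tv (JJ J τ) x 1 *ᵥ y = y + x := by
    rw [hJJ.tv_apply, hx, hy, pureM_mulVec_tnv, tnv_dot]
    simp [h01]
  have e2 : tv (JJ J τ) x 1 *ᵥ y = tnv fun j => h j *ᵥ e1 := by
    rw [show tv (JJ J τ) x 1 = pureM h * permM F m σ from hv, ← Matrix.mulVec_mulVec, hy, permM_mulVec_tnv,
      pureM_mulVec_tnv]
  obtain ⟨z, hz⟩ : ∃ z, z = fun j => h j *ᵥ e1 := ⟨_, rfl⟩
  rw [e1', ← hz] at e2
  obtain ⟨i⟩ : Nonempty τ := Fintype.card_pos_iff.1 (by omega)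
  obtain ⟨k, hk⟩ := Fintype.exists_ne_of_one_lt_card (show 1 < Fintype.card τ by omega) i
  have key : ∀ φ : τ → Fin m → F, ∏ j, φ j ⬝ᵥ e1 + ∏ j, φ j ⬝ᵥ e0 = ∏ j, φ j ⬝ᵥ z j := fun φ => by
    have := congrArg (tnv φ ⬝ᵥ ·) e2
    simpa [hx, hy, dotProduct_add, tnv_dot] using this
  have m1 := key (Function.update (fun _ => J *ᵥ e1) i (J *ᵥ e0))
  rw [Finset.prod_eq_zero (Finset.mem_univ k) (by rw [Function.update_of_ne hk, hJ.self]),
    Finset.prod_eq_zero (Finset.mem_univ i) (by rw [Function.update_self, hJ.self]), add_zero] at m1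
  obtain ⟨j, -, hj⟩ := Finset.prod_eq_zero_iff.1 m1.symm
  by_cases hji : j = i
  · subst hji
    rw [Function.update_self] at hj
    have m2 := key fun _ => J *ᵥ e0
    rw [Finset.prod_eq_zero (f := fun l => (J *ᵥ e0) ⬝ᵥ z l) (Finset.mem_univ j) hj] at m2
    simp only [h01, hJ.self, Finset.prod_const_one, Finset.prod_const] at m2
    rw [zero_pow (by rw [Finset.card_univ]; omega), add_zero] at m2
    exact one_ne_zero (α := F) (by simpa using m2)
  · rw [Function.update_of_ne hji] at hj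
    have m2 := key fun _ => J *ᵥ e1
    rw [Finset.prod_eq_zero (f := fun l => (J *ᵥ e1) ⬝ᵥ z l) (Finset.mem_univ j) hj] at m2
    simp only [h10, hJ.self, Finset.prod_const, Finset.card_univ] at m2
    rw [hodd.neg_one_pow, zero_pow (by omega), zero_add, neg_eq_zero] at m2
    exact one_ne_zero m2

/-- Maximality. -/
theorem isMaximalIn {n k t : ℕ} (hk : 2 ≤ k) (ht : 2 ≤ t) (hodd : Odd t) (h2 : (2 : F) ≠ 0)
    (hq : k = 2 → ∃ s : F, s ≠ 0 ∧ s * s ≠ 1) (e : (Fin n ⊕ Fin n) ≃ (Fin t → Fin k)) (P : GL (Fin n ⊕ Fin n) F)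
    {f₁ : (Fin k → F) → (Fin k → F) → F} (hf₁ : Cfsg.Geo.IsSymplecticForm f₁)
    (hT : Cfsg.Geo.IsTensorPowerFormStructure id (Cfsg.sympForm n F) f₁ e P) :
    Cfsg.Geo.IsMaximalIn (Cfsg.spGL n F) (Cfsg.Geo.tensorWreathSubgroup k t e P ⊓ Cfsg.spGL n F) := by
  classical
  haveI : NeZero k := ⟨by omega⟩
  obtain ⟨c, hc, hB⟩ := hT
  obtain ⟨J, hJd⟩ : ∃ J, J = Cfsg.Geo.gramMatrix f₁ := ⟨_, rfl⟩
  have hJ : AForm J := by
    have := TensorSymp.aform_gram hf₁ (one_ne_zero : (1 : F) ≠ 0)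
    rwa [one_smul, ← hJd] at this
  have hodd' : Odd (Fintype.card (Fin t)) := by simpa using hodd
  have hJJ := aform_JJ (τ := Fin t) hJ h2 hodd'
  obtain ⟨φ, hφ⟩ : ∃ φ : GL (Ix (Fin t) k) F ≃* GL (Fin n ⊕ Fin n) F,
      φ = (Cfsg.Geo.glReindex (F := F) e.symm).trans (MulAut.conj P) := ⟨_, rfl⟩
  obtain ⟨co, hco⟩ : ∃ co : (Ix (Fin t) k → F) →ₗ[F] (Fin n ⊕ Fin n → F),
      ∀ z, co z = P.1 *ᵥ (z ∘ e) :=
    ⟨(Matrix.mulVecLin P.1).comp (LinearMap.funLeft F F e), fun _ => rfl⟩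
  have hform : ∀ x y, Cfsg.sympForm n F (co x) (co y) = c * (x ⬝ᵥ JJ J (Fin t) *ᵥ y) := by
    intro x y
    rw [hco, hco, hB, dotProduct]
    congr 1
    refine Finset.sum_congr rfl fun a _ => ?_
    rw [Matrix.mulVec, dotProduct, Finset.mul_sum]
    refine Finset.sum_congr rfl fun b _ => ?_
    simp only [hJd, pureM_apply, id_eq]
    ring
  have hap : ∀ (g : GL (Ix (Fin t) k) F) z, (φ g).1 *ᵥ co z = co (g.1 *ᵥ z) := by
    intro g z
    rw [hφ, hco, hco]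
    show (P.1 * Matrix.submatrix g.1 e e * (P⁻¹ : GL (Fin n ⊕ Fin n) F).1) *ᵥ (P.1 *ᵥ _) = _
    rw [Matrix.mulVec_mulVec, Matrix.mul_assoc, Units.inv_mul, Matrix.mul_one, ← Matrix.mulVec_mulVec,
      Matrix.submatrix_mulVec_equiv, Function.comp_assoc, Equiv.self_comp_symm, Function.comp_id]
  have hsurj : ∀ v, ∃ z, co z = v := fun v => ⟨((P⁻¹ : GL (Fin n ⊕ Fin n) F).1 *ᵥ v) ∘ e.symm, by
    rw [hco, Function.comp_assoc, Equiv.symm_comp_self, Function.comp_id, Matrix.mulVec_mulVec,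
      Units.mul_inv, Matrix.one_mulVec]⟩
  have hiso : ∀ g, φ g ∈ Cfsg.spGL n F ↔ Sp (JJ J (Fin t)) g.1 := by
    intro g
    have key : ∀ x y, c * (x ⬝ᵥ (g.1ᵀ * JJ J (Fin t) * g.1) *ᵥ y) =
        Cfsg.sympForm n F ((φ g).1 *ᵥ co x) ((φ g).1 *ᵥ co y) := fun x y => by
      rw [hap, hap, hform, ← Matrix.mulVec_mulVec, ← Matrix.mulVec_mulVec, Matrix.dotProduct_mulVec x g.1ᵀ,
        Matrix.vecMul_transpose]
    constructor
    · intro hg
      refine TensorSymp.matrix_ext_dot fun x y => mul_left_cancel₀ hc ?_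
      rw [key, ← hform]
      exact hg _ _
    · intro hg u v
      obtain ⟨x, rfl⟩ := hsurj u
      obtain ⟨y, rfl⟩ := hsurj v
      show Cfsg.sympForm n F ((φ g).1 *ᵥ co x) ((φ g).1 *ᵥ co y) = _
      rw [← key, hg, hform]
  have hkr : ∀ g, φ g ∈ Cfsg.Geo.tensorWreathSubgroup k t e P ↔ Mono g.1 := by
    intro g
    constructor
    · rintro ⟨_, ⟨x, hx, rfl⟩, hx'⟩
      have : x = g := φ.injective (by rw [hφ]; rw [hφ] at hx'; exact hx')
      exact this ▸ TensorWreath.mem_standard_iff.1 hx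
    · intro h
      exact ⟨_, ⟨g, TensorWreath.mem_standard_iff.2 h, rfl⟩, by rw [hφ]; rfl⟩
  obtain ⟨x, hx1, hx2⟩ := exists_not_mono (τ := Fin t) hJ h2 hodd' (by simpa using ht)
  refine ⟨lt_of_le_of_ne inf_le_right fun hh => hx2 ((hkr x).1 ?_), fun L hL hL' => ?_⟩
  · have := (hiso x).2 hx1
    rw [← hh] at this
    exact this.1
  obtain ⟨M, hM⟩ : ∃ M, M = L.comap φ.toMonoidHom := ⟨_, rfl⟩
  have hin : ∀ {X : Matrix (Ix (Fin t) k) (Ix (Fin t) k) F}, Sp (JJ J (Fin t)) X → Mono X → InM M X :=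
    fun {X} h h' => ⟨Matrix.GeneralLinearGroup.mkOfDetNeZero X (hJJ.sp_det h), by
      rw [hM]; exact hL ⟨(hkr _).2 h', (hiso _).2 h⟩, rfl⟩
  have H : Hyp J M :=
    { hJ := hJ
      two := h2
      two_le := hk
      card_two := by simpa using ht
      le := fun g hg => (hiso g).1 (hL' (by rw [hM] at hg; exact hg))
      emb := fun i T hT => hin (sp_embM hJ hT i) (mono_pure _) }
  have hperm : ∀ σ : Equiv.Perm (Fin t), InM M (permM F k σ) := fun σ => hin (sp_permM σ) (mono_perm σ)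
  by_cases hS : SmallAll J M
  · refine Or.inl (le_antisymm (fun y hy => ?_) hL)
    obtain ⟨g, rfl⟩ := φ.surjective y
    exact ⟨(hkr g).2 (H.allMono hS hq (by rw [hM]; exact hy)), hL' hy⟩
  refine Or.inr (le_antisymm hL' fun y hy => ?_)
  have htop : L.comap ((Subgroup.subtype (Cfsg.spGL n F)).comp SympTrans.toSpGL) = ⊤ := by
    refine SympStab.eq_top_of_centres fun v d => ?_
    obtain ⟨z, rfl⟩ := hsurj v
    obtain ⟨g, hg, hg'⟩ := H.all_transvections hodd' hperm hS z (d * c)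
    show (SympTrans.toSpGL (SympTrans.T (co z) d) : GL (Fin n ⊕ Fin n) F) ∈ L
    suffices he : (SympTrans.toSpGL (SympTrans.T (co z) d) : GL (Fin n ⊕ Fin n) F) = φ g by
      rw [he]; rw [hM] at hg; exact hg
    refine Units.ext (Matrix.ext_iff_mulVec.2 fun u => ?_)
    obtain ⟨w, rfl⟩ := hsurj u
    rw [SympTrans.toSpGL_coe, hap]
    show SympTrans.app (SympTrans.T (co z) d) (co w) = _
    rw [SympTrans.app_T, hg', Matrix.add_mulVec, Matrix.one_mulVec, Matrix.smul_mulVec, Matrix.vecMulVec_mulVec,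
      op_smul_eq_smul, hform, map_add, map_smul, map_smul, smul_smul,
      dotProduct_comm (JJ J (Fin t) *ᵥ z) w, mul_assoc]
  obtain ⟨s, hs⟩ := SympTrans.toSpGL_surjective ⟨y, hy⟩
  have := (Subgroup.eq_top_iff' _).1 htop s
  simpa [hs] using this

end CfsgLib.Classical.TensorWreathS
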