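import Cfsg.Agent.Lib.Classical.TensorMixed.Rad

set_option autoImplicit false
set_option linter.unusedSectionVars false

/-!
Groups of isometries of a product of two forms which contain the isometries of the second factor.
The sign `ε` is that of the second factor.
-/

namespace CfsgLib.Classical.TensorWreathS.Pair

open Matrix CfsgLib.Classical.TensorMax
open CfsgLib.Classical.TensorMixed (Zm Np Tp tp_mulVec kr_kc_mul sp_of_form)
open CfsgLib.Classical.TensorSymp (adj Sp matrix_ext_dot kr_mul_apply kc_mul_apply eq_of_mul_kc_all)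
open scoped MatrixGroups Kronecker

variable {F : Type*} [Field F] {α β : Type} [Fintype α] [DecidableEq α] [Fintype β] [DecidableEq β]

/-- The setting. -/
structure Hyp (ε : F) (JA : Matrix α α F) (JB : Matrix β β F) (M : Subgroup (GL (α × β) F)) : Prop where
  two : (2 : F) ≠ 0
  sq : ε * ε = 1
  tA : ∃ δ : F, δ * δ = 1 ∧ JAᵀ = δ • JA
  tB : JBᵀ = ε • JB
  dA : JA.det ≠ 0
  dB : JB.det ≠ 0
  two_le : 2 ≤ Fintype.card α
  le : ∀ g ∈ M, g.1ᵀ * (JA ⊗ₖ JB) * g.1 = JA ⊗ₖ JB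
  twoB : 2 ≤ Fintype.card β
  right : ∀ T : Matrix β β F, Sp JB T → InM M ((1 : Matrix α α F) ⊗ₖ T)

variable {ε : F} {JA : Matrix α α F} {JB : Matrix β β F} {M : Subgroup (GL (α × β) F)}

namespace Hyp

variable (H : Hyp ε JA JB M)
include H

theorem nonempty_left : Nonempty α := Fintype.card_pos_iff.1 (by have := H.two_le; omega)

theorem nonempty_right : Nonempty β := Fintype.card_pos_iff.1 (by have := H.twoB; omega)

theorem iA : IsUnit JA.det := Ne.isUnit H.dA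

theorem iB : IsUnit JB.det := Ne.isUnit H.dB

theorem eps_ne : ε ≠ 0 := left_ne_zero_of_mul_eq_one H.sq

theorem vecMul_B (x : β → F) : x ᵥ* JB = ε • (JB *ᵥ x) := by
  rw [← Matrix.mulVec_transpose, H.tB, Matrix.smul_mulVec]

theorem swapB (x y : β → F) : (JB *ᵥ x) ⬝ᵥ y = ε * ((JB *ᵥ y) ⬝ᵥ x) := by
  rw [dotProduct_comm, Matrix.dotProduct_mulVec, H.vecMul_B, smul_dotProduct, smul_eq_mul]

theorem orth_comm {x y : β → F} (h : (JB *ᵥ x) ⬝ᵥ y = 0) : (JB *ᵥ y) ⬝ᵥ x = 0 := by rw [H.swapB, h, mul_zero]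

theorem surjB (l : β → F) : ∃ b, JB *ᵥ b = l :=
  ⟨JB⁻¹ *ᵥ l, by rw [Matrix.mulVec_mulVec, Matrix.mul_nonsing_inv JB H.iB, Matrix.one_mulVec]⟩

theorem mulVecB_eq_zero {x : β → F} (hx : JB *ᵥ x = 0) : x = 0 := by
  have := congrArg (JB⁻¹ *ᵥ ·) hx
  simpa [Matrix.mulVec_mulVec, Matrix.nonsing_inv_mul JB H.iB] using this

theorem mulVecB_ne {x : β → F} (hx : x ≠ 0) : JB *ᵥ x ≠ 0 := fun e => hx (H.mulVecB_eq_zero e)

theorem adj_add (E E' : Matrix α α F) : adj JA (E + E') = adj JA E + adj JA E' := by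
  rw [adj, adj, adj, Matrix.transpose_add, Matrix.mul_add, Matrix.add_mul]

theorem adj_sub (E E' : Matrix α α F) : adj JA (E - E') = adj JA E - adj JA E' := by
  rw [adj, adj, adj, Matrix.transpose_sub, Matrix.mul_sub, Matrix.sub_mul]

theorem adj_smul (c : F) (E : Matrix α α F) : adj JA (c • E) = c • adj JA E := by
  rw [adj, adj, Matrix.transpose_smul, Matrix.mul_smul, Matrix.smul_mul]

theorem adj_zero : adj JA (0 : Matrix α α F) = 0 := by
  rw [adj, Matrix.transpose_zero, Matrix.mul_zero, Matrix.zero_mul]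

theorem adj_one : adj JA (1 : Matrix α α F) = 1 := by
  rw [adj, Matrix.transpose_one, Matrix.mul_one, Matrix.nonsing_inv_mul JA H.iA]

theorem adj_mul (E E' : Matrix α α F) : adj JA (E * E') = adj JA E' * adj JA E := by
  simp only [adj, Matrix.transpose_mul, Matrix.mul_assoc, Matrix.mul_nonsing_inv_cancel_left JA _ H.iA]

theorem adj_adj (E : Matrix α α F) : adj JA (adj JA E) = E := by
  obtain ⟨δ, hδ, hA⟩ := H.tA
  have e1 : JA⁻¹ᵀ = δ • JA⁻¹ := by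
    rw [Matrix.transpose_nonsing_inv, hA]
    refine Matrix.inv_eq_right_inv ?_
    rw [Matrix.smul_mul, Matrix.mul_smul, smul_smul, Matrix.mul_nonsing_inv JA H.iA, hδ, one_smul]
  simp only [adj, Matrix.transpose_mul, Matrix.transpose_transpose, e1, hA, Matrix.mul_smul, Matrix.smul_mul,
    smul_smul, hδ, one_smul, ← Matrix.mul_assoc, Matrix.nonsing_inv_mul JA H.iA, Matrix.one_mul]
  simp only [Matrix.mul_assoc, Matrix.nonsing_inv_mul JA H.iA, Matrix.mul_one]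

theorem kc_transpose_mul (y : β → F) :
    (kc α y : Matrix (α × β) α F)ᵀ * (JA ⊗ₖ JB) = ε • (JA * kr α (JB *ᵥ y)) := by
  have e : (kc α y : Matrix (α × β) α F)ᵀ = kr α y := by
    ext i ⟨j, k⟩
    simp [kc_apply, kr_apply, eq_comm]
  rw [e, kr_mul_kron, H.vecMul_B, kr_smul, Matrix.mul_smul]

theorem det_form : IsUnit (JA ⊗ₖ JB).det := by
  rw [Matrix.det_kronecker]
  exact (H.iA.pow _).mul (H.iB.pow _)

theorem form_sign : ∃ s : F, s ≠ 0 ∧ (JA ⊗ₖ JB)ᵀ = s • (JA ⊗ₖ JB) := by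
  obtain ⟨δ, hδ, hA⟩ := H.tA
  refine ⟨δ * ε, mul_ne_zero (left_ne_zero_of_mul_eq_one hδ) H.eps_ne, ?_⟩
  rw [← Matrix.kroneckerMap_transpose, hA, H.tB, Matrix.smul_kronecker, Matrix.kronecker_smul, smul_smul]

theorem form_inv {g : GL (α × β) F} (hg : g ∈ M) : (JA ⊗ₖ JB) * (g⁻¹).1 = g.1ᵀ * (JA ⊗ₖ JB) := by
  conv_lhs => rw [← H.le g hg]
  rw [Matrix.mul_assoc _ g.1, g.mul_inv, Matrix.mul_one]

/-- The adjoint rule. -/
theorem adjoint {g : GL (α × β) F} (hg : g ∈ M) {y y' w : β → F} {E : Matrix α α F}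
    (h : g.1 * kc α y = kc α y' + kc α w * E) :
    kr α (JB *ᵥ y) * (g⁻¹).1 = kr α (JB *ᵥ y') + adj JA E * kr α (JB *ᵥ w) := by
  have e : JA * (kr α (JB *ᵥ y) * (g⁻¹).1) = JA * kr α (JB *ᵥ y') + Eᵀ * (JA * kr α (JB *ᵥ w)) := by
    refine smul_right_injective _ H.eps_ne ?_
    show ε • _ = ε • _
    rw [← Matrix.mul_assoc, ← Matrix.smul_mul, ← H.kc_transpose_mul, Matrix.mul_assoc, H.form_inv hg,
      ← Matrix.mul_assoc, ← Matrix.transpose_mul, h, Matrix.transpose_add, Matrix.add_mul, H.kc_transpose_mul,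
      Matrix.transpose_mul, Matrix.mul_assoc, H.kc_transpose_mul, smul_add, Matrix.mul_smul]
  have e2 := congrArg (fun X => JA⁻¹ * X) e
  simp only [Matrix.mul_add, ← Matrix.mul_assoc, Matrix.nonsing_inv_mul JA H.iA, Matrix.one_mul] at e2
  rw [e2, adj]

theorem adjoint_line {g : GL (α × β) F} (hg : g ∈ M) {y w : β → F} {E : Matrix α α F}
    (h : g.1 * kc α y = kc α w * E) : kr α (JB *ᵥ y) * (g⁻¹).1 = adj JA E * kr α (JB *ᵥ w) := by
  have := H.adjoint hg (y := y) (y' := 0) (w := w) (E := E) (by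
    rw [h, show (0 : β → F) = (0 : F) • w by rw [zero_smul], kc_smul, zero_smul, zero_add])
  rwa [Matrix.mulVec_zero, kr_zero, zero_add] at this

theorem adjoint_fix {g : GL (α × β) F} (hg : g ∈ M) {y : β → F} (h : g.1 * kc α y = kc α y) :
    kr α (JB *ᵥ y) * g.1 = kr α (JB *ᵥ y) := by
  have h1 := H.adjoint_line hg (y := y) (w := y) (E := 1) (by rw [h, Matrix.mul_one])
  rw [H.adj_one, Matrix.one_mul] at h1
  conv_lhs => rw [← h1]
  rw [Matrix.mul_assoc, g.inv_mul, Matrix.mul_one]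

/-- The converse of `adjoint_fix`. -/
theorem fix_of_kr {g : GL (α × β) F} (hg : g ∈ M) {y : β → F} (h : kr α (JB *ᵥ y) * g.1 = kr α (JB *ᵥ y)) :
    (g⁻¹).1 * kc α y = kc α y := by
  have e1 : (kc α y)ᵀ * (JA ⊗ₖ JB) * g.1 = (kc α y)ᵀ * (JA ⊗ₖ JB) := by
    rw [H.kc_transpose_mul, Matrix.smul_mul, Matrix.mul_assoc, h]
  obtain ⟨s, hs, hsk⟩ := H.form_sign
  have e2 := congrArg Matrix.transpose e1
  simp only [Matrix.transpose_mul, Matrix.transpose_transpose, hsk, Matrix.smul_mul, Matrix.mul_smul,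
    ← Matrix.mul_assoc] at e2
  replace e2 := smul_right_injective _ hs e2
  rw [← H.form_inv hg, Matrix.mul_assoc] at e2
  have e3 := congrArg ((JA ⊗ₖ JB)⁻¹ * ·) e2
  simpa only [← Matrix.mul_assoc, Matrix.nonsing_inv_mul _ H.det_form, Matrix.one_mul] using e3

theorem sp_one {γ : Type} [Fintype γ] [DecidableEq γ] (J : Matrix γ γ F) : Sp J (1 : Matrix γ γ F) := by
  show _ = _
  rw [Matrix.transpose_one, Matrix.one_mul, Matrix.mul_one]

theorem inM_right {T : Matrix β β F} (hT : Sp JB T) : InM M ((1 : Matrix α α F) ⊗ₖ T) :=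
  H.right T hT

theorem iso_left {S : Matrix α α F} {k : GL (α × β) F} (hk : k ∈ M) (h : k.1 = S ⊗ₖ (1 : Matrix β β F)) :
    Sp JA S := by
  have hg := H.le k hk
  rw [h, ← Matrix.kroneckerMap_transpose, ← Matrix.mul_kronecker_mul, ← Matrix.mul_kronecker_mul,
    Matrix.transpose_one, Matrix.one_mul, Matrix.mul_one] at hg
  haveI := H.nonempty_right
  exact TensorOrth.kron_right_cancel (fun e => H.dB (by rw [e, Matrix.det_zero])) hg

theorem iso_right {T : Matrix β β F} {k : GL (α × β) F} (hk : k ∈ M) (h : k.1 = (1 : Matrix α α F) ⊗ₖ T) :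
    Sp JB T := by
  have hg := H.le k hk
  rw [h, ← Matrix.kroneckerMap_transpose, ← Matrix.mul_kronecker_mul, ← Matrix.mul_kronecker_mul,
    Matrix.transpose_one, Matrix.one_mul, Matrix.mul_one] at hg
  haveI := H.nonempty_left
  exact TensorOrth.kron_left_cancel (fun e => H.dA (by rw [e, Matrix.det_zero])) hg

/-- An isotropic partner. -/
theorem exists_dual {w : β → F} (hw : (JB *ᵥ w) ⬝ᵥ w = 0) (hw0 : w ≠ 0) :
    ∃ z, (JB *ᵥ w) ⬝ᵥ z = 1 ∧ (JB *ᵥ z) ⬝ᵥ w = ε ∧ (JB *ᵥ z) ⬝ᵥ z = 0 := by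
  obtain ⟨z₀, hz₀⟩ := exists_dual_one (H.mulVecB_ne hw0)
  rw [dotProduct_comm] at hz₀
  have hz₀' : (JB *ᵥ z₀) ⬝ᵥ w = ε := by rw [H.swapB, hz₀, mul_one]
  obtain ⟨a, ha⟩ : ∃ a, a = (JB *ᵥ z₀) ⬝ᵥ z₀ := ⟨_, rfl⟩
  obtain ⟨z, hz⟩ : ∃ z, z = z₀ + (-a * (2 : F)⁻¹) • w := ⟨_, rfl⟩
  have h1 : (JB *ᵥ w) ⬝ᵥ z = 1 := by
    rw [hz, dotProduct_add, dotProduct_smul, hw, smul_zero, add_zero, hz₀]
  refine ⟨z, h1, by rw [H.swapB, h1, mul_one], ?_⟩
  have h2 : (2 : F) * 2⁻¹ = 1 := mul_inv_cancel₀ H.two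
  have ha' : a = ε * a := by
    have := H.swapB z₀ z₀
    rwa [← ha] at this
  rw [hz]
  simp only [Matrix.mulVec_add, Matrix.mulVec_smul, add_dotProduct, dotProduct_add, smul_dotProduct, dotProduct_smul,
    smul_eq_mul, hz₀, hz₀', hw, ← ha, mul_zero, add_zero]
  linear_combination (2 : F)⁻¹ * ha' - a * h2

/-- A non-orthogonal pair orthogonal to `w`. -/
theorem exists_perp_pair (h3 : 3 ≤ Fintype.card β) {w : β → F} (hw : (JB *ᵥ w) ⬝ᵥ w = 0) (hw0 : w ≠ 0) :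
    ∃ v v', (JB *ᵥ w) ⬝ᵥ v = 0 ∧ (JB *ᵥ w) ⬝ᵥ v' = 0 ∧ (JB *ᵥ v) ⬝ᵥ v' ≠ 0 := by
  obtain ⟨z, wz, -, -⟩ := H.exists_dual hw hw0
  obtain ⟨x, hx, hx'⟩ := exists_orth ![JB *ᵥ w, JB *ᵥ z] (by simp; omega)
  by_contra hc
  push Not at hc
  have h0 : (JB *ᵥ w) ⬝ᵥ x = 0 := hx' 0
  have hxz : (JB *ᵥ x) ⬝ᵥ z = 0 := H.orth_comm (hx' 1)
  refine hx (H.mulVecB_eq_zero (dotProduct_eq_zero _ fun y => ?_))
  have h1 := hc x (y - ((JB *ᵥ w) ⬝ᵥ y) • z) h0 (by
    rw [dotProduct_sub, dotProduct_smul, wz, smul_eq_mul, mul_one, sub_self])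
  rwa [dotProduct_sub, dotProduct_smul, hxz, smul_zero, sub_zero] at h1

/-- The translations are isometries. -/
theorem sp_tp {w p : β → F} (hw : (JB *ᵥ w) ⬝ᵥ w = 0) (hp : (JB *ᵥ w) ⬝ᵥ p = 0) :
    Sp JB (Tp ε JB w p (-((JB *ᵥ p) ⬝ᵥ p) * (2 : F)⁻¹)) := by
  refine sp_of_form fun x y => ?_
  have hh : (2 : F)⁻¹ * 2 = 1 := inv_mul_cancel₀ H.two
  have hpp : (JB *ᵥ p) ⬝ᵥ p = ε * ((JB *ᵥ p) ⬝ᵥ p) := H.swapB p p
  simp only [tp_mulVec, Matrix.mulVec_add, Matrix.mulVec_sub, Matrix.mulVec_smul, add_dotProduct, sub_dotProduct,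
    smul_dotProduct, dotProduct_add, dotProduct_sub, dotProduct_smul, smul_eq_mul, hw, hp, H.orth_comm hp,
    H.swapB x w, H.swapB x p, mul_zero, sub_zero, add_zero]
  linear_combination
    (2 : F)⁻¹ * ((JB *ᵥ w) ⬝ᵥ x) * ((JB *ᵥ w) ⬝ᵥ y) * hpp -
    ((JB *ᵥ p) ⬝ᵥ p) * ((JB *ᵥ w) ⬝ᵥ x) * ((JB *ᵥ w) ⬝ᵥ y) * hh -
    ((JB *ᵥ w) ⬝ᵥ x) * ((JB *ᵥ p) ⬝ᵥ y) * H.sq

theorem np_mul_kc (w r y : β → F) (E : Matrix α α F) : Np ε JA JB w r E * kc α y =
    ((JB *ᵥ r) ⬝ᵥ y) • (kc α w * E) - (ε * ((JB *ᵥ w) ⬝ᵥ y)) • (kc α r * adj JA E) := by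
  simp only [Np, Matrix.sub_mul, Matrix.smul_mul, Matrix.mul_assoc, kr_mul_kc, Matrix.mul_smul, Matrix.mul_one,
    smul_smul]

theorem zm_mul_kc (w y : β → F) (C : Matrix α α F) :
    Zm JB w C * kc α y = ((JB *ᵥ w) ⬝ᵥ y) • (kc α w * C) := by
  simp only [Zm, Matrix.mul_assoc, kr_mul_kc, Matrix.mul_smul, Matrix.mul_one]

theorem zm_add (w : β → F) (C C' : Matrix α α F) : (Zm JB w (C + C') : Matrix (α × β) (α × β) F) =
    Zm JB w C + Zm JB w C' := by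
  simp only [Zm, Matrix.mul_add, Matrix.add_mul]

theorem zm_smul (c : F) (w : β → F) (C : Matrix α α F) : (Zm JB w (c • C) : Matrix (α × β) (α × β) F) =
    c • Zm JB w C := by
  simp only [Zm, Matrix.mul_smul, Matrix.smul_mul]

theorem zm_smul_vec (c : F) (w : β → F) (C : Matrix α α F) : (Zm JB (c • w) C : Matrix (α × β) (α × β) F) =
    Zm JB w ((c * c) • C) := by
  simp only [Zm, Matrix.mulVec_smul, kc_smul, kr_smul, Matrix.mul_smul, Matrix.smul_mul, smul_smul]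

theorem zm_mul {w : β → F} (hw : (JB *ᵥ w) ⬝ᵥ w = 0) (C C' : Matrix α α F) :
    (Zm JB w C * Zm JB w C' : Matrix (α × β) (α × β) F) = 0 := by
  simp only [Zm, Matrix.mul_assoc, kr_kc_mul, hw, zero_smul, Matrix.mul_zero]

theorem zm_one (w : β → F) : (Zm JB w (1 : Matrix α α F) : Matrix (α × β) (α × β) F) =
    (1 : Matrix α α F) ⊗ₖ Matrix.vecMulVec w (JB *ᵥ w) := by
  rw [Zm, Matrix.mul_one, kc_mul_kr]

/-- The functional of the image. -/
theorem vecMul_image {T T' : Matrix β β F} (hT : Sp JB T) (e : T * T' = 1) (x : β → F) :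
    (JB *ᵥ x) ᵥ* T' = JB *ᵥ (T *ᵥ x) := by
  have h1 : (JB *ᵥ (T *ᵥ x)) ᵥ* T = JB *ᵥ x := by
    rw [← Matrix.mulVec_transpose, Matrix.mulVec_mulVec, Matrix.mulVec_mulVec, hT]
  rw [← h1, Matrix.vecMul_vecMul, e, Matrix.vecMul_one]

theorem sp_inv {γ : Type} [Fintype γ] [DecidableEq γ] {J T : Matrix γ γ F} (hd : J.det ≠ 0) (hT : Sp J T) :
    T * T⁻¹ = 1 ∧ T⁻¹ * T = 1 := by
  have hd' : T.det ≠ 0 := fun e => hd (by
    have := congrArg Matrix.det hT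
    rw [Matrix.det_mul, e, mul_zero] at this
    exact this.symm)
  exact ⟨Matrix.mul_nonsing_inv T (Ne.isUnit hd'), Matrix.nonsing_inv_mul T (Ne.isUnit hd')⟩

/-- The value at a point of a central element is skew for the sign. -/
theorem zm_adj {w : β → F} (hw : (JB *ᵥ w) ⬝ᵥ w = 0) (hw0 : w ≠ 0) {C : Matrix α α F}
    (h : InM M (1 + Zm JB w C)) : adj JA C = -(ε • C) := by
  obtain ⟨x, hx, hx'⟩ := h
  obtain ⟨z, wz, zw, -⟩ := H.exists_dual hw hw0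
  have h1 := H.adjoint hx (y := z) (y' := z) (w := w) (E := C)
    (by rw [hx', Matrix.add_mul, Matrix.one_mul, H.zm_mul_kc, wz, one_smul])
  have hi : (x⁻¹).1 = 1 - Zm JB w C := by
    refine (left_inv_eq_right_inv (a := x.1) x.inv_mul ?_)
    rw [hx', Matrix.mul_sub, Matrix.mul_one, Matrix.add_mul, Matrix.one_mul, H.zm_mul hw]
    abel
  rw [hi, Matrix.mul_sub, Matrix.mul_one, Zm, Matrix.mul_assoc (kc α w), kr_kc_mul, zw, sub_eq_add_neg] at h1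
  have h2 := (add_left_cancel h1).symm
  refine kr_cancel (H.mulVecB_ne hw0) ?_
  rw [h2, Matrix.neg_mul, Matrix.smul_mul]

end Hyp

end CfsgLib.Classical.TensorWreathS.Pair
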