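import Cfsg.Agent.Lib.Classical.TensorWreathS.PairBase

set_option autoImplicit false
set_option linter.unusedSectionVars false

/-!
The elements fixing a subspace `F^α ⊗ w` pointwise and its orthogonal modulo it, and their commutators with
the translations of the second factor.
-/

namespace CfsgLib.Classical.TensorWreathS.Pair

open Matrix CfsgLib.Classical.TensorMax
open CfsgLib.Classical.TensorMixed (Zm Np Tp tp_mulVec kr_kc_mul sp_of_form Rad Small ScalarLevels)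
open CfsgLib.Classical.TensorSymp (adj Sp kr_mul_apply kc_mul_apply eq_of_mul_kc_all)
open scoped MatrixGroups Kronecker

variable {F : Type*} [Field F] [Finite F] {α β : Type} [Fintype α] [DecidableEq α] [Fintype β] [DecidableEq β]

variable {ε : F} {JA : Matrix α α F} {JB : Matrix β β F} {M : Subgroup (GL (α × β) F)}

namespace Hyp

variable (H : Hyp ε JA JB M)
include H

/-- A block with all contractions orthogonal to `w` zero lies over `w`. -/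
theorem split_kc {w θ : β → F} (hθ : θ ⬝ᵥ w = 1) {X : Matrix (α × β) α F}
    (h : ∀ a : β → F, (JB *ᵥ w) ⬝ᵥ a = 0 → kr α (JB *ᵥ a) * X = 0) : X = kc α w * (kr α θ * X) := by
  ext ⟨i, k⟩ j
  set φ : β → F := Pi.single k 1 - w k • θ with hφ
  obtain ⟨a, ha⟩ := H.surjB φ
  have h0 := h a (by
    rw [H.swapB, ha, hφ, sub_dotProduct, smul_dotProduct, hθ, single_dotProduct, one_mul, smul_eq_mul, mul_one,
      sub_self, mul_zero])
  rw [ha, hφ, kr_sub, kr_smul, Matrix.sub_mul, Matrix.smul_mul, sub_eq_zero] at h0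
  have h1 := congrFun₂ h0 i j
  rw [kr_mul_apply, single_dotProduct, one_mul, Matrix.smul_apply, smul_eq_mul] at h1
  rw [h1, kc_mul_apply]

theorem rad_mk {w z : β → F} (hz : (JB *ᵥ w) ⬝ᵥ z = 1) {h : GL (α × β) F} (hh : h ∈ M)
    (hfix : h.1 * kc α w = kc α w)
    (hlev : ∀ y, (JB *ᵥ w) ⬝ᵥ y = 0 → ∃ E : Matrix α α F, h.1 * kc α y = kc α y + kc α w * E) :
    Rad JB M w h := by
  refine ⟨hh, hfix, fun Y hY => ?_⟩
  choose E hE using fun k => hlev (Pi.single k 1 - (JB *ᵥ w) k • z) (by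
    rw [dotProduct_sub, dotProduct_smul, hz, dotProduct_single, mul_one, smul_eq_mul, mul_one, sub_self])
  let R : β → Matrix α α F := fun k => kr α (Pi.single k (1 : F) : β → F) * Y
  have hdec : Y = ∑ k, kc α (Pi.single k 1 - (JB *ᵥ w) k • z) * R k := by
    ext ⟨i, l⟩ j
    have h0 := congrFun₂ hY i j
    rw [kr_mul_apply, Matrix.zero_apply, dotProduct] at h0
    rw [Matrix.sum_apply]
    simp only [kc_mul_apply, R, kr_mul_apply, single_dotProduct, one_mul, Pi.sub_apply, Pi.smul_apply, smul_eq_mul,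
      sub_mul, Finset.sum_sub_distrib]
    have e : ∑ k, (JB *ᵥ w) k * z l * Y (i, k) j = z l * ∑ k, (JB *ᵥ w) k * Y (i, k) j := by
      rw [Finset.mul_sum]
      exact Finset.sum_congr rfl fun k _ => by ring
    rw [e, h0, mul_zero, sub_zero, Finset.sum_eq_single l]
    · simp
    · intro k _ hk; simp [Pi.single_eq_of_ne (Ne.symm hk)]
    · simp
  refine ⟨∑ k, E k * R k, ?_⟩
  conv_lhs => rw [hdec, Matrix.mul_sum]
  rw [Matrix.mul_sum]
  conv_rhs => rw [hdec, ← Finset.sum_add_distrib]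
  refine Finset.sum_congr rfl fun k _ => ?_
  rw [← Matrix.mul_assoc, hE, Matrix.add_mul, Matrix.mul_assoc]

theorem rad_inv_apply {w : β → F} {g : GL (α × β) F} (hg : Rad JB M w g) {Y : Matrix (α × β) α F}
    {E : Matrix α α F} (h1 : g.1 * Y = Y + kc α w * E) : (g⁻¹).1 * Y = Y + kc α w * (-E) := by
  have : (g⁻¹).1 * (g.1 * Y) = Y := by rw [← Matrix.mul_assoc, g.inv_mul, Matrix.one_mul]
  rw [h1, Matrix.mul_add, ← Matrix.mul_assoc (g⁻¹).1 (kc α w)] at this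
  have e : (g⁻¹).1 * kc α w = kc α w := by
    conv_lhs => rw [← hg.2.1]
    rw [← Matrix.mul_assoc, g.inv_mul, Matrix.one_mul]
  rw [e] at this
  rw [Matrix.mul_neg, ← sub_eq_add_neg, eq_sub_iff_add_eq, this]

theorem rad_inv {w : β → F} {g : GL (α × β) F} (hg : Rad JB M w g) : Rad JB M w g⁻¹ := by
  refine ⟨M.inv_mem hg.1, ?_, fun Y hY => ?_⟩
  · conv_lhs => rw [← hg.2.1]
    rw [← Matrix.mul_assoc, g.inv_mul, Matrix.one_mul]
  · obtain ⟨E, hE⟩ := hg.2.2 Y hY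
    exact ⟨_, H.rad_inv_apply hg hE⟩

theorem rad_mul_apply {w : β → F} {g h : GL (α × β) F} (hg : Rad JB M w g) {Y : Matrix (α × β) α F}
    {E E' : Matrix α α F} (h1 : g.1 * Y = Y + kc α w * E) (h2 : h.1 * Y = Y + kc α w * E') :
    (g * h).1 * Y = Y + kc α w * (E + E') := by
  rw [Units.val_mul, Matrix.mul_assoc, h2, Matrix.mul_add, h1, ← Matrix.mul_assoc g.1, hg.2.1, Matrix.mul_add]
  abel

theorem rad_mul {w : β → F} {g h : GL (α × β) F} (hg : Rad JB M w g) (hh : Rad JB M w h) : Rad JB M w (g * h) := by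
  refine ⟨M.mul_mem hg.1 hh.1, by rw [Units.val_mul, Matrix.mul_assoc, hh.2.1, hg.2.1], fun Y hY => ?_⟩
  obtain ⟨E, hE⟩ := hg.2.2 Y hY
  obtain ⟨E', hE'⟩ := hh.2.2 Y hY
  exact ⟨_, H.rad_mul_apply hg hE hE'⟩

theorem rad_conj {w : β → F} (hw0 : w ≠ 0) {g h : GL (α × β) F} (hh : Rad JB M w h) (hg : g ∈ M)
    {A A' : Matrix α α F} (hA : g.1 * kc α w = kc α w * A) (hA' : (g⁻¹).1 * kc α w = kc α w * A') :
    Rad JB M w (g * h * g⁻¹) := by
  have hAA : A * A' = 1 := by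
    have e : g.1 * ((g⁻¹).1 * kc α w) = kc α w := by rw [← Matrix.mul_assoc, g.mul_inv, Matrix.one_mul]
    rw [hA', ← Matrix.mul_assoc, hA, Matrix.mul_assoc] at e
    exact kc_cancel hw0 (by rw [e, Matrix.mul_one])
  refine ⟨M.mul_mem (M.mul_mem hg hh.1) (M.inv_mem hg), ?_, fun Y hY => ?_⟩
  · rw [Units.val_mul, Units.val_mul, Matrix.mul_assoc, hA', Matrix.mul_assoc, ← Matrix.mul_assoc h.1, hh.2.1,
      ← Matrix.mul_assoc, hA, Matrix.mul_assoc, hAA, Matrix.mul_one]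
  · obtain ⟨E, hE⟩ := hh.2.2 ((g⁻¹).1 * Y) (by
      rw [← Matrix.mul_assoc, H.adjoint_line hg hA, Matrix.mul_assoc, hY, Matrix.mul_zero])
    refine ⟨A * E, ?_⟩
    rw [Units.val_mul, Units.val_mul, Matrix.mul_assoc, Matrix.mul_assoc, hE, Matrix.mul_add, ← Matrix.mul_assoc,
      g.mul_inv, Matrix.one_mul, ← Matrix.mul_assoc, hA, Matrix.mul_assoc]

/-- An element with a single level. -/
theorem rad_eq {w r : β → F} (hw : (JB *ᵥ w) ⬝ᵥ w = 0) (hw0 : w ≠ 0) (hr : (JB *ᵥ w) ⬝ᵥ r = 0)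
    {h : GL (α × β) F} (hh : Rad JB M w h) {E : Matrix α α F}
    (hlev : ∀ y, (JB *ᵥ w) ⬝ᵥ y = 0 → h.1 * kc α y = kc α y + ((JB *ᵥ r) ⬝ᵥ y) • (kc α w * E)) :
    ∃ C : Matrix α α F, h.1 = 1 + (Np ε JA JB w r E + Zm JB w C) := by
  obtain ⟨z, wz, zw, -⟩ := H.exists_dual hw hw0
  obtain ⟨θ, hθ⟩ := exists_dual_one hw0
  have hker : ∀ a, (JB *ᵥ w) ⬝ᵥ a = 0 →
      kr α (JB *ᵥ a) * (h.1 * kc α z - kc α z - Np ε JA JB w r E * kc α z) = 0 := by
    intro a ha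
    have h1 := H.adjoint hh.1 (y := a) (y' := a) (w := w) (E := ((JB *ᵥ r) ⬝ᵥ a) • E)
      (by rw [hlev a ha, Matrix.mul_smul])
    have h2 : kr α (JB *ᵥ a) * h.1 = kr α (JB *ᵥ a) - ((JB *ᵥ r) ⬝ᵥ a) • (adj JA E * kr α (JB *ᵥ w)) := by
      have := congrArg (· * h.1) h1
      simp only [Matrix.mul_assoc, h.inv_mul, Matrix.mul_one, Matrix.add_mul, H.adjoint_fix hh.1 hh.2.1,
        H.adj_smul, Matrix.smul_mul] at this
      rw [eq_sub_iff_add_eq]
      exact this.symm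
    rw [Matrix.mul_sub, Matrix.mul_sub, ← Matrix.mul_assoc, h2, Matrix.sub_mul, H.np_mul_kc, wz]
    simp only [Matrix.mul_sub, Matrix.mul_smul, Matrix.smul_mul, Matrix.mul_assoc, kr_mul_kc, kr_kc_mul,
      H.orth_comm ha, wz, H.swapB r a, zero_smul, smul_zero, one_smul, Matrix.mul_one, mul_one, smul_smul, zero_sub]
    module
  have hsplit := H.split_kc hθ hker
  set C := kr α θ * (h.1 * kc α z - kc α z - Np ε JA JB w r E * kc α z) with hC
  have hz : h.1 * kc α z = kc α z + (Np ε JA JB w r E * kc α z + kc α w * C) := by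
    rw [← hsplit]; abel
  refine ⟨C, eq_of_mul_kc_all fun y => ?_⟩
  set p := (JB *ᵥ w) ⬝ᵥ y with hpd
  obtain ⟨y0, hy0⟩ : ∃ y0, y0 = y - p • z := ⟨_, rfl⟩
  have hy : kc α y = kc α y0 + p • kc α z := by rw [← kc_smul, ← kc_add, hy0, sub_add_cancel]
  have h0 : (JB *ᵥ w) ⬝ᵥ y0 = 0 := by
    rw [hy0, dotProduct_sub, dotProduct_smul, wz, smul_eq_mul, mul_one, sub_self]
  rw [hy, Matrix.mul_add, Matrix.mul_smul, hlev y0 h0, hz, Matrix.mul_add, Matrix.mul_smul]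
  simp only [Matrix.add_mul, Matrix.one_mul, H.np_mul_kc, H.zm_mul_kc, h0, wz, zero_smul, mul_zero, one_smul,
    sub_zero]
  module

/-- An element with zero levels is central. -/
theorem rad_zero {w : β → F} (hw : (JB *ᵥ w) ⬝ᵥ w = 0) (hw0 : w ≠ 0) {h : GL (α × β) F} (hh : Rad JB M w h)
    (hlev : ∀ y, (JB *ᵥ w) ⬝ᵥ y = 0 → h.1 * kc α y = kc α y) :
    ∃ C : Matrix α α F, h.1 = 1 + Zm JB w C := by
  obtain ⟨C, hC⟩ := H.rad_eq hw hw0 hw hh (E := 0) fun y hy => by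
    rw [hlev y hy, Matrix.mul_zero, smul_zero, add_zero]
  refine ⟨C, ?_⟩
  rw [hC, show Np ε JA JB w w (0 : Matrix α α F) = 0 by simp [Np, H.adj_zero], zero_add]

theorem inM_tp {w p : β → F} (hw : (JB *ᵥ w) ⬝ᵥ w = 0) (hp : (JB *ᵥ w) ⬝ᵥ p = 0) :
    ∃ t ∈ M, (∃ T : Matrix β β F, t.1 = (1 : Matrix α α F) ⊗ₖ T) ∧ ∀ y : β → F, t.1 * kc α y = kc α y +
      ((JB *ᵥ w) ⬝ᵥ y) • kc α p + (-ε * ((JB *ᵥ p) ⬝ᵥ y) +
        -((JB *ᵥ p) ⬝ᵥ p) * (2 : F)⁻¹ * ((JB *ᵥ w) ⬝ᵥ y)) • kc α w := by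
  obtain ⟨t, ht, ht'⟩ := H.inM_right (H.sp_tp hw hp)
  refine ⟨t, ht, ⟨_, ht'⟩, fun y => ?_⟩
  rw [ht', kron_mul_kc, Matrix.mul_one, tp_mulVec, sub_eq_add_neg, ← neg_smul, kc_add, kc_add, kc_add, kc_smul,
    kc_smul, kc_smul]
  module

/-- The commutator with a translation. -/
theorem rad_comm {w : β → F} (hw : (JB *ᵥ w) ⬝ᵥ w = 0) (hw0 : w ≠ 0) {h : GL (α × β) F} (hh : Rad JB M w h)
    {p : β → F} (hp : (JB *ᵥ w) ⬝ᵥ p = 0) {E : Matrix α α F} (he : h.1 * kc α p = kc α p + kc α w * E) :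
    InM M (1 + Zm JB w (E - ε • adj JA E)) := by
  obtain ⟨t, htM, -, ht⟩ := H.inM_tp hw hp
  obtain ⟨z, wz, zw, -⟩ := H.exists_dual hw hw0
  have tfix : t.1 * kc α w = kc α w := by
    rw [ht, hw, H.orth_comm hp]; simp
  have tlev : ∀ y, (JB *ᵥ w) ⬝ᵥ y = 0 →
      t.1 * kc α y = kc α y + kc α w * ((-ε * ((JB *ᵥ p) ⬝ᵥ y)) • (1 : Matrix α α F)) := fun y hy => by
    rw [ht, hy, Matrix.mul_smul, Matrix.mul_one]; simp
  have trad : Rad JB M w t := H.rad_mk wz htM tfix fun y hy => ⟨_, tlev y hy⟩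
  obtain ⟨Y, hY⟩ : ∃ Y, Y = h.1 * kc α z - kc α z := ⟨_, rfl⟩
  have hYw : kr α (JB *ᵥ w) * Y = 0 := by
    rw [hY, Matrix.mul_sub, ← Matrix.mul_assoc, H.adjoint_fix hh.1 hh.2.1, sub_self]
  have hYp : kr α (JB *ᵥ p) * Y = -adj JA E := by
    have h1 := congrArg (· * h.1 * kc α z) (H.adjoint hh.1 he)
    simp only [Matrix.mul_assoc, ← Matrix.mul_assoc (h⁻¹).1, h.inv_mul, Matrix.one_mul, Matrix.add_mul] at h1
    rw [← Matrix.mul_assoc (kr α (JB *ᵥ w)), H.adjoint_fix hh.1 hh.2.1, kr_mul_kc, kr_mul_kc, wz, one_smul, Matrix.mul_one]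
      at h1
    rw [hY, Matrix.mul_sub, kr_mul_kc]
    linear_combination (norm := abel) -h1
  have htY : t.1 * Y = Y + kc α w * (-(ε • kr α (JB *ᵥ p) * Y)) := by
    refine eq_of_sub_eq_zero ?_
    obtain ⟨T, hT⟩ : ∃ T, T = t.1 := ⟨_, rfl⟩
    have key : t.1 = 1 + kc α p * kr α (JB *ᵥ w) - ε • (kc α w * kr α (JB *ᵥ p)) +
        (-((JB *ᵥ p) ⬝ᵥ p) * (2 : F)⁻¹) • (kc α w * kr α (JB *ᵥ w)) := by
      refine eq_of_mul_kc_all fun y => ?_
      simp only [ht, Matrix.add_mul, Matrix.sub_mul, Matrix.one_mul, Matrix.smul_mul, Matrix.mul_assoc, kr_mul_kc,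
        Matrix.mul_smul, Matrix.mul_one]
      module
    simp only [key, Matrix.add_mul, Matrix.sub_mul, Matrix.one_mul, Matrix.smul_mul, Matrix.mul_assoc, hYw,
      Matrix.mul_zero, smul_zero, Matrix.mul_neg, Matrix.mul_smul]
    abel
  have hz1 : (h * t).1 * kc α z = (t * h).1 * kc α z + kc α w * (E - ε • adj JA E) := by
    rw [Units.val_mul, Units.val_mul, Matrix.mul_assoc, Matrix.mul_assoc, show h.1 * kc α z = kc α z + Y by
      rw [hY]; abel, Matrix.mul_add t.1, htY, ht z, wz, Matrix.mul_add, Matrix.mul_add, Matrix.mul_smul,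
      Matrix.mul_smul, he, hh.2.1, show h.1 * kc α z = kc α z + Y by rw [hY]; abel, Matrix.smul_mul, hYp]
    simp only [one_smul, Matrix.mul_sub, Matrix.mul_neg, Matrix.mul_smul, smul_neg, neg_neg]
    abel
  have hperp : ∀ y, (JB *ᵥ w) ⬝ᵥ y = 0 → (h * t).1 * kc α y = (t * h).1 * kc α y := by
    intro y hy
    obtain ⟨Ey, hEy⟩ := hh.2.2 (kc α y) (by rw [kr_mul_kc, hy, zero_smul])
    rw [H.rad_mul_apply hh hEy (tlev y hy), H.rad_mul_apply trad (tlev y hy) hEy, add_comm Ey]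
  refine ⟨h * t * (t * h)⁻¹, M.mul_mem (M.mul_mem hh.1 htM) (M.inv_mem (M.mul_mem htM hh.1)), ?_⟩
  obtain ⟨D, hD⟩ : ∃ D, D = 1 + Zm JB w (E - ε • adj JA E) := ⟨_, rfl⟩
  rw [← hD]
  have hfix : (t * h).1 * kc α w = kc α w := (H.rad_mul trad hh).2.1
  have e : (h * t).1 = D * (t * h).1 := by
    refine eq_of_mul_kc_all fun y => ?_
    have hth : kr α (JB *ᵥ w) * (t * h).1 = kr α (JB *ᵥ w) := H.adjoint_fix (M.mul_mem htM hh.1) hfix
    rw [hD, Matrix.add_mul, Matrix.one_mul, Matrix.add_mul, Zm, Matrix.mul_assoc _ _ (t * h).1, hth,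
      Matrix.mul_assoc _ _ (kc α y), kr_mul_kc, Matrix.mul_smul, Matrix.mul_one]
    set c := (JB *ᵥ w) ⬝ᵥ y with hc
    obtain ⟨y0, hy0⟩ : ∃ y0, y0 = y - c • z := ⟨_, rfl⟩
    have hy : kc α y = kc α y0 + c • kc α z := by rw [← kc_smul, ← kc_add, hy0, sub_add_cancel]
    rw [hy, Matrix.mul_add, Matrix.mul_smul, hz1, Matrix.mul_add, Matrix.mul_smul, hperp y0 (by
      rw [hy0, dotProduct_sub, dotProduct_smul, wz, smul_eq_mul, mul_one, sub_self]), smul_add]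
    abel
  rw [Units.val_mul, e, Matrix.mul_assoc, Units.mul_inv, Matrix.mul_one]

end Hyp

end CfsgLib.Classical.TensorWreathS.Pair
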