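import Cfsg.Agent.Lib.Classical.TensorWreathS.PairTens
import Cfsg.Agent.Lib.Classical.TensorWreath.Quad

set_option autoImplicit false
set_option linter.unusedSectionVars false

/-!
Quadratic elements of small rank and their contractions: a nilpotent contraction is zero.
-/

namespace CfsgLib.Classical.TensorWreathS.Pair

open Matrix CfsgLib.Classical.TensorMax
open CfsgLib.Classical.TensorMixed (Zm Np Tp tp_mulVec kr_kc_mul sp_of_form Rad Small ScalarLevels)
open CfsgLib.Classical.TensorSymp (adj Sp kr_mul_apply kc_mul_apply eq_of_mul_kc_all AForm)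
open scoped MatrixGroups Kronecker

variable {F : Type*} [Field F] [Finite F] {α β : Type} [Fintype α] [DecidableEq α] [Fintype β] [DecidableEq β]

/-- The contraction of `Y` at `w`. -/
def contr (JB : Matrix β β F) (w : β → F) (Y : Matrix (α × β) (α × β) F) : Matrix α α F :=
  kr α (JB *ᵥ w) * Y * kc α w

/-- The block of `Y` between `v` and `u`. -/
def co (JB : Matrix β β F) (Y : Matrix (α × β) (α × β) F) (v u : β → F) : Matrix α α F :=
  kr α (JB *ᵥ v) * Y * kc α u

/-- A quadratic element of small rank, with all its multiples in `M`. -/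
structure Root (M : Subgroup (GL (α × β) F)) (Y : Matrix (α × β) (α × β) F) : Prop where
  sq : Y * Y = 0
  mem : ∀ c : F, InM M (1 + c • Y)
  rank : Y.rank ≤ Fintype.card α

variable {JA : Matrix α α F} {JB : Matrix β β F} {M : Subgroup (GL (α × β) F)}
variable {Y : Matrix (α × β) (α × β) F}

theorem eq_zero_of_kr {γ : Type} [Fintype γ] {Z : Matrix (α × β) γ F} (h : ∀ φ : β → F, kr α φ * Z = 0) : Z = 0 := by
  ext ⟨a, k⟩ j
  have := congrFun₂ (h (Pi.single k 1)) a j
  rw [Matrix.mul_apply, Fintype.sum_prod_type, Fintype.sum_eq_single a (fun b hb => by simp [kr_apply, Ne.symm hb])]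
    at this
  simpa [kr_apply, Pi.single_apply, ite_mul] using this

theorem Root.conj (h : Root M Y) {g : GL (α × β) F} (hg : g ∈ M) : Root M (g.1 * Y * (g⁻¹).1) where
  sq := by
    calc g.1 * Y * (g⁻¹).1 * (g.1 * Y * (g⁻¹).1) = g.1 * Y * ((g⁻¹).1 * g.1) * Y * (g⁻¹).1 := by
          simp only [Matrix.mul_assoc]
      _ = g.1 * (Y * Y) * (g⁻¹).1 := by rw [g.inv_mul, Matrix.mul_one]; simp only [Matrix.mul_assoc]
      _ = 0 := by rw [h.sq, Matrix.mul_zero, Matrix.zero_mul]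
  mem c := by
    obtain ⟨x, hx, hx'⟩ := h.mem c
    refine ⟨g * x * g⁻¹, M.mul_mem (M.mul_mem hg hx) (M.inv_mem hg), ?_⟩
    rw [Units.val_mul, Units.val_mul, hx', Matrix.mul_add, Matrix.mul_one, Matrix.add_mul, g.mul_inv,
      Matrix.mul_smul, Matrix.smul_mul]
  rank := ((Matrix.rank_mul_le_left _ _).trans (Matrix.rank_mul_le_right _ _)).trans h.rank

theorem Root.neg (h : Root M Y) : Root M (-Y) where
  sq := by rw [Matrix.neg_mul, Matrix.mul_neg, neg_neg, h.sq]
  mem c := by rw [smul_neg, ← neg_smul]; exact h.mem (-c)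
  rank := by
    rw [show -Y = (-1 : F) • Y by rw [neg_one_smul],
      Matrix.rank_smul_of_mem_nonZeroDivisors _ (mem_nonZeroDivisors_of_ne_zero (neg_ne_zero.2 one_ne_zero))]
    exact h.rank

theorem Root.exists_unit (h : Root M Y) : ∃ y : GL (α × β) F, y ∈ M ∧ y.1 = 1 + Y ∧ (y⁻¹).1 = 1 - Y := by
  obtain ⟨y, hy, hy'⟩ := h.mem 1
  rw [one_smul] at hy'
  refine ⟨y, hy, hy', left_inv_eq_right_inv (a := y.1) y.inv_mul ?_⟩
  rw [hy', Matrix.mul_sub, Matrix.mul_one, Matrix.add_mul, Matrix.one_mul, h.sq]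
  abel

namespace Hyp

variable (H : Hyp (-1 : F) JA JB M)
include H

theorem selfZm (w : β → F) (C C' : Matrix α α F) : (Zm JB w C * Zm JB w C' : Matrix (α × β) (α × β) F) = 0 :=
  H.zm_mul (H.selfB w) C C'

theorem zm_sandwich (w : β → F) (Z : Matrix (α × β) (α × β) F) :
    Zm JB w (1 : Matrix α α F) * Z * Zm JB w 1 = Zm JB w (contr JB w Z) := by
  simp only [Zm, contr, Matrix.mul_one, Matrix.mul_assoc]

theorem zm_kc (w : β → F) (C : Matrix α α F) : Zm JB w C * kc α w = 0 := by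
  rw [H.zm_mul_kc, H.selfB, zero_smul]

/-- The roots of the second factor. -/
theorem root_zm (w : β → F) : Root M (Zm JB w (1 : Matrix α α F)) where
  sq := H.selfZm w _ _
  mem c := by
    obtain ⟨t, ht, ht'⟩ := H.right _ (H.aB.sp_tv w c)
    refine ⟨t, ht, ?_⟩
    rw [ht', TensorSymp.tv, H.zm_one, Matrix.smul_vecMulVec, Matrix.kronecker_add, Matrix.one_kronecker_one,
      Matrix.kronecker_smul]
  rank := by
    rw [Zm, Matrix.mul_one]
    exact (Matrix.rank_mul_le_left _ _).trans (Matrix.rank_le_card_width _)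

theorem co_mul_inv {g : GL (α × β) F} (hg : g ∈ M) (v u : β → F) : adj JA (co JB g.1 v u) = -co JB (g⁻¹).1 u v := by
  obtain ⟨δ, hδ, hA⟩ := H.tA
  have hsk : (JA ⊗ₖ JB)ᵀ = (-δ) • (JA ⊗ₖ JB) := by
    rw [← Matrix.kroneckerMap_transpose, hA, H.tB, Matrix.smul_kronecker, Matrix.kronecker_smul, smul_smul,
      mul_neg, mul_one]
  have e1 : (kc α v : Matrix (α × β) α F)ᵀ * (JA ⊗ₖ JB) * (g.1 * kc α u) = -(JA * co JB g.1 v u) := by
    rw [H.kc_transpose_mul, neg_one_smul, Matrix.neg_mul, co]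
    simp only [Matrix.mul_assoc]
  have e2 : (kc α u : Matrix (α × β) α F)ᵀ * (JA ⊗ₖ JB) * ((g⁻¹).1 * kc α v) = -(JA * co JB (g⁻¹).1 u v) := by
    rw [H.kc_transpose_mul, neg_one_smul, Matrix.neg_mul, co]
    simp only [Matrix.mul_assoc]
  have e3 : ((kc α v : Matrix (α × β) α F)ᵀ * (JA ⊗ₖ JB) * (g.1 * kc α u))ᵀ =
      (-δ) • ((kc α u : Matrix (α × β) α F)ᵀ * (JA ⊗ₖ JB) * ((g⁻¹).1 * kc α v)) := by
    simp only [Matrix.transpose_mul, Matrix.transpose_transpose, hsk, Matrix.mul_assoc]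
    rw [← Matrix.mul_assoc (JA ⊗ₖ JB) (g⁻¹).1, H.form_inv hg]
    simp only [Matrix.smul_mul, Matrix.mul_smul, Matrix.mul_assoc]
  rw [e1, e2, Matrix.transpose_neg, Matrix.transpose_mul, hA, Matrix.mul_smul, ← neg_smul, smul_neg] at e3
  have e4 : (co JB g.1 v u)ᵀ * JA = -(JA * co JB (g⁻¹).1 u v) :=
    smul_right_injective _ (neg_ne_zero.2 (left_ne_zero_of_mul_eq_one hδ)) (e3.trans (smul_neg _ _).symm)
  rw [adj, Matrix.mul_assoc, e4, Matrix.mul_neg, ← Matrix.mul_assoc, Matrix.nonsing_inv_mul JA H.iA, Matrix.one_mul]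

theorem co_add (Z Z' : Matrix (α × β) (α × β) F) (v u : β → F) : co JB (Z + Z') v u = co JB Z v u + co JB Z' v u := by
  simp only [co, Matrix.mul_add, Matrix.add_mul]

theorem co_sub (Z Z' : Matrix (α × β) (α × β) F) (v u : β → F) : co JB (Z - Z') v u = co JB Z v u - co JB Z' v u := by
  simp only [co, Matrix.mul_sub, Matrix.sub_mul]

theorem co_one (v u : β → F) : co JB (1 : Matrix (α × β) (α × β) F) v u = ((JB *ᵥ v) ⬝ᵥ u) • 1 := by
  rw [co, Matrix.mul_one, kr_mul_kc]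

/-- A root is skew. -/
theorem co_adj (hY : Root M Y) (v u : β → F) : adj JA (co JB Y v u) = co JB Y u v := by
  obtain ⟨y, hy, y1, y2⟩ := hY.exists_unit
  have h := H.co_mul_inv hy v u
  rw [y1, y2, H.co_add, H.co_sub, H.co_one, H.co_one, H.adj_add, H.adj_smul, H.adj_one, H.swapB u v] at h
  linear_combination (norm := module) h

theorem adj_contr (hY : Root M Y) (w : β → F) : adj JA (contr JB w Y) = contr JB w Y := H.co_adj hY w w

theorem contr_conj (g : GL (α × β) F) (w : β → F) :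
    contr JB w (g.1 * Zm JB w (1 : Matrix α α F) * (g⁻¹).1) = co JB g.1 w w * co JB (g⁻¹).1 w w := by
  simp only [contr, co, Zm, Matrix.mul_one, Matrix.mul_assoc]

theorem co_unit {y : GL (α × β) F} (hy : y.1 = 1 + Y) (w : β → F) : co JB y.1 w w = contr JB w Y := by
  rw [hy, H.co_add, H.co_one, H.selfB, zero_smul, zero_add]; rfl

/-- The contraction of a conjugate of the root at `w` by a root element. -/
theorem contr_root_conj (hY : Root M Y) {y : GL (α × β) F} (hy : y.1 = 1 + Y) (hy' : (y⁻¹).1 = 1 - Y) (w : β → F) :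
    contr JB w (y.1 * Zm JB w (1 : Matrix α α F) * (y⁻¹).1) = -(contr JB w Y * contr JB w Y) := by
  rw [H.contr_conj, H.co_unit hy, hy', H.co_sub, H.co_one, H.selfB, zero_smul, zero_sub, Matrix.mul_neg]
  rfl

theorem sum_comm (hY : Y * Y = 0) (w : β → F) :
    Zm JB w (1 : Matrix α α F) * (Zm JB w 1 * Y + Y * Zm JB w 1) =
        (Zm JB w 1 * Y + Y * Zm JB w 1) * Zm JB w 1 ∧
      Y * (Zm JB w (1 : Matrix α α F) * Y + Y * Zm JB w 1) = (Zm JB w 1 * Y + Y * Zm JB w 1) * Y := by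
  have hX := H.selfZm w (1 : Matrix α α F) 1
  constructor
  · rw [Matrix.mul_add, Matrix.add_mul, ← Matrix.mul_assoc (Zm JB w 1) (Zm JB w 1), hX, Matrix.zero_mul, zero_add,
      Matrix.mul_assoc Y, hX, Matrix.mul_zero, add_zero, Matrix.mul_assoc]
  · rw [Matrix.mul_add, Matrix.add_mul, ← Matrix.mul_assoc Y Y, hY, Matrix.zero_mul, add_zero,
      Matrix.mul_assoc (Zm JB w 1) Y, hY, Matrix.mul_zero, zero_add, Matrix.mul_assoc]

theorem sum_kc (w : β → F) : (Zm JB w (1 : Matrix α α F) * Y + Y * Zm JB w 1) * kc α w = kc α w * contr JB w Y := by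
  rw [Matrix.add_mul, Matrix.mul_assoc Y, H.zm_kc, Matrix.mul_zero, add_zero, Zm, Matrix.mul_one, contr]
  simp only [Matrix.mul_assoc]

theorem sum_pow_kc (w : β → F) (n : ℕ) :
    (Zm JB w (1 : Matrix α α F) * Y + Y * Zm JB w 1) ^ n * kc α w = kc α w * contr JB w Y ^ n := by
  induction n with
  | zero => rw [pow_zero, pow_zero, Matrix.one_mul, Matrix.mul_one]
  | succ n IH => rw [pow_succ, Matrix.mul_assoc, H.sum_kc, ← Matrix.mul_assoc, IH, Matrix.mul_assoc, ← pow_succ]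

/-- When the two root elements generate a `p`-group the contraction is nilpotent. -/
theorem nilpotent_of_pGroup {p : ℕ} [Fact p.Prime] [CharP F p] {w : β → F} (hw0 : w ≠ 0) (hY : Root M Y)
    {x y : GL (α × β) F} (hx : x.1 = 1 + Zm JB w (1 : Matrix α α F)) (hy : y.1 = 1 + Y)
    (hP : IsPGroup p (Subgroup.closure ({x, y} : Set (GL (α × β) F)))) : ∃ n, contr JB w Y ^ n = 0 := by
  haveI := H.nonempty_left
  haveI := H.nonempty_right
  haveI : CharP (Matrix (α × β) (α × β) F) p := Matrix.charP p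
  obtain ⟨X, hX⟩ : ∃ X : Matrix (α × β) (α × β) F, X = Zm JB w 1 := ⟨_, rfl⟩
  obtain ⟨s, hs⟩ : ∃ s, s = X * Y + Y * X := ⟨_, rfl⟩
  obtain ⟨N, hN⟩ : ∃ N, N = X + Y + X * Y := ⟨_, rfl⟩
  have hXX : X * X = 0 := by rw [hX]; exact H.selfZm w _ _
  obtain ⟨hTX, hTY⟩ := H.sum_comm hY.sq w
  rw [← hX, ← hs] at hTX hTY
  rw [← hX] at hx
  obtain ⟨j, hj⟩ := hP ⟨x * y, mul_mem (Subgroup.subset_closure (Set.mem_insert _ _))
    (Subgroup.subset_closure (Set.mem_insert_of_mem _ (Set.mem_singleton _)))⟩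
  have hj' : (1 + N) ^ p ^ j = 1 := by
    have e := congrArg (fun z : Subgroup.closure ({x, y} : Set (GL (α × β) F)) => (z : GL (α × β) F).1) hj
    simp only [SubmonoidClass.coe_pow, Units.val_pow_eq_pow_val, Units.val_mul, OneMemClass.coe_one, Units.val_one,
      hx, hy] at e
    rw [hN, show 1 + (X + Y + X * Y) = (1 + X) * (1 + Y) by
      rw [Matrix.add_mul, Matrix.one_mul, Matrix.mul_add, Matrix.mul_one]; abel]
    exact e
  rw [add_pow_char_pow_of_commute p j (Commute.one_left N), one_pow,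
    add_eq_left] at hj'
  have hNT : Commute N s := by
    rw [hN]
    exact ((Commute.add_left hTX hTY).add_left (Commute.mul_left hTX hTY))
  have hNN : N * N = s * (1 + N) := by
    have r1 : ∀ Z, X * (X * Z) = 0 := fun Z => by rw [← Matrix.mul_assoc, hXX, Matrix.zero_mul]
    have r2 : ∀ Z, Y * (Y * Z) = 0 := fun Z => by rw [← Matrix.mul_assoc, hY.sq, Matrix.zero_mul]
    simp only [hN, hs, Matrix.add_mul, Matrix.mul_add, Matrix.mul_one, Matrix.mul_assoc, hXX, hY.sq, r1, r2,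
      Matrix.mul_zero, add_zero, zero_add]
    abel
  obtain ⟨n, hn⟩ : ∃ n, n = p ^ j := ⟨_, rfl⟩
  rw [← hn] at hj'
  have hu : IsUnit (1 + N) := by
    rw [hN, show 1 + (X + Y + X * Y) = (x * y).1 by
      rw [Units.val_mul, hx, hy, Matrix.add_mul, Matrix.one_mul, Matrix.mul_add, Matrix.mul_one]; abel]
    exact (x * y).isUnit
  have hsn : s ^ n = 0 := by
    have e : s ^ n * (1 + N) ^ n = 0 := by
      rw [← (Commute.add_right (Commute.one_right s) hNT.symm).mul_pow, ← hNN, ← pow_two, ← pow_mul, mul_comm,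
        pow_mul, hj', zero_pow two_ne_zero]
    exact (hu.pow n).mul_left_eq_zero.1 e
  refine ⟨n, kc_cancel hw0 ?_⟩
  rw [← H.sum_pow_kc, ← hX, ← hs, hsn, Matrix.zero_mul, Matrix.mul_zero]

end Hyp

namespace Sys

variable (H : Sys JA JB M)
include H

/-- The commutator of a root with its conjugate lies in the second factor. -/
theorem exists_comm_tens {w : β → F} (hw0 : w ≠ 0) (hY : Root M Y) (hC : contr JB w Y * contr JB w Y = 0) :
    ∃ n : Matrix β β F, (2 : F) • Zm JB w (contr JB w Y) -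
      Zm JB w (1 : Matrix α α F) * Y * Zm JB w 1 * Y + Y * Zm JB w 1 * Y * Zm JB w 1 =
        (1 : Matrix α α F) ⊗ₖ n := by
  obtain ⟨z, wz, -, -⟩ := H.exists_dual (H.selfB w) hw0
  obtain ⟨X, hX⟩ : ∃ X : Matrix (α × β) (α × β) F, X = Zm JB w 1 := ⟨_, rfl⟩
  obtain ⟨y, hyM, hy, hy'⟩ := hY.exists_unit
  obtain ⟨X', hX'⟩ : ∃ X', X' = y.1 * X * (y⁻¹).1 := ⟨_, rfl⟩
  have hXr : Root M X := by rw [hX]; exact H.root_zm w
  have hX'r : Root M X' := by rw [hX']; exact hXr.conj hyM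
  have c1 : contr JB w X' = 0 := by
    rw [hX', hX, H.contr_root_conj hY hy hy', hC, neg_zero]
  have hXX'X : X * X' * X = 0 := by
    rw [hX, H.zm_sandwich, c1]; simp [Zm]
  have hX'XX' : X' * X * X' = 0 := by
    have c2 : contr JB w ((y⁻¹).1 * X * y.1) = 0 := by
      have e : (y⁻¹).1 = 1 + -Y := by rw [hy', sub_eq_add_neg]
      have := H.contr_root_conj (y := y⁻¹) hY.neg e (by rw [inv_inv, hy, sub_neg_eq_add]) w
      rw [inv_inv] at this
      rw [hX, this, show contr JB w (-Y) = -contr JB w Y by simp [contr], Matrix.neg_mul, Matrix.mul_neg, neg_neg,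
        hC, neg_zero]
    calc X' * X * X' = y.1 * (X * ((y⁻¹).1 * X * y.1) * X) * (y⁻¹).1 := by rw [hX']; simp only [Matrix.mul_assoc]
      _ = 0 := by
        rw [hX] at c2 ⊢
        rw [H.zm_sandwich, c2]; simp [Zm]
  obtain ⟨a, ha, ha', ha''⟩ := hXr.exists_unit
  obtain ⟨b, hb, hb', hb''⟩ := hX'r.exists_unit
  obtain ⟨e, he⟩ : ∃ e, e = a * b * a⁻¹ * b⁻¹ := ⟨_, rfl⟩
  have heM : e ∈ M := he ▸ M.mul_mem (M.mul_mem (M.mul_mem ha hb) (M.inv_mem ha)) (M.inv_mem hb)
  have heW : e.1 = 1 + (X * X' - X' * X) := by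
    have r1 : ∀ Z, X * (X * Z) = 0 := fun Z => by rw [← Matrix.mul_assoc, hXr.sq, Matrix.zero_mul]
    have r2 : ∀ Z, X' * (X' * Z) = 0 := fun Z => by rw [← Matrix.mul_assoc, hX'r.sq, Matrix.zero_mul]
    have r3 : ∀ Z, X * (X' * (X * Z)) = 0 := fun Z => by
      rw [← Matrix.mul_assoc, ← Matrix.mul_assoc, hXX'X, Matrix.zero_mul]
    rw [Matrix.mul_assoc] at hXX'X hX'XX'
    rw [he, Units.val_mul, Units.val_mul, Units.val_mul, ha', hb', ha'', hb'']
    simp only [Matrix.add_mul, Matrix.mul_add, Matrix.sub_mul, Matrix.mul_sub, Matrix.one_mul, Matrix.mul_one,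
      Matrix.mul_assoc, hXr.sq, hX'r.sq, hXX'X, hX'XX', r1, r2, r3, Matrix.mul_zero, add_zero, sub_zero]
    abel
  have hrad : Rad JB M w e := by
    refine H.rad_mk wz heM ?_ fun u hu => ⟨kr α (JB *ᵥ w) * X' * kc α u, ?_⟩
    · rw [heW, Matrix.add_mul, Matrix.one_mul, Matrix.sub_mul, Matrix.mul_assoc X', hX, H.zm_kc, Matrix.mul_zero,
        sub_zero, Zm, Matrix.mul_one, Matrix.mul_assoc (kc α w), Matrix.mul_assoc (kc α w),
        show kr α (JB *ᵥ w) * X' * kc α w = 0 from c1, Matrix.mul_zero, add_zero]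
    · rw [heW, Matrix.add_mul, Matrix.one_mul, Matrix.sub_mul, Matrix.mul_assoc X', hX, H.zm_mul_kc, hu,
        zero_smul, Matrix.mul_zero, sub_zero, Zm, Matrix.mul_one]
      simp only [Matrix.mul_assoc]
  obtain ⟨T, hT⟩ := H.rad_tens hw0 hrad
  refine ⟨T - 1, ?_⟩
  rw [TensorOrth.kron_sub, ← hT, Matrix.one_kronecker_one, heW, add_sub_cancel_left, ← hX, two_smul,
    ← H.zm_sandwich, ← hX, hX', hy, hy']
  have r1 : ∀ Z, X * (X * Z) = 0 := fun Z => by rw [← Matrix.mul_assoc, hXr.sq, Matrix.zero_mul]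
  simp only [Matrix.add_mul, Matrix.mul_add, Matrix.mul_sub, Matrix.sub_mul, Matrix.one_mul, Matrix.mul_one,
    Matrix.mul_assoc, hXr.sq, r1, Matrix.mul_zero, sub_zero, zero_sub, zero_add, add_zero]
  abel

/-- A contraction with square zero is zero. -/
theorem contr_sq_zero {w : β → F} (hw0 : w ≠ 0) (hY : Root M Y) (hC : contr JB w Y * contr JB w Y = 0) :
    contr JB w Y = 0 := by
  obtain ⟨z, wz, -, -⟩ := H.exists_dual (H.selfB w) hw0
  obtain ⟨θ, hθ⟩ := exists_dual_one hw0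
  have hn : contr JB w (-Y) = -contr JB w Y := by simp [contr]
  obtain ⟨n, hn1⟩ := H.exists_comm_tens hw0 hY hC
  obtain ⟨n', hn2⟩ := H.exists_comm_tens hw0 hY.neg (by rw [hn, Matrix.neg_mul, Matrix.mul_neg, neg_neg, hC])
  have h4 : (2 * 2 : F) • Zm JB w (contr JB w Y) = (1 : Matrix α α F) ⊗ₖ (n - n') := by
    rw [TensorOrth.kron_sub, ← hn1, ← hn2, hn, show Zm JB w (-contr JB w Y) = -Zm JB w (contr JB w Y) by simp [Zm]]
    simp only [Matrix.mul_neg, Matrix.neg_mul, neg_neg, smul_neg, mul_smul, two_smul]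
    abel
  have h5 := congrArg (fun Z => kr α θ * (Z * kc α z)) h4
  simp only [Matrix.smul_mul, Matrix.mul_smul, H.zm_mul_kc, wz, one_smul, kr_kc_mul, hθ, kron_mul_kc, Matrix.mul_one,
    kr_mul_kc] at h5
  obtain ⟨c, hc⟩ : ∃ c : F, contr JB w Y = c • 1 := ⟨((2 * 2 : F))⁻¹ * (θ ⬝ᵥ ((n - n') *ᵥ z)), by
    rw [mul_smul, ← h5, smul_smul, inv_mul_cancel₀ (mul_ne_zero H.two H.two), one_smul]⟩
  haveI := H.nonempty_left
  rw [hc, smul_mul_smul_comm, Matrix.one_mul, smul_eq_zero, or_iff_left one_ne_zero, mul_self_eq_zero] at hC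
  rw [hc, hC, zero_smul]

/-- A nilpotent contraction is zero. -/
theorem contr_nilpotent {w : β → F} (hw0 : w ≠ 0) : ∀ (n : ℕ) {Y : Matrix (α × β) (α × β) F}, Root M Y →
    contr JB w Y ^ n = 0 → contr JB w Y = 0 := by
  intro n
  induction n using Nat.strong_induction_on with
  | _ n IH =>
    intro Y hY hn
    refine H.contr_sq_zero hw0 hY ?_
    by_cases h2 : n ≤ 2
    · rw [← pow_two]; exact pow_eq_zero_of_le h2 hn
    obtain ⟨y, hyM, hy, hy'⟩ := hY.exists_unit
    have h3 := IH ((n + 1) / 2) (by omega) ((H.root_zm w).conj hyM) (by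
      rw [H.contr_root_conj hY hy hy', neg_pow, ← pow_two, ← pow_mul,
        pow_eq_zero_of_le (show n ≤ 2 * ((n + 1) / 2) by omega) hn, mul_zero])
    rw [H.contr_root_conj hY hy hy', neg_eq_zero] at h3
    exact h3

end Sys

end CfsgLib.Classical.TensorWreathS.Pair
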