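import Cfsg.Agent.Lib.Classical.TensorWreathS.PairRad

set_option autoImplicit false
set_option linter.unusedSectionVars false

/-!
When the central elements and the levels are scalars, the elements of the radical lie in the second factor.
-/

namespace CfsgLib.Classical.TensorWreathS.Pair

open Matrix CfsgLib.Classical.TensorMax
open CfsgLib.Classical.TensorMixed (Zm Np Tp tp_mulVec kr_kc_mul sp_of_form Rad Small ScalarLevels)
open CfsgLib.Classical.TensorSymp (adj Sp kr_mul_apply kc_mul_apply eq_of_mul_kc_all AForm)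
open scoped MatrixGroups Kronecker

variable {F : Type*} [Field F] [Finite F] {α β : Type} [Fintype α] [DecidableEq α] [Fintype β] [DecidableEq β]

/-- The setting: the second factor is symplectic, the central elements and the levels are scalars. -/
structure Sys (JA : Matrix α α F) (JB : Matrix β β F) (M : Subgroup (GL (α × β) F)) : Prop
    extends Hyp (-1 : F) JA JB M where
  small : Small JB M
  levels : ScalarLevels JB M

variable {JA : Matrix α α F} {JB : Matrix β β F} {M : Subgroup (GL (α × β) F)}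

theorem Hyp.selfB (H : Hyp (-1 : F) JA JB M) (x : β → F) : (JB *ᵥ x) ⬝ᵥ x = 0 := by
  have e := H.swapB x x
  have : (2 : F) * ((JB *ᵥ x) ⬝ᵥ x) = 0 := by linear_combination e
  exact (mul_eq_zero.1 this).resolve_left H.two

theorem Hyp.aB (H : Hyp (-1 : F) JA JB M) : AForm JB where
  skew := by rw [H.tB, neg_one_smul]
  alt x := by rw [dotProduct_comm]; exact H.selfB x
  det_ne := H.dB

namespace Sys

/-- An element of the radical lies in the second factor. -/
theorem rad_tens (H : Sys JA JB M) {w : β → F} (hw0 : w ≠ 0) {R : GL (α × β) F} (hR : Rad JB M w R) :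
    ∃ T : Matrix β β F, R.1 = (1 : Matrix α α F) ⊗ₖ T := by
  have hw := H.selfB w
  obtain ⟨z, wz, -, -⟩ := H.exists_dual hw hw0
  obtain ⟨θ, hθ⟩ := exists_dual_one hw0
  obtain ⟨i₀⟩ := H.nonempty_left
  obtain ⟨L, hLdef⟩ : ∃ L : β → F, L = fun l => (kr α θ * (R.1 - 1) : Matrix α (α × β) F) i₀ (i₀, l) := ⟨_, rfl⟩
  have hLev : ∀ a, (JB *ᵥ w) ⬝ᵥ a = 0 → R.1 * kc α a = kc α a + (L ⬝ᵥ a) • kc α w := by
    intro a ha
    obtain ⟨E, hE⟩ := hR.2.2 (kc α a) (by rw [kr_mul_kc, ha, zero_smul])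
    obtain ⟨s, hs⟩ := H.levels w hw hw0 R hR a ha E hE
    have e : L ⬝ᵥ a = s := by
      have e1 : (kr α θ * (R.1 - 1)) * kc α a = s • 1 := by
        rw [Matrix.mul_assoc, Matrix.sub_mul, Matrix.one_mul, hE, add_sub_cancel_left, ← Matrix.mul_assoc, kr_mul_kc,
          hθ, one_smul, Matrix.one_mul, hs]
      have e2 := congrFun₂ e1 i₀ i₀
      rw [Matrix.smul_apply, Matrix.one_apply_eq, smul_eq_mul, mul_one] at e2
      rw [← e2, Matrix.mul_apply, Fintype.sum_prod_type, Fintype.sum_eq_single i₀]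
      · simp [kc_apply, dotProduct, hLdef]
      · intro b hb; simp [kc_apply, hb]
    rw [hE, hs, e, Matrix.mul_smul, Matrix.mul_one]
  have hLw : L ⬝ᵥ w = 0 := by
    have h0 := hLev w hw
    rw [hR.2.1, left_eq_add] at h0
    by_contra hne
    have h2 := congrArg ((kr α θ) * ·) h0
    simp only [Matrix.mul_smul, kr_mul_kc, hθ, one_smul, Matrix.mul_zero] at h2
    have h1 := congrFun₂ h2 i₀ i₀
    rw [Matrix.smul_apply, Matrix.one_apply_eq, smul_eq_mul, mul_one] at h1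
    exact hne h1
  obtain ⟨ψ, hψL⟩ := H.surjB ((-1 : F) • L)
  have hψw : (JB *ᵥ w) ⬝ᵥ ψ = 0 := by rw [H.swapB, hψL, smul_dotProduct, hLw, smul_zero, mul_zero]
  obtain ⟨t, htM, ⟨T₁, hT₁⟩, ht⟩ := H.inM_tp hw hψw
  obtain ⟨r, hr⟩ : ∃ r, r = R * t := ⟨_, rfl⟩
  have hfix : ∀ a, (JB *ᵥ w) ⬝ᵥ a = 0 → r.1 * kc α a = kc α a := by
    intro a ha
    rw [hr, Units.val_mul, Matrix.mul_assoc, ht a, ha, hψL, smul_dotProduct, smul_eq_mul, mul_zero, add_zero,
      zero_smul, add_zero, neg_neg, one_mul, neg_one_mul, Matrix.mul_add, hLev a ha, Matrix.mul_smul,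
      hR.2.1, neg_smul, add_neg_cancel_right]
  have hrM : r ∈ M := hr ▸ M.mul_mem hR.1 htM
  have hrad : Rad JB M w r :=
    H.rad_mk wz hrM (hfix w hw) fun y hy => ⟨0, by rw [hfix y hy, Matrix.mul_zero, add_zero]⟩
  obtain ⟨C, hC⟩ := H.rad_zero hw hw0 hrad hfix
  obtain ⟨c, hc⟩ := H.small w hw hw0 C ⟨r, hrM, hC⟩
  have e1 : T₁ * T₁⁻¹ = 1 := (H.sp_inv H.dB (H.iso_right htM hT₁)).1
  refine ⟨(1 + c • Matrix.vecMulVec w (JB *ᵥ w)) * T₁⁻¹, ?_⟩
  have e2 : r.1 = (1 : Matrix α α F) ⊗ₖ (1 + c • Matrix.vecMulVec w (JB *ᵥ w)) := by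
    rw [hC, hc, H.zm_smul, H.zm_one, Matrix.kronecker_add, Matrix.one_kronecker_one, Matrix.kronecker_smul]
  have e3 : (t⁻¹).1 = (1 : Matrix α α F) ⊗ₖ T₁⁻¹ := by
    refine left_inv_eq_right_inv (a := t.1) t.inv_mul ?_
    rw [hT₁, ← Matrix.mul_kronecker_mul, Matrix.one_mul, e1, Matrix.one_kronecker_one]
  rw [show R = r * t⁻¹ by rw [hr, mul_inv_cancel_right], Units.val_mul, e2, e3, ← Matrix.mul_kronecker_mul,
    Matrix.one_mul]

end Sys

end CfsgLib.Classical.TensorWreathS.Pair
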