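import Cfsg.Agent.Lib.Classical.TensorWreathS.PairRoot

set_option autoImplicit false
set_option linter.unusedSectionVars false

/-!
A second factor of dimension two: the module spanned by `kc w` and `Y kc w`, and the elements stabilising `kc w`.
-/

namespace CfsgLib.Classical.TensorWreathS.Pair

open Matrix CfsgLib.Classical.TensorMax Polynomial
open CfsgLib.Classical.TensorMixed (Zm Np Tp tp_mulVec kr_kc_mul sp_of_form Rad Small ScalarLevels)
open CfsgLib.Classical.TensorSymp (adj Sp kr_mul_apply kc_mul_apply eq_of_mul_kc_all AForm)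
open scoped MatrixGroups Kronecker

variable {F : Type*} [Field F] [Finite F] {α β : Type} [Fintype α] [DecidableEq α] [Fintype β] [DecidableEq β]
variable {JA : Matrix α α F} {JB : Matrix β β F} {M : Subgroup (GL (α × β) F)}
variable {Y : Matrix (α × β) (α × β) F}

namespace Hyp

variable (H : Hyp (-1 : F) JA JB M)
include H

theorem perp_line (h2 : Fintype.card β = 2) {w y : β → F} (hw0 : w ≠ 0) (hy : (JB *ᵥ w) ⬝ᵥ y = 0) :
    ∃ c : F, y = c • w := by
  by_contra hc
  push Not at hc
  obtain ⟨z, wz, -, -⟩ := H.exists_dual (H.selfB w) hw0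
  have hli : LinearIndependent F ![w, y, z] := by
    rw [Fintype.linearIndependent_iff]
    intro g hg
    simp only [Fin.sum_univ_three, Matrix.cons_val_zero, Matrix.cons_val_one, Matrix.cons_val] at hg
    have h2' : g 2 = 0 := by
      have := congrArg ((JB *ᵥ w) ⬝ᵥ ·) hg
      simp only [dotProduct_add, dotProduct_smul, H.selfB, hy, wz, smul_eq_mul, mul_zero, mul_one, zero_add,
        dotProduct_zero] at this
      exact this
    rw [h2', zero_smul, add_zero] at hg
    have h1 : g 1 = 0 := by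
      by_contra h1
      refine hc (-(g 1)⁻¹ * g 0) ?_
      have h3 : g 1 • y = (-g 0) • w := by linear_combination (norm := module) hg
      rw [neg_mul, ← mul_neg, mul_smul, ← h3, smul_smul, inv_mul_cancel₀ h1, one_smul]
    rw [h1, zero_smul, add_zero, smul_eq_zero, or_iff_left hw0] at hg
    intro i
    fin_cases i <;> assumption
  have := hli.fintype_card_le_finrank
  rw [Module.finrank_pi, Fintype.card_fin, h2] at this
  omega

/-- For a second factor of dimension two there are no levels. -/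
theorem levels_two (h2 : Fintype.card β = 2) : ScalarLevels JB M := by
  intro w _ hw0 h hh y hy E he
  obtain ⟨c, rfl⟩ := H.perp_line h2 hw0 hy
  rw [kc_smul, Matrix.mul_smul, hh.2.1, left_eq_add] at he
  exact ⟨0, by rw [zero_smul]; exact kc_cancel hw0 (by rw [he, Matrix.mul_zero])⟩

/-- A block orthogonal to `w` lies over `w`. -/
theorem over_line (h2 : Fintype.card β = 2) {w θ : β → F} (hw0 : w ≠ 0) (hθ : θ ⬝ᵥ w = 1)
    {X : Matrix (α × β) α F} (h : kr α (JB *ᵥ w) * X = 0) : X = kc α w * (kr α θ * X) := by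
  refine H.split_kc hθ fun a ha => ?_
  obtain ⟨c, rfl⟩ := H.perp_line h2 hw0 ha
  rw [Matrix.mulVec_smul, kr_smul, Matrix.smul_mul, h, smul_zero]

theorem adj_aeval {C : Matrix α α F} (hC : adj JA C = C) (f : F[X]) : adj JA (aeval C f) = aeval C f := by
  induction f using Polynomial.induction_on with
  | C a => rw [aeval_C, Algebra.algebraMap_eq_smul_one, H.adj_smul, H.adj_one]
  | add p q hp hq => rw [map_add, H.adj_add, hp, hq]
  | monomial n a h =>
    rw [pow_succ, ← mul_assoc, map_mul, aeval_X, H.adj_mul, hC, h]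
    have := congrArg (aeval C) (mul_comm Polynomial.X (Polynomial.C a * Polynomial.X ^ n))
    simpa only [map_mul, aeval_X] using this

end Hyp

namespace Sys

variable (H : Sys JA JB M)
include H

/-- The square of the action of an element stabilising `F^α ⊗ w` is scalar. -/
theorem upper_sq {w : β → F} (hw0 : w ≠ 0) {h : GL (α × β) F} (hh : h ∈ M) {A : Matrix α α F}
    (hA : h.1 * kc α w = kc α w * A) : ∃ s : F, A * adj JA A = s • 1 := by
  refine H.small w (H.selfB w) hw0 _ ?_
  have h1 := ((H.root_zm w).conj hh).mem 1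
  rw [one_smul, Zm, Matrix.mul_one, ← Matrix.mul_assoc h.1, hA, Matrix.mul_assoc (kc α w * A),
    H.adjoint_line hh hA] at h1
  rw [Zm]
  simpa only [Matrix.mul_assoc] using h1

end Sys

/-- A matrix of polynomials in the contraction which acts on the module as an element of `M`. -/
def Rep (JB : Matrix β β F) (M : Subgroup (GL (α × β) F)) (w : β → F) (Y : Matrix (α × β) (α × β) F)
    (P : Matrix (Fin 2) (Fin 2) F[X]) : Prop :=
  P.det = 1 ∧ ∃ h ∈ M, h.1 * kc α w = kc α w * aeval (contr JB w Y) (P 0 0) + Y * kc α w * aeval (contr JB w Y) (P 1 0) ∧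
    h.1 * (Y * kc α w) = kc α w * aeval (contr JB w Y) (P 0 1) + Y * kc α w * aeval (contr JB w Y) (P 1 1)

theorem Rep.mul {w : β → F} {P Q : Matrix (Fin 2) (Fin 2) F[X]} (hP : Rep JB M w Y P) (hQ : Rep JB M w Y Q) :
    Rep JB M w Y (P * Q) := by
  obtain ⟨dP, g, hg, g1, g2⟩ := hP
  obtain ⟨dQ, h, hh, h1, h2⟩ := hQ
  refine ⟨by rw [Matrix.det_mul, dP, dQ, one_mul], g * h, M.mul_mem hg hh, ?_, ?_⟩
  · rw [Units.val_mul, Matrix.mul_assoc, h1, Matrix.mul_add, ← Matrix.mul_assoc g.1, ← Matrix.mul_assoc g.1, g1, g2]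
    simp only [Matrix.mul_apply, Fin.sum_univ_two, map_add, map_mul, Matrix.mul_add, Matrix.add_mul, Matrix.mul_assoc]
    abel
  · rw [Units.val_mul, Matrix.mul_assoc, h2, Matrix.mul_add, ← Matrix.mul_assoc g.1, ← Matrix.mul_assoc g.1, g1, g2]
    simp only [Matrix.mul_apply, Fin.sum_univ_two, map_add, map_mul, Matrix.mul_add, Matrix.add_mul, Matrix.mul_assoc]
    abel

theorem Rep.one {w : β → F} : Rep JB M w Y 1 :=
  ⟨Matrix.det_one, 1, M.one_mem, by simp, by simp⟩

theorem Rep.pow {w : β → F} {P : Matrix (Fin 2) (Fin 2) F[X]} (hP : Rep JB M w Y P) :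
    ∀ n : ℕ, Rep JB M w Y (P ^ n)
  | 0 => by rw [pow_zero]; exact Rep.one
  | n + 1 => by rw [pow_succ]; exact (Rep.pow hP n).mul hP

/-- The upper generators. -/
noncomputable def gU (s : F) : Matrix (Fin 2) (Fin 2) F[X] := !![1, Polynomial.C s * Polynomial.X; 0, 1]

/-- The lower generators. -/
noncomputable def gL (r : F) : Matrix (Fin 2) (Fin 2) F[X] := !![1, 0; Polynomial.C r, 1]

theorem Hyp.rep_gU (H : Hyp (-1 : F) JA JB M) (w : β → F) (s : F) : Rep JB M w Y (gU s) := by
  obtain ⟨x, hxM, hx⟩ := (H.root_zm w).mem s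
  refine ⟨by simp [gU, Matrix.det_fin_two], x, hxM, ?_, ?_⟩
  · rw [hx, Matrix.add_mul, Matrix.one_mul, Matrix.smul_mul, H.zm_kc, smul_zero, add_zero]
    simp [gU]
  · rw [hx, Matrix.add_mul, Matrix.one_mul, Matrix.smul_mul, Zm, Matrix.mul_one, Matrix.mul_assoc (kc α w),
      ← Matrix.mul_assoc (kr α _), show kr α (JB *ᵥ w) * Y * kc α w = contr JB w Y from rfl, ← Matrix.mul_smul]
    simp [gU, Algebra.algebraMap_eq_smul_one, add_comm]

theorem Root.rep_gL (hY : Root M Y) (w : β → F) (r : F) : Rep JB M w Y (gL r) := by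
  obtain ⟨y, hyM, hy⟩ := hY.mem r
  refine ⟨by simp [gL, Matrix.det_fin_two], y, hyM, ?_, ?_⟩
  · rw [hy, Matrix.add_mul, Matrix.one_mul, Matrix.smul_mul]
    simp [gL, Algebra.algebraMap_eq_smul_one]
  · rw [hy, Matrix.add_mul, Matrix.one_mul, Matrix.smul_mul, ← Matrix.mul_assoc Y Y, hY.sq, Matrix.zero_mul,
      smul_zero, add_zero]
    simp [gL]

/-- The action of the inverse. -/
theorem Rep.inverse {w : β → F} {P : Matrix (Fin 2) (Fin 2) F[X]} {g : GL (α × β) F}
    (hd : P.det = 1)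
    (g1 : g.1 * kc α w = kc α w * aeval (contr JB w Y) (P 0 0) + Y * kc α w * aeval (contr JB w Y) (P 1 0))
    (g2 : g.1 * (Y * kc α w) = kc α w * aeval (contr JB w Y) (P 0 1) + Y * kc α w * aeval (contr JB w Y) (P 1 1)) :
    (g⁻¹).1 * kc α w = kc α w * aeval (contr JB w Y) (P 1 1) - Y * kc α w * aeval (contr JB w Y) (P 1 0) ∧
    (g⁻¹).1 * (Y * kc α w) = Y * kc α w * aeval (contr JB w Y) (P 0 0) - kc α w * aeval (contr JB w Y) (P 0 1) := by
  rw [Matrix.det_fin_two] at hd
  have key : ∀ {X X' : Matrix (α × β) α F}, g.1 * X = X' → (g⁻¹).1 * X' = X := fun h => by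
    rw [← h, ← Matrix.mul_assoc, g.inv_mul, Matrix.one_mul]
  have e1 : P 0 0 * P 1 1 - P 0 1 * P 1 0 = 1 ∧ P 1 0 * P 1 1 - P 1 1 * P 1 0 = 0 ∧
      P 1 1 * P 0 0 - P 1 0 * P 0 1 = 1 ∧ P 0 1 * P 0 0 - P 0 0 * P 0 1 = 0 :=
    ⟨hd, by ring, by linear_combination hd, by ring⟩
  obtain ⟨i1, i2, i3, i4⟩ := e1
  have j : ∀ {f f' : F[X]}, f = f' → aeval (contr JB w Y) f = aeval (contr JB w Y) f' := fun h => by rw [h]
  constructor
  · refine key ?_
    rw [Matrix.mul_sub, ← Matrix.mul_assoc, ← Matrix.mul_assoc g.1, g1, g2]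
    simp only [Matrix.add_mul, Matrix.mul_assoc, ← map_mul]
    have a1 := j i1
    have a2 := j i2
    simp only [map_sub, map_one, map_zero] at a1 a2
    calc _ = kc α w * (aeval (contr JB w Y) (P 0 0 * P 1 1) - aeval (contr JB w Y) (P 0 1 * P 1 0)) +
          Y * (kc α w * (aeval (contr JB w Y) (P 1 0 * P 1 1) - aeval (contr JB w Y) (P 1 1 * P 1 0))) := by
            simp only [Matrix.mul_sub]; abel
      _ = kc α w := by rw [a1, a2, Matrix.mul_one, Matrix.mul_zero, Matrix.mul_zero, add_zero]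
  · refine key ?_
    rw [Matrix.mul_sub, ← Matrix.mul_assoc, ← Matrix.mul_assoc g.1 (kc α w), g1, g2]
    simp only [Matrix.add_mul, Matrix.mul_assoc, ← map_mul]
    have a1 := j i3
    have a2 := j i4
    simp only [map_sub, map_one, map_zero] at a1 a2
    calc _ = Y * (kc α w * (aeval (contr JB w Y) (P 1 1 * P 0 0) - aeval (contr JB w Y) (P 1 0 * P 0 1))) +
          kc α w * (aeval (contr JB w Y) (P 0 1 * P 0 0) - aeval (contr JB w Y) (P 0 0 * P 0 1)) := by
            simp only [Matrix.mul_sub]; abel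
      _ = Y * kc α w := by rw [a1, a2, Matrix.mul_one, Matrix.mul_zero, add_zero]

end CfsgLib.Classical.TensorWreathS.Pair
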