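import Cfsg.Agent.Lib.Classical.TensorWreathS.Levels

set_option autoImplicit false
set_option linter.unusedSectionVars false

/-!
Elements next to pure tensors: contraction, and the first pure tensor.
-/

namespace CfsgLib.Classical.TensorWreathS

open Matrix CfsgLib.Classical.TensorWreath
open CfsgLib.Classical.TensorSymp (adj Sp AForm tv)
open scoped MatrixGroups Kronecker

variable {F : Type*} [Field F] [Finite F] {τ : Type} [Fintype τ] [DecidableEq τ] {m : ℕ}
variable {J : Matrix (Fin m) (Fin m) F} {M : Subgroup (GL (Ix τ m) F)}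

/-- All the multiples give elements of `M`. -/
def Ele (M : Subgroup (GL (Ix τ m) F)) (Z : Matrix (Ix τ m) (Ix τ m) F) : Prop :=
  ∀ c : F, InM M (1 + c • Z)

theorem Ele.smul {Z : Matrix (Ix τ m) (Ix τ m) F} (h : Ele M Z) (d : F) : Ele M (d • Z) := fun c => by
  rw [smul_smul]; exact h _

theorem Ele.of_smul {Z : Matrix (Ix τ m) (Ix τ m) F} {d : F} (hd : d ≠ 0) (h : Ele M (d • Z)) : Ele M Z := fun c => by
  have := h (c * d⁻¹)
  rwa [smul_smul, mul_assoc, inv_mul_cancel₀ hd, mul_one] at this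

theorem Ele.conj {Z Q Q' : Matrix (Ix τ m) (Ix τ m) F} (h : Ele M Z) (hQ : InM M Q) (hQQ : Q * Q' = 1) :
    Ele M (Q * Z * Q') := fun c => by
  have := (hQ.mul (h c)).mul (hQ.of_mul_eq_one hQQ)
  rwa [mul_add, mul_one, add_mul, hQQ, mul_smul_comm, smul_mul_assoc] at this

theorem Hyp.ele_root (H : Hyp J M) (i : τ) (u : Fin m → F) : Ele M (embM i (nu J u)) := fun c => by
  rw [← embM_smul, ← embM_one (F := F) (m := m) i, ← embM_add, ← tv_eq]
  exact H.emb i _ (H.hJ.sp_tv u c)

/-- Conjugating by a quadratic element, the sandwiched and the bracket parts split off. -/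
theorem Ele.contract (h2 : (2 : F) ≠ 0) {Z N : Matrix (Ix τ m) (Ix τ m) F} (hZ : Ele M Z) (hN : Ele M N)
    (hN2 : N * N = 0) (hZ2 : Z * Z = 0) (hZNZ : Z * N * Z = 0) :
    Ele M (N * Z * N) ∧ Ele M (N * Z - Z * N) := by
  obtain ⟨D, hD⟩ : ∃ D, D = N * Z - Z * N := ⟨_, rfl⟩
  obtain ⟨P, hP⟩ : ∃ P, P = N * Z * N := ⟨_, rfl⟩
  have z1 : ∀ A, Z * (N * (Z * A)) = 0 := fun A => by rw [← mul_assoc, ← mul_assoc, hZNZ, zero_mul]
  have z2 : ∀ A, Z * (Z * A) = 0 := fun A => by rw [← mul_assoc, hZ2, zero_mul]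
  have z3 : ∀ A, N * (N * A) = 0 := fun A => by rw [← mul_assoc, hN2, zero_mul]
  have z1' : Z * (N * Z) = 0 := by rw [← mul_assoc, hZNZ]
  have DD : D * D = 0 := by
    rw [hD]; simp only [mul_sub, sub_mul, mul_assoc, z1, z1', z2, z3, hN2, hZ2, mul_zero, sub_zero]
  have DP : D * P = 0 := by
    rw [hD, hP]; simp only [sub_mul, mul_assoc, z1, z2, z3, mul_zero, sub_zero]
  have PD : P * D = 0 := by
    rw [hD, hP]; simp only [mul_sub, mul_assoc, z1, z2, z3, hN2, mul_zero, sub_zero]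
  have PP : P * P = 0 := by
    rw [hP]; simp only [mul_assoc, z3, mul_zero]
  have W : ∀ c s : F, s * s = 1 → InM M (1 + (c * s) • D - c • P) := by
    intro c s hs
    have e0 : (1 + s • N) * (1 - s • N) = 1 := by
      rw [mul_sub, mul_one, add_mul, one_mul, smul_mul_smul_comm, hN2, smul_zero, add_zero]; abel
    have e1 : (1 + c • Z) * (1 - c • Z) = 1 := by
      rw [mul_sub, mul_one, add_mul, one_mul, smul_mul_smul_comm, hZ2, smul_zero, add_zero]; abel
    have h := (((hN s).mul (hZ c)).mul ((hN s).of_mul_eq_one e0)).mul ((hZ c).of_mul_eq_one e1)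
    convert h using 1
    rw [hD, hP]
    simp only [mul_add, add_mul, mul_sub, sub_mul, mul_one, one_mul, mul_smul_comm, smul_mul_assoc, mul_assoc,
      smul_smul, z1, z1', z2, z3, hN2, hZ2, smul_zero, mul_zero, add_zero, sub_zero, smul_sub, smul_add]
    match_scalars <;> first | linear_combination (c : F) * hs | linear_combination -(c : F) * hs | ring
  refine ⟨?_, ?_⟩ <;> intro c <;> simp only [← hD, ← hP]
  · have h := (W (-c / 2) 1 (one_mul 1)).mul (W (-c / 2) (-1) (by ring))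
    convert h using 1
    simp only [mul_add, add_mul, mul_sub, sub_mul, mul_one, one_mul, mul_smul_comm, smul_mul_assoc, smul_smul, DD,
      DP, PD, PP, smul_zero, add_zero, sub_zero, mul_neg, mul_one]
    match_scalars <;> field_simp <;> ring
  · have e2 : (1 + (c / 2 * -1) • D - (c / 2) • P) * (1 + (c / 2) • D + (c / 2) • P) = 1 := by
      simp only [mul_add, add_mul, mul_sub, sub_mul, mul_one, one_mul, mul_smul_comm, smul_mul_assoc, smul_smul, DD,
        DP, PD, PP, smul_zero, add_zero, sub_zero]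
      match_scalars <;> ring
    have h := (W (c / 2) 1 (one_mul 1)).mul ((W (c / 2) (-1) (by ring)).of_mul_eq_one e2)
    convert h using 1
    simp only [mul_add, add_mul, mul_sub, sub_mul, mul_one, one_mul, mul_smul_comm, smul_mul_assoc, smul_smul, DD,
      DP, PD, PP, smul_zero, add_zero, sub_zero]
    match_scalars <;> field_simp <;> ring

/-- One multiple gives all. -/
theorem Hyp.ele_start (H : Hyp J M) {i : τ} {u : Fin m → F} (hu : u ≠ 0) {Y : Matrix (Ix τ m) (Ix τ m) F}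
    (hY : Cen i Y) (h : InM M (1 + embM i (nu J u) * Y)) : Ele M (embM i (nu J u) * Y) := by
  obtain ⟨X, hX⟩ : ∃ X, X = embM i (nu J u) * Y := ⟨_, rfl⟩
  rw [← hX] at h ⊢
  have hX2 : X * X = 0 := by
    rw [hX, mul_assoc, ← mul_assoc Y, ← hY, mul_assoc, ← mul_assoc, embM_mul, nu_sq H.hJ, embM_zero, zero_mul]
  have hsq : ∀ l : F, InM M (1 + (l * l) • X) := by
    intro l
    by_cases hl : l = 0
    · simpa [hl] using inM_one
    obtain ⟨T, hT, hTu⟩ := move H.hJ hu (smul_ne_zero hl hu)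
    have hQ : embM i T * embM i T⁻¹ = 1 := by rw [embM_mul, (H.hJ.sp_inv hT).1, embM_one]
    have := ((H.emb i _ hT).mul h).mul ((H.emb i _ hT).of_mul_eq_one hQ)
    convert this using 1
    rw [mul_add, mul_one, add_mul, hQ, hX, mul_assoc (embM i T), mul_assoc (embM i (nu J u)), ← hY T⁻¹, ← mul_assoc,
      ← mul_assoc, embM_mul, embM_mul, nu_conj H.hJ hT, hTu, nu_smul, embM_smul, smul_mul_assoc]
  intro c
  have e : c = (c + 1) / 2 * ((c + 1) / 2) - (c - 1) / 2 * ((c - 1) / 2) := by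
    have := H.two; field_simp; ring
  have := (hsq ((c + 1) / 2)).mul (((hsq ((c - 1) / 2))).of_mul_eq_one
    (Y := 1 - ((c - 1) / 2 * ((c - 1) / 2)) • X) (by
      rw [mul_sub, mul_one, add_mul, one_mul, smul_mul_smul_comm, hX2, smul_zero, add_zero]; abel))
  rw [mul_sub, mul_one, add_mul, one_mul, smul_mul_smul_comm, hX2, smul_zero, add_zero, add_sub_assoc, ← sub_smul,
    ← e] at this
  exact this

/-- A pure element: roots on `T`, alternating products on `R`. -/
def Typ (J : Matrix (Fin m) (Fin m) F) (T R : Finset τ) (f : τ → Matrix (Fin m) (Fin m) F) : Prop :=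
  (∀ j ∈ T, ∃ x : Fin m → F, x ≠ 0 ∧ f j = nu J x) ∧
    (∀ j ∈ R, ∃ z v : Fin m → F, z ≠ 0 ∧ (∀ c : F, v ≠ c • z) ∧ (J *ᵥ z) ⬝ᵥ v = 0 ∧ f j = gm J z v) ∧
    (∀ j, j ∉ T → j ∉ R → f j = 1)

/-- `M` has all the multiples of a pure element. -/
def Pure (J : Matrix (Fin m) (Fin m) F) (M : Subgroup (GL (Ix τ m) F)) (T R : Finset τ) : Prop :=
  T.Nonempty ∧ Disjoint T R ∧ ∃ f, Typ J T R f ∧ Ele M (pureM f)

theorem Typ.mono {T R : Finset τ} {f : τ → Matrix (Fin m) (Fin m) F} (h : Typ J T R f) {j : τ} (hT : j ∉ T)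
    (hR : j ∉ R) : f j = 1 := h.2.2 j hT hR

theorem Typ.insert_root {T R : Finset τ} {f : τ → Matrix (Fin m) (Fin m) F} (h : Typ J T R f) {j : τ} (hT : j ∉ T)
    (hR : j ∉ R) {w : Fin m → F} (hw : w ≠ 0) : Typ J (insert j T) R (Function.update f j (nu J w)) := by
  refine ⟨fun k hk => ?_, fun k hk => ?_, fun k hkT hkR => ?_⟩
  · rcases Finset.mem_insert.1 hk with rfl | hk
    · exact ⟨w, hw, Function.update_self _ _ _⟩
    · rw [Function.update_of_ne (fun (e : k = j) => hT (e ▸ hk))]; exact h.1 k hk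
  · rw [Function.update_of_ne (fun (e : k = j) => hR (e ▸ hk))]; exact h.2.1 k hk
  · rw [Function.update_of_ne (fun (e : k = j) => hkT (e ▸ Finset.mem_insert_self _ _))]
    exact h.2.2 k (fun e => hkT (Finset.mem_insert_of_mem e)) hkR

theorem Typ.insert_gm {T R : Finset τ} {f : τ → Matrix (Fin m) (Fin m) F} (h : Typ J T R f) {j : τ} (hT : j ∉ T)
    (hR : j ∉ R) {z v : Fin m → F} (hz : z ≠ 0) (hv : ∀ c : F, v ≠ c • z) (ho : (J *ᵥ z) ⬝ᵥ v = 0) :
    Typ J T (insert j R) (Function.update f j (gm J z v)) := by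
  refine ⟨fun k hk => ?_, fun k hk => ?_, fun k hkT hkR => ?_⟩
  · rw [Function.update_of_ne (fun (e : k = j) => hT (e ▸ hk))]; exact h.1 k hk
  · rcases Finset.mem_insert.1 hk with rfl | hk
    · exact ⟨z, v, hz, hv, ho, Function.update_self _ _ _⟩
    · rw [Function.update_of_ne (fun (e : k = j) => hR (e ▸ hk))]; exact h.2.1 k hk
  · rw [Function.update_of_ne (fun (e : k = j) => hkR (e ▸ Finset.mem_insert_self _ _))]
    exact h.2.2 k hkT (fun e => hkR (Finset.mem_insert_of_mem e))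

theorem pureM_update_of_one {f : τ → Matrix (Fin m) (Fin m) F} {j : τ} (h : f j = 1)
    (X : Matrix (Fin m) (Fin m) F) : pureM (Function.update f j X) = pureM f * embM j X := by
  rw [pureM_update_embM, show Function.update f j 1 = f by rw [← h, Function.update_eq_self]]

theorem pureM_sq_zero (hJ : AForm J) {T R : Finset τ} {f : τ → Matrix (Fin m) (Fin m) F} (h : Typ J T R f)
    (hT : T.Nonempty) : pureM f * pureM f = 0 := by
  obtain ⟨j, hj⟩ := hT
  obtain ⟨x, -, hx⟩ := h.1 j hj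
  rw [pureM_mul]
  exact pureM_eq_zero (i := j) (by rw [Pi.mul_apply, hx, nu_sq hJ])

theorem commute_pure {f : τ → Matrix (Fin m) (Fin m) F} {Y : Matrix (Ix τ m) (Ix τ m) F}
    (h : ∀ j, f j = 1 ∨ Cen j Y) : pureM f * Y = Y * pureM f := by
  suffices hs : ∀ s : Finset τ, pureM (pick s f) * Y = Y * pureM (pick s f) by
    convert hs Finset.univ using 3 <;> funext j <;> simp [pick]
  intro s
  induction s using Finset.induction with
  | empty => rw [pick_empty, one_mul, mul_one]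
  | insert a s ha IH =>
    rw [pick_insert ha, mul_assoc]
    rcases h a with h1 | h1
    · rw [h1, embM_one, one_mul, mul_one, IH]
    · rw [h1 (f a), ← mul_assoc, IH, mul_assoc]

/-- From an element next to roots to a pure one. -/
theorem exists_pure (H : Hyp J M) : ∀ (n : ℕ) (T R : Finset τ) (f : τ → Matrix (Fin m) (Fin m) F)
    (Y : Matrix (Ix τ m) (Ix τ m) F), Fintype.card τ - (T ∪ R).card = n → T.Nonempty → Disjoint T R → Typ J T R f →
    (∀ j ∈ T ∪ R, Cen j Y) → Y ≠ 0 → (2 ≤ (T ∪ R).card ∨ ∀ c : F, Y ≠ c • 1) → Ele M (pureM f * Y) →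
    ∃ T R : Finset τ, 2 ≤ (T ∪ R).card ∧ Pure J M T R := by
  haveI := H.neZero
  intro n
  induction n using Nat.strong_induction_on with
  | _ n IH =>
  intro T R f Y hn hT hTR hf hY hY0 hbig hE
  have hfY : pureM f * Y = Y * pureM f := commute_pure fun j => by
    by_cases hj : j ∈ T ∪ R
    · exact Or.inr (hY j hj)
    · rw [Finset.mem_union, not_or] at hj; exact Or.inl (hf.mono hj.1 hj.2)
  have hff := pureM_sq_zero H.hJ hf hT
  by_cases hall : ∀ j, j ∉ T ∪ R → Cen j Y
  · obtain ⟨c, hc⟩ := exists_eq_smul_one_of_cen fun j => by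
      by_cases hj : j ∈ T ∪ R
      · exact hY j hj
      · exact hall j hj
    have hc0 : c ≠ 0 := fun e => hY0 (by rw [hc, e, zero_smul])
    refine ⟨T, R, hbig.resolve_right fun h => h c hc, hT, hTR, f, hf, Ele.of_smul hc0 ?_⟩
    rwa [hc, mul_smul_comm, mul_one] at hE
  push Not at hall
  obtain ⟨j₀, hj₀, hnc⟩ := hall
  have hXX : ∀ A, (pureM f * Y) * A * (pureM f * Y) = Y * pureM f * A * (pureM f * Y) := fun A => by rw [hfY]
  have hXN : ∀ j, j ∉ T ∪ R → ∀ b, embM j b * pureM f = pureM f * embM j b := fun j hj b => by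
    rw [Finset.mem_union, not_or] at hj
    exact cen_pureM (hf.mono hj.1 hj.2) b
  have hX2 : pureM f * Y * (pureM f * Y) = 0 := by
    rw [mul_assoc, ← mul_assoc Y, ← hfY, mul_assoc, ← mul_assoc, hff, zero_mul]
  have hcard : ∀ (j : τ) (T' R' : Finset τ), j ∉ T ∪ R → T' ∪ R' = insert j (T ∪ R) →
      Fintype.card τ - (T' ∪ R').card < n ∧ 2 ≤ (T' ∪ R').card := fun j T' R' hj e => by
    have h1 : (T' ∪ R').card = (T ∪ R).card + 1 := by rw [e, Finset.card_insert_of_notMem hj]
    have h2 := Finset.card_le_univ (T' ∪ R')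
    have h3 : 1 ≤ (T ∪ R).card := Finset.card_pos.2 (hT.mono Finset.subset_union_left)
    omega
  by_cases hcon : ∃ j w, j ∉ T ∪ R ∧ cn j (J *ᵥ w) w Y ≠ 0
  · obtain ⟨j, w, hj, hw⟩ := hcon
    have hw0 : w ≠ 0 := fun e => hw (by
      have := cn_smul_right j (J *ᵥ w) w 0 Y
      rwa [zero_smul, zero_smul, ← e] at this)
    rw [Finset.mem_union, not_or] at hj
    obtain ⟨N, hN⟩ : ∃ N, N = embM j (nu J w) := ⟨_, rfl⟩
    have hNf : N * pureM f = pureM f * N := hN ▸ hXN j (by simp [hj]) _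
    have hZ : Ele M (N * (pureM f * Y) * N) :=
      (hE.contract H.two (hN ▸ H.ele_root j w) (by rw [hN, embM_mul, nu_sq H.hJ, embM_zero]) hX2 (by
        calc pureM f * Y * N * (pureM f * Y) = Y * pureM f * (N * pureM f) * Y := by rw [← mul_assoc, hfY]; simp only [mul_assoc]
          _ = Y * (pureM f * pureM f) * N * Y := by rw [hNf]; simp only [mul_assoc]
          _ = 0 := by rw [hff, mul_zero, zero_mul, zero_mul])).1
    have e : N * (pureM f * Y) * N = pureM (Function.update f j (nu J w)) * cn j (J *ᵥ w) w Y := by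
      rw [← mul_assoc, hNf, mul_assoc (pureM f), mul_assoc (pureM f), hN, nyn,
        pureM_update_of_one (hf.mono hj.1 hj.2), mul_assoc]
    rw [e] at hZ
    have hu : insert j T ∪ R = insert j (T ∪ R) := Finset.insert_union _ _ _
    obtain ⟨h1, h2⟩ := hcard j _ _ (by simp [hj]) hu
    refine IH _ h1 (insert j T) R _ _ rfl (Finset.insert_nonempty _ _)
      (Finset.disjoint_insert_left.2 ⟨hj.2, hTR⟩) (hf.insert_root hj.1 hj.2 hw0) (fun k hk => ?_) hw (Or.inl h2) hZ
    rw [hu, Finset.mem_insert] at hk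
    rcases hk with rfl | hk
    · exact cen_cn _ _ _ _
    · exact cen_cn_of _ _ (hY k hk)
  · push Not at hcon
    have h0 : ∀ w, cn j₀ (J *ᵥ w) w Y = 0 := fun w => hcon j₀ w hj₀
    obtain ⟨w, v, hwv, hc⟩ : ∃ w v, (J *ᵥ w) ⬝ᵥ v = 0 ∧ cn j₀ (J *ᵥ w) v Y ≠ 0 := by
      by_contra hh
      push Not at hh
      exact hnc (cen_of_cn H.hJ hh)
    have hind : ∀ c : F, v ≠ c • w := fun c e => hc (by rw [e, cn_smul_right, h0, smul_zero])
    have hw0 : w ≠ 0 := fun e => hc (by
      have := cn_smul_left j₀ (J *ᵥ w) v 0 Y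
      rw [zero_smul, zero_smul] at this
      rw [e, Matrix.mulVec_zero]
      exact this)
    obtain ⟨Nv, hNv⟩ : ∃ N, N = embM j₀ (nu J v) := ⟨_, rfl⟩
    obtain ⟨Nw, hNw⟩ : ∃ N, N = embM j₀ (nu J w) := ⟨_, rfl⟩
    have hNvf : Nv * pureM f = pureM f * Nv := hNv ▸ hXN j₀ hj₀ _
    have hNwf : Nw * pureM f = pureM f * Nw := hNw ▸ hXN j₀ hj₀ _
    obtain ⟨A, hA⟩ : ∃ A, A = Nv * Y - Y * Nv := ⟨_, rfl⟩
    have hfA : pureM f * A = A * pureM f := by
      rw [hA, mul_sub, sub_mul, ← mul_assoc, ← hNvf, mul_assoc, hfY, ← mul_assoc (pureM f), hfY, mul_assoc,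
        ← hNvf, ← mul_assoc]
      simp only [mul_assoc]
    have hD : Ele M (pureM f * A) := by
      have := (hE.contract H.two (hNv ▸ H.ele_root j₀ v) (by rw [hNv, embM_mul, nu_sq H.hJ, embM_zero]) hX2 (by
        calc pureM f * Y * Nv * (pureM f * Y) = Y * pureM f * (Nv * pureM f) * Y := by rw [← mul_assoc, hfY]; simp only [mul_assoc]
          _ = Y * (pureM f * pureM f) * Nv * Y := by rw [hNvf]; simp only [mul_assoc]
          _ = 0 := by rw [hff, mul_zero, zero_mul, zero_mul])).2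
      rwa [← mul_assoc, hNvf, mul_assoc (pureM f) Y, mul_assoc (pureM f) Nv, ← mul_sub, ← hA] at this
    have hD2 : pureM f * A * (pureM f * A) = 0 := by
      rw [mul_assoc, ← mul_assoc A, ← hfA, mul_assoc, ← mul_assoc, hff, zero_mul]
    have hE2 := (hD.contract H.two (hNw ▸ H.ele_root j₀ w) (by rw [hNw, embM_mul, nu_sq H.hJ, embM_zero]) hD2 (by
        calc pureM f * A * Nw * (pureM f * A) = A * pureM f * (Nw * pureM f) * A := by rw [← mul_assoc, hfA]; simp only [mul_assoc]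
          _ = A * (pureM f * pureM f) * Nw * A := by rw [hNwf]; simp only [mul_assoc]
          _ = 0 := by rw [hff, mul_zero, zero_mul, zero_mul])).2
    rw [← mul_assoc, hNwf, mul_assoc (pureM f) A, mul_assoc (pureM f) Nw, ← mul_sub, hA, hNv, hNw,
      bracket H.hJ h0 hwv, ← mul_assoc, ← pureM_update_of_one (by
        rw [Finset.mem_union, not_or] at hj₀; exact hf.mono hj₀.1 hj₀.2)] at hE2
    have hu : T ∪ insert j₀ R = insert j₀ (T ∪ R) := Finset.union_insert _ _ _
    obtain ⟨h1, h2⟩ := hcard j₀ _ _ hj₀ hu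
    rw [Finset.mem_union, not_or] at hj₀
    refine IH _ h1 T (insert j₀ R) _ _ rfl hT (Finset.disjoint_insert_right.2 ⟨hj₀.1, hTR⟩)
      (hf.insert_gm hj₀.1 hj₀.2 hw0 hind hwv) (fun k hk => ?_) hc (Or.inl h2) hE2
    rw [hu, Finset.mem_insert] at hk
    rcases hk with rfl | hk
    · exact cen_cn _ _ _ _
    · exact cen_cn_of _ _ (hY k hk)

/-- A non-scalar element next to a root gives a pure element. -/
theorem Hyp.exists_pure_start (H : Hyp J M) (hS : ¬ SmallAll J M) :
    ∃ T R : Finset τ, 2 ≤ (T ∪ R).card ∧ Pure J M T R := by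
  unfold SmallAll at hS
  push Not at hS
  obtain ⟨i, u, hu, Y, hY, hin, hns⟩ := hS
  have hE := H.ele_start hu hY hin
  have hY0 : Y ≠ 0 := fun e => hns 0 (by rw [e, zero_smul])
  refine exists_pure H _ {i} ∅ (Function.update 1 i (nu J u)) Y rfl (Finset.singleton_nonempty i)
    (Finset.disjoint_empty_right _) ⟨fun j hj => ?_, fun j hj => absurd hj (Finset.notMem_empty j), fun j hj _ => ?_⟩
    (fun j hj => ?_) hY0 (Or.inr hns) hE
  · rw [Finset.mem_singleton.1 hj, Function.update_self]; exact ⟨u, hu, rfl⟩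
  · rw [Function.update_of_ne (fun e => hj (Finset.mem_singleton.2 e)), Pi.one_apply]
  · rw [Finset.union_empty, Finset.mem_singleton] at hj
    exact hj ▸ hY

end CfsgLib.Classical.TensorWreathS
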