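import Cfsg.Agent.Lib.Classical.TensorWreathS.Grow
import Cfsg.Agent.Lib.Classical.TensorMixed.Gen

set_option autoImplicit false
set_option linter.unusedSectionVars false

/-!
A pure element spreads over all the factors, and then all the transvections lie in the group.
-/

namespace CfsgLib.Classical.TensorWreathS

open Matrix CfsgLib.Classical.TensorWreath
open CfsgLib.Classical.TensorSymp (adj Sp AForm tv)
open scoped MatrixGroups Kronecker

variable {F : Type*} [Field F] [Finite F] {τ : Type} [Fintype τ] [DecidableEq τ] {m : ℕ}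
variable {J : Matrix (Fin m) (Fin m) F} {M : Subgroup (GL (Ix τ m) F)}

theorem aform_JJ (hJ : AForm J) (h2 : (2 : F) ≠ 0) (ht : Odd (Fintype.card τ)) [NeZero m] :
    AForm (JJ J τ) := by
  have hs : (JJ J τ)ᵀ = -JJ J τ := by
    rw [transpose_pureM, show (fun _ : τ => Jᵀ) = fun _ => -J from funext fun _ => hJ.skew, pureM_neg_all,
      ht.neg_one_pow, neg_one_smul]
  refine ⟨hs, fun x => ?_, det_JJ hJ⟩
  have e : x ⬝ᵥ JJ J τ *ᵥ x = x ⬝ᵥ (JJ J τ)ᵀ *ᵥ x := by
    rw [Matrix.mulVec_transpose, dotProduct_comm x (x ᵥ* _), ← Matrix.dotProduct_mulVec]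
  rw [hs, Matrix.neg_mulVec, dotProduct_neg] at e
  have : (2 : F) * (x ⬝ᵥ JJ J τ *ᵥ x) = 0 := by linear_combination e
  exact (mul_eq_zero.1 this).resolve_left h2

/-- The number of roots in a pure element is odd. -/
theorem Pure.odd_card (H : Hyp J M) {T R : Finset τ} (h : Pure J M T R) : Odd T.card := by
  haveI := H.neZero
  obtain ⟨hT, hTR, f, hf, hE⟩ := h
  obtain ⟨Z, hZ⟩ : ∃ Z, Z = pureM f := ⟨_, rfl⟩
  rw [← hZ] at hE
  have iso : ∀ c : F, (1 + c • Z)ᵀ * JJ J τ * (1 + c • Z) = JJ J τ := fun c => by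
    obtain ⟨g, hg, hg'⟩ := hE c
    have := H.le g hg
    rw [hg'] at this
    exact this
  obtain ⟨L, hL⟩ : ∃ L, L = JJ J τ * Z := ⟨_, rfl⟩
  have hJJ := transpose_JJ (τ := τ) (J := J) H.hJ
  have hLt : Lᵀ = (-1 : F) ^ Fintype.card τ • (Zᵀ * JJ J τ) := by rw [hL, Matrix.transpose_mul, hJJ, Matrix.mul_smul]
  have hsym : Lᵀ = (-(-1 : F) ^ Fintype.card τ) • L := by
    have h1 := iso 1
    have h2 := iso (-1)
    simp only [Matrix.transpose_add, Matrix.transpose_one, Matrix.transpose_smul, add_mul, mul_add, one_mul, mul_one,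
      smul_mul_assoc, mul_smul_comm, smul_add, smul_smul, one_smul] at h1 h2
    rw [← hL, mul_neg_one, neg_neg, one_smul] at h2
    rw [← hL] at h1
    have h3 : (2 : F) • (Zᵀ * JJ J τ + L) = 0 := by
      linear_combination (norm := module) h1 - h2
    have h4 := (smul_eq_zero.1 h3).resolve_left H.two
    rw [hLt, eq_neg_of_add_eq_zero_left h4, smul_neg, neg_smul]
  obtain ⟨ε, hε⟩ : ∃ ε : τ → F, ε = fun j => if j ∈ T then 1 else -1 := ⟨_, rfl⟩
  have hg : L = pureM (fun j => J * f j) := by rw [hL, hZ, pureM_mul]; rfl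
  have hLt' : Lᵀ = (∏ j, ε j) • L := by
    rw [hg, transpose_pureM, ← pureM_smul_all]
    refine congrArg pureM (funext fun j => ?_)
    rw [hε]
    dsimp only
    by_cases hjT : j ∈ T
    · obtain ⟨x, -, hx⟩ := hf.1 j hjT
      rw [if_pos hjT, one_smul, hx, nu, Matrix.mul_vecMulVec, Matrix.transpose_vecMulVec]
    · rw [if_neg hjT, neg_one_smul]
      by_cases hjR : j ∈ R
      · obtain ⟨z, v, -, -, -, hzv⟩ := hf.2.1 j hjR
        rw [hzv, gm, Matrix.mul_sub, Matrix.mul_vecMulVec, Matrix.mul_vecMulVec, Matrix.transpose_sub,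
          Matrix.transpose_vecMulVec, Matrix.transpose_vecMulVec, neg_sub]
      · rw [hf.2.2 j hjT hjR, mul_one, H.hJ.skew]
  have hL0 : L ≠ 0 := by
    rw [hg]
    refine pureM_ne_zero fun j e0 => ?_
    have e1 : f j = 0 := by
      have := congrArg (J⁻¹ * ·) e0
      simpa [← Matrix.mul_assoc, Matrix.nonsing_inv_mul J H.hJ.isUnit_det] using this
    by_cases hjT : j ∈ T
    · obtain ⟨x, hx0, hx⟩ := hf.1 j hjT
      exact nu_ne_zero H.hJ hx0 (hx ▸ e1)
    by_cases hjR : j ∈ R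
    · obtain ⟨z, v, hz, hv, -, hzv⟩ := hf.2.1 j hjR
      obtain ⟨y, hy1, hy2⟩ := H.hJ.exists_perp_ne hz hv 1 0
      have h4 := congrArg (· *ᵥ y) (hzv ▸ e1 : gm J z v = 0)
      simp only [gm_mulVec, hy1, hy2, one_smul, zero_smul, sub_zero, Matrix.zero_mulVec] at h4
      exact hv 0 (by rw [h4, zero_smul])
    · rw [hf.2.2 j hjT hjR] at e1
      exact one_ne_zero e1
  rw [hsym] at hLt'
  have hprod : ∏ j, ε j = -(-1 : F) ^ Fintype.card τ := by
    have h5 : (-(-1 : F) ^ Fintype.card τ - ∏ j, ε j) • L = 0 := by rw [sub_smul, ← hLt', sub_self]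
    exact (sub_eq_zero.1 ((smul_eq_zero.1 h5).resolve_right hL0)).symm
  rw [hε, Finset.prod_ite] at hprod
  simp only [Finset.prod_const_one, one_mul, Finset.prod_const] at hprod
  rcases Nat.even_or_odd T.card with hev | hod
  swap
  · exact hod
  exfalso
  have hc : (Finset.univ.filter fun j => j ∉ T).card = Fintype.card τ - T.card := by
    rw [← Finset.card_compl]; congr 1; ext j; simp
  have hadd : Fintype.card τ = (Fintype.card τ - T.card) + T.card :=
    (Nat.sub_add_cancel (Finset.card_le_univ T)).symm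
  rw [hc] at hprod
  conv_rhs at hprod => rw [hadd, pow_add, hev.neg_one_pow, mul_one]
  have h2' : (2 : F) * (-1) ^ (Fintype.card τ - T.card) = 0 := by linear_combination hprod
  exact mul_ne_zero H.two (pow_ne_zero _ (neg_ne_zero.2 one_ne_zero)) h2'

/-- Changing each factor by an isometry. -/
theorem Hyp.ele_change (H : Hyp J M) {f f' : τ → Matrix (Fin m) (Fin m) F} (hf : Ele M (pureM f))
    (h : ∀ j, ∃ S, Sp J S ∧ S * f j * S⁻¹ = f' j) : Ele M (pureM f') := by
  choose S hS hSf using h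
  have := hf.conj (H.inM_pure hS) (pureM_mul_inv H.hJ hS).1
  rwa [pureM_mul, pureM_mul, show (S * f * fun j => (S j)⁻¹) = f' from funext fun j => hSf j] at this

/-- Permuting the factors. -/
theorem Hyp.ele_perm (_H : Hyp J M) {f : τ → Matrix (Fin m) (Fin m) F} (hf : Ele M (pureM f)) (σ : Equiv.Perm τ)
    (hσ : InM M (permM F m σ)) : Ele M (pureM fun j => f (σ.symm j)) := by
  have := hf.conj hσ (permM_mul_inv σ)
  rwa [permM_mul_pureM, mul_assoc, permM_mul_inv, mul_one] at this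

theorem prod_sign (h2 : (2 : F) ≠ 0) {U O : Finset τ} (hO : O ⊆ U) (hodd : Odd O.card) :
    ∏ j ∈ U, (if j ∈ O then (-1 : F) else 1) ≠ 1 := by
  rw [Finset.prod_ite_mem, Finset.inter_eq_right.2 hO, Finset.prod_const, hodd.neg_one_pow]
  exact fun h => h2 (by linear_combination -h)

theorem swap_mem {b s : τ} {T : Finset τ} (hb : b ∈ T) (hs : s ∉ T) (j : τ) :
    Equiv.swap b s j ∈ T ↔ j ∈ insert s (T.erase b) := by
  have hbs : b ≠ s := fun e => hs (e ▸ hb)
  by_cases h1 : j = b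
  · subst h1; simp [hs, hbs]
  by_cases h2 : j = s
  · subst h2; simp [hb]
  rw [Equiv.swap_apply_of_ne_of_ne h1 h2]
  simp [h1, h2]

theorem self_change (hJ : AForm J) (A : Matrix (Fin m) (Fin m) F) : ∃ S, Sp J S ∧ S * A * S⁻¹ = A :=
  ⟨1, hJ.sp_one, by rw [one_mul, inv_one, mul_one]⟩

/-- A pure element spreads to more factors. -/
theorem Pure.grow (H : Hyp J M) (htodd : Odd (Fintype.card τ))
    (hp : ∀ σ : Equiv.Perm τ, InM M (permM F m σ)) {T R : Finset τ} (hP : Pure J M T R) (hbig : 2 ≤ (T ∪ R).card)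
    (hne : T ≠ Finset.univ) : ∃ U : Finset τ, T.card < U.card ∧ 2 ≤ U.card ∧ Pure J M U ∅ := by
  classical
  haveI := H.neZero
  have hJ := H.hJ
  have hodd := hP.odd_card H
  obtain ⟨hT, hTR, f₀, hf, hE⟩ := hP
  obtain ⟨e0, he0⟩ : ∃ e0 : Fin m → F, e0 ≠ 0 := ⟨Pi.single 0 1, by simp⟩
  obtain ⟨e1, he01⟩ := hJ.exists_form_ne he0
  have he1 : e1 ≠ 0 := fun h => by simp [h] at he01
  -- the data at the alternating factors
  have dat : ∀ j, ∃ z v v' x : Fin m → F, j ∈ R → f₀ j = gm J z v ∧ z ≠ 0 ∧ (J *ᵥ z) ⬝ᵥ v = 0 ∧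
      (J *ᵥ z) ⬝ᵥ v' = 0 ∧ (J *ᵥ v) ⬝ᵥ v' = -1 ∧ (∃ S, Sp J S ∧ S * gm J z v * S⁻¹ = gm J z v') ∧
      x ≠ 0 ∧ (J *ᵥ z) ⬝ᵥ x = 0 ∧ (J *ᵥ x) ⬝ᵥ v = 1 := by
    intro j
    by_cases hj : j ∈ R
    swap
    · exact ⟨0, 0, 0, 0, fun h => absurd h hj⟩
    obtain ⟨z, v, hz, hv, ho, hzv⟩ := hf.2.1 j hj
    obtain ⟨u, hu1, hu2⟩ := hJ.exists_perp_ne hz hv 0 (-1)
    have hu0 : u ≠ 0 := fun e => by simp [e] at hu2
    have huv : (J *ᵥ u) ⬝ᵥ v = 1 := by rw [hJ.swap, hu2, neg_neg]
    refine ⟨z, v, v + u, u, fun _ => ⟨hzv, hz, ho, by rw [dotProduct_add, ho, hu1, add_zero],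
      by rw [dotProduct_add, hJ.self, hu2, zero_add], ⟨tv J u 1, hJ.sp_tv u 1, ?_⟩, hu0, hu1, huv⟩⟩
    rw [gm_conj hJ (hJ.sp_tv u 1), hJ.tv_apply, hJ.tv_apply, huv, hJ.swap u z, hu1, neg_zero, mul_zero, zero_smul,
      add_zero, mul_one, one_smul]
  choose z v v' x hd using dat
  have toT : ∀ j, j ∈ T → ∀ {y : Fin m → F}, y ≠ 0 → ∃ S, Sp J S ∧ S * f₀ j * S⁻¹ = nu J y := fun j hj y hy => by
    obtain ⟨a, ha, haf⟩ := hf.1 j hj
    obtain ⟨S, hS, hSa⟩ := move hJ ha hy
    exact ⟨S, hS, by rw [haf, nu_conj hJ hS, hSa]⟩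
  have notR : ∀ {j}, j ∈ T → j ∉ R := fun h => Finset.disjoint_left.1 hTR h
  rcases Nat.even_or_odd R.card with hRe | hRo
  · by_cases hR0 : R = ∅
    · -- roots only: two of them move out
      subst hR0
      rw [Finset.union_empty] at hbig
      obtain ⟨b1, hb1, b2, hb2, hb⟩ := Finset.one_lt_card.1 (show 1 < T.card by omega)
      have hlt : T.card < Fintype.card τ := (Finset.card_lt_iff_ne_univ T).2 hne
      obtain ⟨s1, hs1, s2, hs2, hs⟩ := Finset.one_lt_card.1 (show 1 < Tᶜ.card by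
        rw [Finset.card_compl]
        obtain ⟨p, hpt⟩ := htodd
        obtain ⟨k, hk⟩ := hodd
        omega)
      rw [Finset.mem_compl] at hs1 hs2
      obtain ⟨O, hO⟩ : ∃ O, O = (T.erase b1).erase b2 := ⟨_, rfl⟩
      obtain ⟨T', hT'⟩ : ∃ T', T' = insert s2 ((insert s1 (T.erase b1)).erase b2) := ⟨_, rfl⟩
      obtain ⟨U, hU⟩ : ∃ U, U = insert s1 (insert s2 T) := ⟨_, rfl⟩
      obtain ⟨f, hfd⟩ : ∃ f : τ → Matrix (Fin m) (Fin m) F, ∀ j, f j = if j ∈ T then nu J e0 else 1 :=
        ⟨_, fun _ => rfl⟩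
      obtain ⟨g, hgd⟩ : ∃ g : τ → Matrix (Fin m) (Fin m) F, ∀ j, g j = if j ∈ T' then nu J e1 else 1 :=
        ⟨_, fun _ => rfl⟩
      have hfE : Ele M (pureM f) := H.ele_change hE fun j => by
        rw [hfd]
        by_cases hj : j ∈ T
        · rw [if_pos hj]; exact toT j hj he0
        · rw [if_neg hj, hf.2.2 j hj (Finset.notMem_empty j)]; exact self_change hJ _
      have hgE : Ele M (pureM g) := by
        have h0 : Ele M (pureM fun j => if j ∈ T then nu J e1 else 1) := H.ele_change hE fun j => by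
          by_cases hj : j ∈ T
          · rw [if_pos hj]; exact toT j hj he1
          · rw [if_neg hj, hf.2.2 j hj (Finset.notMem_empty j)]; exact self_change hJ _
        have h1 := H.ele_perm (H.ele_perm h0 (Equiv.swap b1 s1) (hp _)) (Equiv.swap b2 s2) (hp _)
        convert h1 using 2
        funext j
        rw [hgd, Equiv.symm_swap, Equiv.symm_swap, hT']
        refine if_congr ?_ rfl rfl
        rw [swap_mem hb1 hs1, ← swap_mem (b := b2) (s := s2) (T := insert s1 (T.erase b1))]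
        · exact Finset.mem_insert_of_mem (Finset.mem_erase.2 ⟨Ne.symm hb, hb2⟩)
        · rw [Finset.mem_insert, not_or]
          exact ⟨Ne.symm hs, fun h => hs2 (Finset.mem_of_mem_erase h)⟩
      have hOU : O ⊆ U := by
        intro j hj; rw [hO] at hj; rw [hU]
        exact Finset.mem_insert_of_mem (Finset.mem_insert_of_mem (Finset.mem_of_mem_erase (Finset.mem_of_mem_erase hj)))
      have hOodd : Odd O.card := by
        rw [hO, Finset.card_erase_of_mem (Finset.mem_erase.2 ⟨Ne.symm hb, hb2⟩), Finset.card_erase_of_mem hb1]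
        obtain ⟨k, hk⟩ := hodd
        exact ⟨k - 1, by omega⟩
      have hcardU : T.card < U.card := by
        rw [hU, Finset.card_insert_of_notMem (by simp [hs, hs1]), Finset.card_insert_of_notMem hs2]; omega
      refine ⟨U, hcardU, by omega, pure_of_two H hfE hgE (U := U) (c₀ := b1) (b := b1) (s := s1)
        (ε := fun j => if j ∈ O then -1 else 1) (fun j hj => ?_) (by simp [hU, hb1]) (prod_sign H.two hOU hOodd)
        ?_ ?_ ?_ ?_ ?_⟩
      · simp only [hU, Finset.mem_insert, not_or] at hj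
        have hjT' : j ∉ T' := by simp [hT', hj.1, hj.2.1, hj.2.2]
        exact ⟨by rw [hfd, if_neg hj.2.2], by rw [hgd, if_neg hjT']⟩
      · rw [hfd, if_pos hb1, nu_sq hJ]
      · have : b1 ∉ T' := by
          have m1 : b1 ≠ s1 := fun e => hs1 (e ▸ hb1)
          have m2 : b1 ≠ s2 := fun e => hs2 (e ▸ hb1)
          simp [hT', m1, m2]
        rw [hfd, hgd, if_pos hb1, if_neg this, mul_one, nu_sq hJ]
      · have : s1 ∈ T' := by
          have m1 : s1 ≠ b2 := fun e => hs1 (e ▸ hb2)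
          simp [hT', m1]
        rw [hgd, if_pos this, nu_sq hJ]
      · have h1 : b1 ∉ T' := by
          have m1 : b1 ≠ s1 := fun e => hs1 (e ▸ hb1)
          have m2 : b1 ≠ s2 := fun e => hs2 (e ▸ hb1)
          simp [hT', m1, m2]
        have h2 : b1 ∉ O := by simp [hO]
        simp only [hfd, hgd, if_pos hb1, if_neg h1, if_neg h2, one_mul, mul_one]
        exact (site_anchor_single hJ he0).2
      · intro j hj hj0
        rw [hU, Finset.mem_insert, Finset.mem_insert] at hj
        by_cases hjT : j ∈ T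
        · have n1 : j ≠ s1 := fun e => hs1 (e ▸ hjT)
          have n2 : j ≠ s2 := fun e => hs2 (e ▸ hjT)
          by_cases hj2 : j = b2
          · subst hj2
            simp only [hfd, hgd, hT', hO, Finset.mem_insert, Finset.mem_erase, hjT, n1, n2, ne_eq, not_true,
              false_and, or_false, if_false, if_true, one_mul, mul_one]
            exact (site_anchor_single hJ he0).1
          · simp only [hfd, hgd, hT', hO, Finset.mem_insert, Finset.mem_erase, hjT, hj0, hj2, n1, n2, ne_eq,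
              not_false_eq_true, and_self, false_or, true_and, if_true]
            exact site_roots hJ he01
        · have hjs : j = s1 ∨ j = s2 := hj.elim Or.inl fun h => h.elim Or.inr (absurd · hjT)
          have n2 : j ≠ b2 := fun e => hjT (e ▸ hb2)
          have hT'j : j ∈ T' := by rcases hjs with rfl | rfl <;> simp [hT', n2]
          simp only [hfd, hgd, hO, Finset.mem_erase, hjT, and_false, hT'j, if_false, if_true, one_mul, mul_one]
          exact (site_anchor_single hJ he1).1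
    · -- an even number of alternating factors
      obtain ⟨b, hb⟩ := hT
      obtain ⟨a, ha⟩ := Finset.nonempty_iff_ne_empty.2 hR0
      have hR2 : 2 ≤ R.card := by
        obtain ⟨k, hk⟩ := hRe
        have : 0 < R.card := Finset.card_pos.2 ⟨a, ha⟩
        omega
      obtain ⟨c₀, hc₀⟩ : (R.erase a).Nonempty := Finset.card_pos.1 (by rw [Finset.card_erase_of_mem ha]; omega)
      obtain ⟨hca, hcR⟩ := Finset.mem_erase.1 hc₀
      have hab : a ≠ b := fun e => notR hb (e ▸ ha)
      obtain ⟨hza, hz0, -, -, -, -, hx0, hzx, hxv⟩ := hd a ha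
      obtain ⟨-, -, hm1⟩ := site_mixed hJ hz0 hx0 hzx hxv
      obtain ⟨f, hfd⟩ : ∃ f : τ → Matrix (Fin m) (Fin m) F, ∀ j, f j =
          if j = b then nu J (x a) else if j ∈ T then nu J e0 else f₀ j := ⟨_, fun _ => rfl⟩
      obtain ⟨f', hfd'⟩ : ∃ f' : τ → Matrix (Fin m) (Fin m) F, ∀ j, f' j =
          if j = b then nu J (x a) else if j ∈ T then nu J e1 else
            if j ∈ R.erase a then gm J (z j) (v' j) else f₀ j := ⟨_, fun _ => rfl⟩
      have hfE : Ele M (pureM f) := H.ele_change hE fun j => by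
        rw [hfd]
        split_ifs with h1 h2
        · subst h1; exact toT j hb hx0
        · exact toT j h2 he0
        · exact self_change hJ _
      have hfE' : Ele M (pureM f') := H.ele_change hE fun j => by
        rw [hfd']
        split_ifs with h1 h2 h3
        · subst h1; exact toT j hb hx0
        · exact toT j h2 he1
        · obtain ⟨hzj, -, -, -, -, hS, -⟩ := hd j (Finset.mem_of_mem_erase h3)
          rw [hzj]; exact hS
        · exact self_change hJ _
      have hgE := H.ele_perm hfE' (Equiv.swap a b) (hp _)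
      simp only [Equiv.symm_swap] at hgE
      obtain ⟨O, hO⟩ : ∃ O, O = T.erase b ∪ R.erase a := ⟨_, rfl⟩
      have hdis : Disjoint (T.erase b) (R.erase a) :=
        Finset.disjoint_left.2 fun j h1 h2 => notR (Finset.mem_of_mem_erase h1) (Finset.mem_of_mem_erase h2)
      have hOU : O ⊆ T ∪ R := hO ▸ Finset.union_subset_union (Finset.erase_subset _ _) (Finset.erase_subset _ _)
      have hOodd : Odd O.card := by
        rw [hO, Finset.card_union_of_disjoint hdis, Finset.card_erase_of_mem hb, Finset.card_erase_of_mem ha]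
        obtain ⟨k, hk⟩ := hodd; obtain ⟨l, hl⟩ := hRe
        exact ⟨k + l - 1, by omega⟩
      have hcardU : T.card < (T ∪ R).card := by rw [Finset.card_union_of_disjoint hTR]; omega
      have gfa : f' (Equiv.swap a b a) = nu J (x a) := by rw [Equiv.swap_apply_left, hfd', if_pos rfl]
      have gfb : f' (Equiv.swap a b b) = gm J (z a) (v a) := by
        rw [Equiv.swap_apply_right, hfd', if_neg hab, if_neg (fun h => notR h ha), if_neg (Finset.notMem_erase _ _), hza]
      have fa : f a = gm J (z a) (v a) := by rw [hfd, if_neg hab, if_neg (fun h => notR h ha), hza]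
      have fb : f b = nu J (x a) := by rw [hfd, if_pos rfl]
      have atR : ∀ j ∈ R, j ≠ a → f j = gm J (z j) (v j) ∧ f' (Equiv.swap a b j) = gm J (z j) (v' j) := by
        intro j hj hja
        have hjT : j ∉ T := fun h => notR h hj
        have hjb : j ≠ b := fun e => hjT (e ▸ hb)
        rw [Equiv.swap_apply_of_ne_of_ne hja hjb, hfd, hfd', if_neg hjb, if_neg hjb, if_neg hjT, if_neg hjT,
          if_pos (Finset.mem_erase.2 ⟨hja, hj⟩)]
        exact ⟨(hd j hj).1, rfl⟩
      refine ⟨T ∪ R, hcardU, hbig, pure_of_two H hfE hgE (U := T ∪ R) (c₀ := c₀) (b := b) (s := a)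
        (ε := fun j => if j ∈ O then -1 else 1) (fun j hj => ?_) (Finset.mem_union_right _ hcR)
        (prod_sign H.two hOU hOodd) ?_ ?_ ?_ ?_ ?_⟩
      · rw [Finset.mem_union, not_or] at hj
        have hjb : j ≠ b := fun e => hj.1 (e ▸ hb)
        have hja : j ≠ a := fun e => hj.2 (e ▸ ha)
        rw [Equiv.swap_apply_of_ne_of_ne hja hjb, hfd, hfd', if_neg hjb, if_neg hjb, if_neg hj.1, if_neg hj.1,
          if_neg (fun h => hj.2 (Finset.mem_of_mem_erase h)), hf.2.2 j hj.1 hj.2]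
        exact ⟨rfl, rfl⟩
      · rw [fb, nu_sq hJ]
      · rw [fb, gfb]; exact hm1
      · rw [gfa, nu_sq hJ]
      · obtain ⟨hc1, hc2⟩ := atR c₀ hcR hca
        obtain ⟨-, hz, ho, ho', hvv, -⟩ := hd c₀ hcR
        rw [hc1, hc2, if_pos (hO ▸ Finset.mem_union_right _ hc₀)]
        exact (site_alt hJ hz ho ho' hvv).2
      · intro j hj hj0
        obtain ⟨s1, s2, -⟩ := site_mixed hJ hz0 hx0 hzx hxv
        by_cases hja : j = a
        · subst hja
          have hjT : j ∉ T := fun h => notR h ha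
          rw [gfa, fa, if_neg (by simp [hO, hjT])]
          exact s2
        by_cases hjb : j = b
        · subst hjb
          rw [gfb, fb, if_neg (by simp [hO, notR hb])]
          exact s1
        rcases Finset.mem_union.1 hj with hjT | hjR
        · rw [Equiv.swap_apply_of_ne_of_ne hja hjb, hfd, hfd', if_neg hjb, if_neg hjb, if_pos hjT, if_pos hjT,
            if_pos (hO ▸ Finset.mem_union_left _ (Finset.mem_erase.2 ⟨hjb, hjT⟩))]
          exact site_roots hJ he01
        · obtain ⟨hc1, hc2⟩ := atR j hjR hja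
          obtain ⟨-, hz, ho, ho', hvv, -⟩ := hd j hjR
          rw [hc1, hc2, if_pos (hO ▸ Finset.mem_union_right _ (Finset.mem_erase.2 ⟨hja, hjR⟩))]
          exact (site_alt hJ hz ho ho' hvv).1
  · -- an odd number of alternating factors
    obtain ⟨b, hb⟩ := hT
    obtain ⟨s, hs⟩ : (T ∪ R)ᶜ.Nonempty := Finset.card_pos.1 (by
      rw [Finset.card_compl, Finset.card_union_of_disjoint hTR]
      obtain ⟨p, hpt⟩ := htodd
      obtain ⟨k, hk⟩ := hodd; obtain ⟨l, hl⟩ := hRo
      have := Finset.card_le_univ (T ∪ R)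
      rw [Finset.card_union_of_disjoint hTR] at this
      omega)
    rw [Finset.mem_compl, Finset.mem_union, not_or] at hs
    obtain ⟨hsT, hsR⟩ := hs
    have hbR : b ∉ R := notR hb
    have hbs : b ≠ s := fun e => hsT (e ▸ hb)
    obtain ⟨f, hfd⟩ : ∃ f : τ → Matrix (Fin m) (Fin m) F, ∀ j, f j =
        if j ∈ T then nu J e0 else f₀ j := ⟨_, fun _ => rfl⟩
    obtain ⟨f', hfd'⟩ : ∃ f' : τ → Matrix (Fin m) (Fin m) F, ∀ j, f' j =
        if j ∈ T then nu J e1 else if j ∈ R then gm J (z j) (v' j) else f₀ j := ⟨_, fun _ => rfl⟩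
    have hfE : Ele M (pureM f) := H.ele_change hE fun j => by
      rw [hfd]
      split_ifs with h1
      · exact toT j h1 he0
      · exact self_change hJ _
    have hfE' : Ele M (pureM f') := H.ele_change hE fun j => by
      rw [hfd']
      split_ifs with h1 h2
      · exact toT j h1 he1
      · obtain ⟨hzj, -, -, -, -, hS, -⟩ := hd j h2
        rw [hzj]; exact hS
      · exact self_change hJ _
    have hgE := H.ele_perm hfE' (Equiv.swap b s) (hp _)
    simp only [Equiv.symm_swap] at hgE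
    obtain ⟨O, hO⟩ : ∃ O, O = T.erase b ∪ R := ⟨_, rfl⟩
    have hOU : O ⊆ insert s (T ∪ R) := by
      rw [hO]
      exact (Finset.union_subset_union (Finset.erase_subset _ _) (Finset.Subset.refl _)).trans (Finset.subset_insert _ _)
    have hOodd : Odd O.card := by
      rw [hO, Finset.card_union_of_disjoint (Finset.disjoint_left.2 fun j h1 => notR (Finset.mem_of_mem_erase h1)),
        Finset.card_erase_of_mem hb]
      obtain ⟨k, hk⟩ := hodd; obtain ⟨l, hl⟩ := hRo
      exact ⟨k + l, by omega⟩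
    have hcardU : T.card < (insert s (T ∪ R)).card ∧ 2 ≤ (insert s (T ∪ R)).card := by
      rw [Finset.card_insert_of_notMem (by simp [hsT, hsR]), Finset.card_union_of_disjoint hTR]
      have : 0 < T.card := Finset.card_pos.2 ⟨b, hb⟩
      omega
    refine ⟨insert s (T ∪ R), hcardU.1, hcardU.2, pure_of_two H hfE hgE (U := insert s (T ∪ R)) (c₀ := b) (b := b)
      (s := s) (ε := fun j => if j ∈ O then -1 else 1) (fun j hj => ?_)
      (Finset.mem_insert_of_mem (Finset.mem_union_left _ hb)) (prod_sign H.two hOU hOodd) ?_ ?_ ?_ ?_ ?_⟩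
    · simp only [Finset.mem_insert, Finset.mem_union, not_or] at hj
      have hjb : j ≠ b := fun e => hj.2.1 (e ▸ hb)
      rw [Equiv.swap_apply_of_ne_of_ne hjb hj.1, hfd, hfd', if_neg hj.2.1, if_neg hj.2.1, if_neg hj.2.2,
        hf.2.2 j hj.2.1 hj.2.2]
      exact ⟨rfl, rfl⟩
    · rw [hfd, if_pos hb, nu_sq hJ]
    · rw [Equiv.swap_apply_left, hfd, hfd', if_pos hb, if_neg hsT, if_neg hsR, hf.2.2 s hsT hsR, mul_one, nu_sq hJ]
    · rw [Equiv.swap_apply_right, hfd', if_pos hb, nu_sq hJ]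
    · rw [Equiv.swap_apply_left, hfd, hfd', if_pos hb, if_neg hsT, if_neg hsR, hf.2.2 s hsT hsR, one_mul, mul_one,
        if_neg (by simp [hO, hbR])]
      exact (site_anchor_single hJ he0).2
    · intro j hj hjb
      by_cases hjs : j = s
      · subst hjs
        rw [Equiv.swap_apply_right, hfd, hfd', if_pos hb, if_neg hsT, hf.2.2 j hsT hsR, one_mul, mul_one,
          if_neg (by simp [hO, hsT, hsR])]
        exact (site_anchor_single hJ he1).1
      rw [Finset.mem_insert, or_iff_right hjs, Finset.mem_union] at hj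
      rw [Equiv.swap_apply_of_ne_of_ne hjb hjs, hfd, hfd']
      rcases hj with hjT | hjR
      · rw [if_pos hjT, if_pos hjT, if_pos (hO ▸ Finset.mem_union_left _ (Finset.mem_erase.2 ⟨hjb, hjT⟩))]
        exact site_roots hJ he01
      · have hjT : j ∉ T := fun h => notR h hjR
        obtain ⟨hzj, hz, ho, ho', hvv, -⟩ := hd j hjR
        rw [if_neg hjT, if_neg hjT, if_pos hjR, if_pos (hO ▸ Finset.mem_union_right _ hjR), hzj]
        exact (site_alt hJ hz ho ho' hvv).1

/-- The tensor product of vectors. -/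
def tnv (x : τ → Fin m → F) : Ix τ m → F := fun p => ∏ j, x j (p j)

theorem tnv_dot (x y : τ → Fin m → F) : tnv x ⬝ᵥ tnv y = ∏ j, x j ⬝ᵥ y j := by
  simp only [dotProduct, tnv, Fintype.prod_sum, ← Finset.prod_mul_distrib]

theorem pureM_mulVec_tnv (g : τ → Matrix (Fin m) (Fin m) F) (x : τ → Fin m → F) :
    pureM g *ᵥ tnv x = tnv fun j => g j *ᵥ x j := by
  funext p
  simp only [Matrix.mulVec, dotProduct, tnv, pureM_apply, Fintype.prod_sum, ← Finset.prod_mul_distrib]

theorem pureM_nu (x : τ → Fin m → F) :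
    pureM (fun j => nu J (x j)) = Matrix.vecMulVec (tnv x) (JJ J τ *ᵥ tnv x) := by
  rw [pureM_mulVec_tnv]
  ext p q
  simp only [pureM_apply, nu, Matrix.vecMulVec_apply, tnv, ← Finset.prod_mul_distrib]

/-- A pure product of roots over all the factors. -/
theorem Pure.reach_univ (H : Hyp J M) (htodd : Odd (Fintype.card τ))
    (hp : ∀ σ : Equiv.Perm τ, InM M (permM F m σ)) : ∀ (n : ℕ) (T R : Finset τ), Fintype.card τ - T.card = n →
    2 ≤ (T ∪ R).card → Pure J M T R → Pure J M Finset.univ ∅ := by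
  intro n
  induction n using Nat.strong_induction_on with
  | _ n IH =>
  intro T R hn hbig hP
  by_cases hT : T = Finset.univ
  · subst hT
    obtain rfl : R = ∅ := Finset.eq_empty_of_forall_notMem fun j hj =>
      Finset.disjoint_left.1 hP.2.1 (Finset.mem_univ j) hj
    exact hP
  obtain ⟨U, hU, hU2, hUP⟩ := hP.grow H htodd hp hbig hT
  refine IH _ ?_ U ∅ rfl (by rw [Finset.union_empty]; exact hU2) hUP
  have := Finset.card_le_univ U
  omega

/-- All the transvections. -/
theorem Hyp.all_transvections (H : Hyp J M) (htodd : Odd (Fintype.card τ))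
    (hp : ∀ σ : Equiv.Perm τ, InM M (permM F m σ)) (hS : ¬ SmallAll J M) (v : Ix τ m → F) :
    Ele M (Matrix.vecMulVec v (JJ J τ *ᵥ v)) := by
  classical
  haveI := H.neZero
  have hJ := H.hJ
  obtain ⟨T, R, hbig, hP⟩ := H.exists_pure_start hS
  obtain ⟨-, -, f, hf, hE⟩ := Pure.reach_univ H htodd hp _ T R rfl hbig hP
  have hJJ := aform_JJ (τ := τ) hJ H.two htodd
  obtain ⟨W, hW⟩ : ∃ W : Set (Ix τ m → F), W = {z | Ele M (Matrix.vecMulVec z (JJ J τ *ᵥ z))} := ⟨_, rfl⟩
  suffices h : v ∈ W by rw [hW] at h; exact h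
  obtain ⟨S, hSd⟩ : ∃ S : Set (Ix τ m → F), S = {z | ∃ x : τ → Fin m → F, (∀ j, x j ≠ 0) ∧ z = tnv x} := ⟨_, rfl⟩
  have fS : ∀ x y : τ → Fin m → F, (JJ J τ *ᵥ tnv x) ⬝ᵥ tnv y = ∏ j, (J *ᵥ x j) ⬝ᵥ y j := fun x y => by
    rw [pureM_mulVec_tnv, tnv_dot]
  have hsmul : ∀ x ∈ W, ∀ c : F, c • x ∈ W := by
    intro x hx c
    rw [hW] at hx ⊢
    show Ele M (Matrix.vecMulVec (c • x) (JJ J τ *ᵥ (c • x)))
    rw [Matrix.mulVec_smul, Matrix.smul_vecMulVec, Matrix.vecMulVec_smul, smul_smul]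
    exact Ele.smul hx _
  refine TensorMixed.closed_all H.two (fun x y => (JJ J τ *ᵥ x) ⬝ᵥ y) (fun x y z => dotProduct_add _ _ _)
    (fun c x y => by rw [dotProduct_smul, smul_eq_mul]) (fun x y => by rw [hJJ.swap]) (fun x hx => ?_) W S ?_ ?_
    hsmul ?_ ?_ ?_ v
  · obtain ⟨y, hy⟩ := hJJ.exists_form_ne hx
    exact ⟨y, by rw [hJJ.swap, hy]; exact neg_ne_zero.2 one_ne_zero⟩
  · rw [hW]
    intro c
    simp only [Matrix.zero_vecMulVec, smul_zero, add_zero]
    exact inM_one
  · intro x hx y hy hxy c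
    rw [hW] at hx hy ⊢
    obtain ⟨d, hd⟩ : ∃ d, d = c * ((JJ J τ *ᵥ y) ⬝ᵥ x)⁻¹ := ⟨_, rfl⟩
    have hyx : (JJ J τ *ᵥ y) ⬝ᵥ x ≠ 0 := by rw [hJJ.swap]; exact neg_ne_zero.2 hxy
    obtain ⟨t, ht⟩ : ∃ t, t = tv (JJ J τ) y d := ⟨_, rfl⟩
    have htM : InM M t := by
      have := hy d
      rwa [← Matrix.smul_vecMulVec, ← tv, ← ht] at this
    have htsp : Sp (JJ J τ) t := ht ▸ hJJ.sp_tv y d
    have ht2 := (hJJ.sp_inv htsp).1
    have htx : t *ᵥ x = x + c • y := by
      rw [ht, hJJ.tv_apply, hd, mul_assoc, inv_mul_cancel₀ hyx, mul_one]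
    have h2 := hx.conj htM ht2
    rw [Matrix.mul_vecMulVec, Matrix.vecMulVec_mul] at h2
    have e : (JJ J τ *ᵥ x) ᵥ* t⁻¹ = JJ J τ *ᵥ (t *ᵥ x) := by
      conv_lhs => rw [← hJJ.vecMul_image htsp x]
      rw [Matrix.vecMul_vecMul, ht2, Matrix.vecMul_one]
    rwa [e, htx] at h2
  · rw [hSd, hW]
    rintro _ ⟨x, hx, rfl⟩
    show Ele M _
    rw [← pureM_nu]
    refine H.ele_change hE fun j => ?_
    obtain ⟨a, ha, haf⟩ := hf.1 j (Finset.mem_univ j)
    obtain ⟨T', hT', hTa⟩ := move hJ ha (hx j)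
    exact ⟨T', hT', by rw [haf, nu_conj hJ hT', hTa]⟩
  · refine Submodule.eq_top_iff'.2 fun z => ?_
    have e1 : ∀ p : Ix τ m, (Pi.single p (1 : F) : Ix τ m → F) = tnv fun j => Pi.single (p j) (1 : F) := by
      intro p
      funext q
      by_cases hq : q = p
      · subst hq; simp [tnv]
      · obtain ⟨j, hj⟩ := Function.ne_iff.1 hq
        rw [Pi.single_eq_of_ne hq, tnv, Finset.prod_eq_zero (Finset.mem_univ j)]
        exact Pi.single_eq_of_ne hj _
    rw [show z = ∑ p, z p • (Pi.single p (1 : F) : Ix τ m → F) by ext q; simp [Finset.sum_apply, Pi.single_apply]]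
    refine Submodule.sum_mem _ fun p _ => Submodule.smul_mem _ _ (Submodule.subset_span ?_)
    rw [hSd, e1]
    exact ⟨_, fun j => by simp, rfl⟩
  · rw [hSd]
    rintro _ ⟨a, ha, rfl⟩ _ ⟨b, hb, rfl⟩
    have : ∀ j, ∃ e', (J *ᵥ a j) ⬝ᵥ e' ≠ 0 ∧ (J *ᵥ b j) ⬝ᵥ e' ≠ 0 := fun j => exists_nonorth hJ (ha j) (hb j)
    choose e' he' using this
    refine ⟨tnv e', ⟨e', fun j h => (he' j).1 (by rw [h, dotProduct_zero]), rfl⟩, ?_, ?_⟩
    · rw [fS]; exact Finset.prod_ne_zero_iff.2 fun j _ => (he' j).1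
    · rw [hJJ.swap, fS, neg_ne_zero]; exact Finset.prod_ne_zero_iff.2 fun j _ => (he' j).2

end CfsgLib.Classical.TensorWreathS
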