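import Cfsg.Agent.Lib.Classical.TensorWreathS.Contr

set_option autoImplicit false
set_option linter.unusedSectionVars false

/-!
Matrices whose contractions are scalars are sums over the factors.
-/

namespace CfsgLib.Classical.TensorWreathS

open Matrix CfsgLib.Classical.TensorWreath
open CfsgLib.Classical.TensorMixed (Zm)
open CfsgLib.Classical.TensorSymp (adj Sp AForm tv)
open CfsgLib.Classical.TensorMax (kc kr)
open CfsgLib.Classical.TensorWreathU (two back two_val back_two back_inj back_kron back_mul back_one back_add)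
open Pair (contr)
open scoped MatrixGroups Kronecker

variable {F : Type*} [Field F] [Finite F] {τ : Type} [Fintype τ] [DecidableEq τ] {m : ℕ}

/-- The entries at the factor `j` interchanged. -/
def swp (j : τ) (L : Matrix (Ix τ m) (Ix τ m) F) : Matrix (Ix τ m) (Ix τ m) F :=
  Matrix.of fun x y => L (Function.update x j (y j)) (Function.update y j (x j))

/-- The form at all the factors but `j`. -/
def plc (J : Matrix (Fin m) (Fin m) F) (j : τ) (S : Matrix (Fin m) (Fin m) F) : Matrix (Ix τ m) (Ix τ m) F :=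
  pureM (Function.update (fun _ : τ => J) j S)

theorem swp_add (j : τ) (L L' : Matrix (Ix τ m) (Ix τ m) F) : swp j (L + L') = swp j L + swp j L' := rfl

theorem swp_sub (j : τ) (L L' : Matrix (Ix τ m) (Ix τ m) F) : swp j (L - L') = swp j L - swp j L' := rfl

theorem swp_sum {κ : Type*} (j : τ) (s : Finset κ) (f : κ → Matrix (Ix τ m) (Ix τ m) F) :
    swp j (∑ x ∈ s, f x) = ∑ x ∈ s, swp j (f x) := by
  ext x y
  simp [swp, Matrix.sum_apply]

theorem swp_pureM (j : τ) (g : τ → Matrix (Fin m) (Fin m) F) :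
    swp j (pureM g) = pureM (Function.update g j (g j)ᵀ) := by
  ext x y
  rw [swp, Matrix.of_apply, pureM_apply, pureM_apply]
  refine Finset.prod_congr rfl fun k _ => ?_
  by_cases h : k = j
  · subst h; simp
  · simp [h]

theorem pureM_update_smul (g : τ → Matrix (Fin m) (Fin m) F) (j : τ) (c : F) (A : Matrix (Fin m) (Fin m) F) :
    pureM (Function.update g j (c • A)) = c • pureM (Function.update g j A) := by
  ext x y
  simp only [Matrix.smul_apply, pureM_apply, smul_eq_mul]
  rw [← Finset.mul_prod_erase _ _ (Finset.mem_univ j), ← Finset.mul_prod_erase _ _ (Finset.mem_univ j),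
    Function.update_self, Function.update_self, Matrix.smul_apply, smul_eq_mul, mul_assoc]
  congr 2
  refine Finset.prod_congr rfl fun k hk => ?_
  rw [Function.update_of_ne (Finset.ne_of_mem_erase hk), Function.update_of_ne (Finset.ne_of_mem_erase hk)]

variable {J : Matrix (Fin m) (Fin m) F}

theorem plc_smul (j : τ) (c : F) (S : Matrix (Fin m) (Fin m) F) : plc J j (c • S) = c • plc J j S :=
  pureM_update_smul _ j c S

theorem plc_eq (j : τ) (S : Matrix (Fin m) (Fin m) F) : plc J j S = ins j (JJ J (Rest j)) S := by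
  rw [ins_pureM, plc]
  refine congrArg pureM (funext fun k => ?_)
  by_cases hk : k = j
  · subst hk; rw [Function.update_self, Function.update_self]
  · rw [Function.update_of_ne hk, Function.update_of_ne hk, extend, dif_neg hk]

theorem JJ_mul_embM (j : τ) (s : Matrix (Fin m) (Fin m) F) : JJ J τ * embM j s = plc J j (J * s) := by
  rw [embM, pureM_mul, plc]
  refine congrArg pureM (funext fun k => ?_)
  by_cases hk : k = j
  · subst hk; simp
  · simp [Function.update_of_ne hk]

theorem swp_plc_ne (hJ : AForm J) {j k : τ} (h : j ≠ k) (S : Matrix (Fin m) (Fin m) F) :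
    swp j (plc J k S) = -plc J k S := by
  rw [plc, swp_pureM, Function.update_of_ne h, hJ.skew, ← neg_one_smul F J, pureM_update_smul, neg_one_smul]
  congr 2
  funext l
  by_cases hl : l = j
  · subst hl; simp [Function.update_of_ne h]
  · simp [hl]

theorem swp_plc_self {j : τ} {S : Matrix (Fin m) (Fin m) F} (hS : Sᵀ = S) : swp j (plc J j S) = plc J j S := by
  rw [plc, swp_pureM, Function.update_self, hS, Function.update_idem]

theorem transpose_plc (hJ : AForm J) {j : τ} {S : Matrix (Fin m) (Fin m) F} (hS : Sᵀ = S) :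
    (plc J j S)ᵀ = (-(-1 : F) ^ Fintype.card τ) • plc J j S := by
  have hsign : (-1 : F) ^ Fintype.card (Rest j) = -(-1) ^ Fintype.card τ := by
    have h : Fintype.card τ = Fintype.card (Rest j) + 1 := by
      have := Fintype.card_pos_iff.2 (⟨j⟩ : Nonempty τ)
      rw [Fintype.card_subtype_compl, Fintype.card_subtype_eq]
      omega
    rw [h, pow_succ]; ring
  rw [plc_eq, ins, Matrix.transpose_submatrix, ← Matrix.kroneckerMap_transpose, transpose_JJ hJ, hS,
    Matrix.smul_kronecker, hsign]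
  rfl

/-- When all the one-factor symmetrisations vanish. -/
theorem transpose_of_swp {L : Matrix (Ix τ m) (Ix τ m) F} (h : ∀ j, L + swp j L = 0) :
    Lᵀ = (-1 : F) ^ Fintype.card τ • L := by
  have key : ∀ (s : Finset τ) (x y : Ix τ m),
      L (s.piecewise y x) (s.piecewise x y) = (-1 : F) ^ s.card * L x y := by
    intro s
    induction s using Finset.induction with
    | empty => intro x y; simp
    | insert a s ha IH =>
      intro x y
      have e := congrFun₂ (h a) (s.piecewise y x) (s.piecewise x y)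
      rw [Matrix.add_apply, Matrix.zero_apply, swp, Matrix.of_apply, Finset.piecewise_eq_of_notMem _ _ _ ha,
        Finset.piecewise_eq_of_notMem _ _ _ ha, IH] at e
      rw [Finset.piecewise_insert, Finset.piecewise_insert, Finset.card_insert_of_notMem ha, pow_succ]
      linear_combination e
  ext x y
  have := key Finset.univ x y
  rw [Finset.piecewise_univ, Finset.piecewise_univ, Finset.card_univ] at this
  rw [Matrix.transpose_apply, Matrix.smul_apply, smul_eq_mul, this]

/-- The symmetrisation at a factor with scalar contractions. -/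
theorem exists_sym (hJ : AForm J) (i : τ) {Y : Matrix (Ix τ m) (Ix τ m) F}
    {Z : Matrix (Ix (Rest i) m × Fin m) (Ix (Rest i) m × Fin m) F} (hY : back i Z = Y) (c : (Fin m → F) → F)
    (hc : ∀ w, contr J w Z = c w • (1 : Matrix (Ix (Rest i) m) (Ix (Rest i) m) F)) :
    ∃ S : Matrix (Fin m) (Fin m) F, Sᵀ = S ∧ ((∀ w, c w = 0) → S = 0) ∧
      JJ J τ * Y + swp i (JJ J τ * Y) = plc J i S := by
  obtain ⟨A, hA⟩ : ∃ A, A = JJ J (Rest i) := ⟨_, rfl⟩
  obtain ⟨Lv, hLv⟩ : ∃ Lv, Lv = (A ⊗ₖ J) * Z := ⟨_, rfl⟩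
  have hL : JJ J τ * Y = back i Lv := by
    rw [hLv, back_mul, hA, ← JJ_eq, hY]
  have quad : ∀ w, kr (Ix (Rest i) m) w * Lv * kc (Ix (Rest i) m) w = (-c w) • A := fun w => by
    rw [hLv, ← Matrix.mul_assoc, TensorMax.kr_mul_kron, hJ.vecMul_eq, ← neg_one_smul F (J *ᵥ w), TensorMax.kr_smul,
      Matrix.mul_smul, Matrix.smul_mul, Matrix.smul_mul, Matrix.mul_assoc, Matrix.mul_assoc, ← Matrix.mul_assoc (kr _ _),
      show kr (Ix (Rest i) m) (J *ᵥ w) * Z * kc (Ix (Rest i) m) w = contr J w Z from rfl, hc, Matrix.mul_smul,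
      Matrix.mul_one, smul_smul, neg_one_mul]
  have ent : ∀ (p q : Fin m) (a b : Ix (Rest i) m),
      (kr (Ix (Rest i) m) (Pi.single p (1 : F)) * Lv * kc (Ix (Rest i) m) (Pi.single q (1 : F))) a b =
        Lv (a, p) (b, q) := fun p q a b => by
    rw [Matrix.mul_assoc, TensorSymp.kr_mul_apply, single_dotProduct, one_mul, Matrix.mul_apply,
      Fintype.sum_eq_single (b, q)]
    · simp [TensorMax.kc_apply]
    · rintro ⟨b', q'⟩ hne
      rw [TensorMax.kc_apply]
      split_ifs with hb
      · subst hb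
        rw [Pi.single_eq_of_ne (fun e => hne (by rw [e])), mul_zero]
      · rw [mul_zero]
  refine ⟨Matrix.of fun p q => -(c (Pi.single p 1 + Pi.single q 1) - c (Pi.single p 1) - c (Pi.single q 1)),
    ?_, ?_, ?_⟩
  · ext p q
    simp only [Matrix.transpose_apply, Matrix.of_apply, add_comm (Pi.single q 1 : Fin m → F)]
    ring
  · intro h0
    ext p q
    simp [h0]
  have pol : ∀ (p q : Fin m) (a b : Ix (Rest i) m), Lv (a, p) (b, q) + Lv (a, q) (b, p) =
      -(c (Pi.single p 1 + Pi.single q 1) - c (Pi.single p 1) - c (Pi.single q 1)) * A a b := fun p q a b => by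
    have e1 := congrFun₂ (quad (Pi.single p 1 + Pi.single q 1)) a b
    have e2 := congrFun₂ (quad (Pi.single p 1)) a b
    have e3 := congrFun₂ (quad (Pi.single q 1)) a b
    simp only [TensorMax.kr_add, TensorMax.kc_add, Matrix.add_mul, Matrix.mul_add, Matrix.add_apply, ent,
      Matrix.smul_apply, smul_eq_mul] at e1 e2 e3
    linear_combination e1 - e2 - e3
  ext x y
  rw [plc_eq, ins_apply, ← hA, Matrix.add_apply, hL, swp, Matrix.of_apply, Matrix.of_apply]
  show Lv (spl i x) (spl i y) + Lv (spl i (Function.update x i (y i))) (spl i (Function.update y i (x i))) = _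
  have e : ∀ (z : Ix τ m) (t : Fin m), spl i (Function.update z i t) = ((fun j : Rest i => z j), t) := fun z t => by
    rw [spl_apply, Function.update_self]
    exact Prod.ext (funext fun j => Function.update_of_ne j.2 t z) rfl
  rw [e, e, spl_apply, spl_apply, pol, mul_comm (A _ _)]

theorem det_unit (hJ : AForm J) [NeZero m] : IsUnit (JJ J τ).det := Ne.isUnit (det_JJ hJ)

theorem mul_JJ_cancel (hJ : AForm J) [NeZero m] {X Y : Matrix (Ix τ m) (Ix τ m) F}
    (h : JJ J τ * X = JJ J τ * Y) : X = Y := by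
  rw [← Matrix.nonsing_inv_mul_cancel_left _ X (det_unit hJ (τ := τ)), h,
    Matrix.nonsing_inv_mul_cancel_left _ Y (det_unit hJ (τ := τ))]

/-- A skew matrix with scalar contractions is a sum over the factors. -/
theorem exists_sum (hJ : AForm J) (h2 : (2 : F) ≠ 0) [NeZero m]
    {Y : Matrix (Ix τ m) (Ix τ m) F} (hskew : (JJ J τ * Y)ᵀ = (-(-1 : F) ^ Fintype.card τ) • (JJ J τ * Y))
    (hc : ∀ i : τ, ∃ (Z : Matrix (Ix (Rest i) m × Fin m) (Ix (Rest i) m × Fin m) F) (c : (Fin m → F) → F),
      back i Z = Y ∧ ∀ w, contr J w Z = c w • (1 : Matrix (Ix (Rest i) m) (Ix (Rest i) m) F)) :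
    ∃ s : τ → Matrix (Fin m) (Fin m) F, (∀ i, (J * s i)ᵀ = J * s i) ∧ Y = ∑ i, embM i (s i) := by
  have : ∀ i : τ, ∃ S : Matrix (Fin m) (Fin m) F, Sᵀ = S ∧ JJ J τ * Y + swp i (JJ J τ * Y) = plc J i S := fun i => by
    obtain ⟨Z, c, hZ, hcw⟩ := hc i
    obtain ⟨S, h1, -, h3⟩ := exists_sym hJ i hZ c hcw
    exact ⟨S, h1, h3⟩
  choose S hS hLS using this
  obtain ⟨L, hL⟩ : ∃ L, L = JJ J τ * Y := ⟨_, rfl⟩
  rw [← hL] at hskew hLS
  obtain ⟨h, hh⟩ : ∃ h, h = (2 : F)⁻¹ := ⟨_, rfl⟩
  obtain ⟨L', hL'⟩ : ∃ L', L' = L - ∑ k, plc J k (h • S k) := ⟨_, rfl⟩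
  have z : ∀ i, L' + swp i L' = 0 := fun i => by
    have e1 : ∑ k, plc J k (h • S k) + swp i (∑ k, plc J k (h • S k)) = plc J i (S i) := by
      rw [swp_sum, ← Finset.sum_add_distrib, Fintype.sum_eq_single i]
      · rw [swp_plc_self (by rw [Matrix.transpose_smul, hS]), plc_smul, ← add_smul, hh,
          show (2 : F)⁻¹ + 2⁻¹ = 1 by field_simp; norm_num, one_smul]
      · intro k hk
        rw [swp_plc_ne hJ (Ne.symm hk), add_neg_cancel]
    rw [hL', swp_sub, show L - ∑ k, plc J k (h • S k) + (swp i L - swp i (∑ k, plc J k (h • S k))) =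
      L + swp i L - (∑ k, plc J k (h • S k) + swp i (∑ k, plc J k (h • S k))) by abel, e1, hLS, sub_self]
  have t1 := transpose_of_swp z
  have t2 : L'ᵀ = (-(-1 : F) ^ Fintype.card τ) • L' := by
    rw [hL', Matrix.transpose_sub, Matrix.transpose_sum, hskew,
      Finset.sum_congr rfl fun k _ => transpose_plc hJ (j := k) (S := h • S k) (by rw [Matrix.transpose_smul, hS]),
      ← Finset.smul_sum, ← smul_sub]
  have hz : L' = 0 := by
    have : (2 * (-1 : F) ^ Fintype.card τ) • L' = 0 := by linear_combination (norm := module) t2 - t1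
    exact (smul_eq_zero.1 this).resolve_left (mul_ne_zero h2 (pow_ne_zero _ (neg_ne_zero.2 one_ne_zero)))
  refine ⟨fun k => J⁻¹ * (h • S k), fun k => ?_, ?_⟩
  · rw [← Matrix.mul_assoc, Matrix.mul_nonsing_inv J hJ.isUnit_det, Matrix.one_mul, Matrix.transpose_smul, hS]
  refine mul_JJ_cancel hJ ?_
  show JJ J τ * Y = JJ J τ * _
  rw [Finset.mul_sum, ← hL, sub_eq_zero.1 (hL' ▸ hz : L - ∑ k, plc J k (h • S k) = 0)]
  refine Finset.sum_congr rfl fun k _ => ?_
  rw [JJ_mul_embM, ← Matrix.mul_assoc, Matrix.mul_nonsing_inv J hJ.isUnit_det, Matrix.one_mul]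

/-- A skew matrix without contractions is zero. -/
theorem eq_zero_of_contr (hJ : AForm J) (h2 : (2 : F) ≠ 0) [NeZero m]
    {K : Matrix (Ix τ m) (Ix τ m) F} (hK : adj (JJ J τ) K = -K)
    (hc : ∀ (i : τ) (w : Fin m → F) (Z : Matrix (Ix (Rest i) m × Fin m) (Ix (Rest i) m × Fin m) F),
      back i Z = K → contr J w Z = 0) : K = 0 := by
  obtain ⟨L, hL⟩ : ∃ L, L = JJ J τ * K := ⟨_, rfl⟩
  have z : ∀ i, L + swp i L = 0 := fun i => by
    obtain ⟨Z, hZ⟩ : ∃ Z, back i Z = K := ⟨K.submatrix (spl i).symm (spl i).symm, by simp [TensorWreathU.back]⟩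
    obtain ⟨S, -, h0, h3⟩ := exists_sym hJ i hZ (fun _ => 0) fun w => by rw [hc i w Z hZ, zero_smul]
    rw [hL, h3, h0 fun _ => rfl, plc]
    exact pureM_eq_zero (i := i) (Function.update_self _ _ _)
  have t1 := transpose_of_swp z
  have e := congrArg (JJ J τ * ·) hK
  simp only [adj, ← Matrix.mul_assoc, Matrix.mul_nonsing_inv _ (det_unit hJ (τ := τ)), Matrix.one_mul,
    Matrix.mul_neg, ← hL] at e
  have hz : L = 0 := by
    have : (2 * (-1 : F) ^ Fintype.card τ) • L = 0 := by
      rw [hL, Matrix.transpose_mul, transpose_JJ hJ, Matrix.mul_smul, e, ← hL] at t1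
      linear_combination (norm := module) -t1
    exact (smul_eq_zero.1 this).resolve_left (mul_ne_zero h2 (pow_ne_zero _ (neg_ne_zero.2 one_ne_zero)))
  refine mul_JJ_cancel hJ ?_
  show JJ J τ * K = JJ J τ * 0
  rw [Matrix.mul_zero, ← hL, hz]

end CfsgLib.Classical.TensorWreathS
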